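import Cfsg.Agent.Lib.A8Rec.EndCommon
import Cfsg.Agent.Lib.S2918Id.NoM12
import Cfsg.Agent.Lib.S3Extra.Alternating
import Cfsg.Agent.Lib.S3Extra.CaseZero
import Cfsg.Agent.Lib.S3Extra.CaseTwo

/-!
The shape `Q.S₃` gives the alternating groups of degree eight and nine.
-/

set_option autoImplicit false
set_option linter.style.haveILetI false
set_option maxRecDepth 20000

namespace Cfsg.Agent.A8Rec

open Subgroup

/-- The facts on the indices of the eights. -/
theorem eight_facts :
    (all64 fun i => !inQ i ||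
      any64 fun p => inU 1 p && any64 fun r => inU 32 r && mul p r == i) = true ∧
    (all64 fun i => !(inU 1 i && inU 32 i) || (i == 0 || i == 4)) = true ∧
    (all64 fun i => !(inU 1 i && inA i) || (i == 0 || i == 2 || i == 4 || i == 6)) = true ∧
    (all64 fun i => !(inU 1 i || inU 32 i) || (inQ i && mul i i == 0)) = true := by
  decide +kernel

/-- A noncyclic group of order six. -/
theorem six_group {W : Type*} [Group W] (h6 : Nat.card W = 6)
    (hc : ∀ y : W, y * y = 1 ∨ y * y * y = 1) :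
    (∀ u x : W, u ≠ 1 → u * u = 1 → x * x * x = 1 → u * x * u⁻¹ * x = 1) ∧
    (∀ u y : W, u ≠ 1 → u * u = 1 → y * u * y⁻¹ * u⁻¹ = 1 → y = 1 ∨ y * u = 1) := by
  haveI : Fact (Nat.Prime 3) := ⟨Nat.prime_three⟩
  haveI : Finite W := Nat.finite_of_card_ne_zero (by omega)
  have inv : ∀ u x : W, u ≠ 1 → u * u = 1 → x * x * x = 1 → u * x * u⁻¹ * x = 1 := by
    intro u x hu1 hu hx
    by_cases hx1 : x = 1
    · simp [hx1]
    have h3 : orderOf x = 3 := orderOf_eq_prime (by rw [pow_succ, pow_two, hx]) hx1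
    have hi : (zpowers x).index = 2 := by
      have h := (zpowers x).card_mul_index
      rw [Nat.card_zpowers, h3, h6] at h
      omega
    have huH : u ∉ zpowers x := fun h => by
      have h3' : orderOf u ∣ 3 := by
        have := Subgroup.orderOf_dvd_natCard (zpowers x) h
        rwa [Nat.card_zpowers, h3] at this
      have h2 : orderOf u ∣ 2 := orderOf_dvd_of_pow_eq_one (by rw [pow_two, hu])
      exact hu1 (orderOf_eq_one_iff.1 (Nat.eq_one_of_dvd_coprimes (by norm_num) h2 h3'))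
    have hinv : u⁻¹ = u := inv_eq_of_mul_eq_one_right hu
    rcases hc (u * x) with h | h
    · rw [hinv]; simpa [mul_assoc] using h
    · exfalso
      have hs := Subgroup.sq_mem_of_index_two hi (u * x)
      have h4 : u * x = ((u * x) ^ 2) ^ 2 := by
        rw [← pow_mul, show 2 * 2 = 3 + 1 from rfl, pow_succ, pow_succ, pow_two, h, one_mul]
      have hm : u * x ∈ zpowers x := h4 ▸ pow_mem hs 2
      exact huH ((Subgroup.mul_mem_cancel_right _ (mem_zpowers x)).1 hm)
  refine ⟨inv, fun u y hu1 hu hyu => ?_⟩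
  have hinv : u⁻¹ = u := inv_eq_of_mul_eq_one_right hu
  have hcm : y * u = u * y := by rwa [mul_inv_eq_one, mul_inv_eq_iff_eq_mul] at hyu
  rcases hc y with hy | hy
  · by_cases hy1 : y = 1
    · exact Or.inl hy1
    refine Or.inr (by_contra fun hyu1 => ?_)
    obtain ⟨x, hx⟩ := exists_prime_orderOf_dvd_card' (G := W) 3 (by rw [h6]; norm_num)
    have hx3 : x * x * x = 1 := by have := pow_orderOf_eq_one x; rwa [hx, pow_succ, pow_two] at this
    have a := inv u x hu1 hu hx3
    have b := inv y x hy1 hy hx3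
    have c := inv (y * u) x hyu1
      (by rw [mul_assoc y u, ← mul_assoc u y, ← hcm, mul_assoc, hu, mul_one, hy]) hx3
    have hu' : u * x * u⁻¹ = x⁻¹ := eq_inv_of_mul_eq_one_left a
    have hy' : y * x * y⁻¹ = x⁻¹ := eq_inv_of_mul_eq_one_left b
    have hxx : x * x = 1 := by
      calc x * x = (y * x * y⁻¹)⁻¹ * x := by rw [hy', inv_inv]
        _ = y * (u * x * u⁻¹) * y⁻¹ * x := by rw [hu']; group
        _ = y * u * x * (y * u)⁻¹ * x := by group
        _ = 1 := c
    have : x = 1 := by simpa [hxx] using hx3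
    rw [this, orderOf_one] at hx
    norm_num at hx
  · left
    have h2 : (y * u) * (y * u) = y * y := by
      rw [mul_assoc, ← mul_assoc u, ← hcm, mul_assoc, hu, mul_one]
    rcases hc (y * u) with h | h
    · rw [h2] at h
      rwa [h, one_mul] at hy
    · exfalso
      rw [h2, ← mul_assoc, hy, one_mul] at h
      exact hu1 h

variable {G : Type*} [Group G] [Finite G] (M : Model G)

/-- An element of order three fixes what it fixes modulo `z`. -/
theorem fixes {x p : G} (hx : x * M.z = M.z * x) (h3 : orderOf x = 3)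
    (h : x * p * x⁻¹ = p ∨ x * p * x⁻¹ = p * M.z) : x * p = p * x := by
  have key : x * p * x⁻¹ = p := by
    rcases h with h | h
    · exact h
    have h2 : x * (x * p * x⁻¹) * x⁻¹ = p := by
      calc x * (x * p * x⁻¹) * x⁻¹ = x * (p * M.z) * x⁻¹ := by rw [h]
        _ = x * p * x⁻¹ * (x * M.z * x⁻¹) := by group
        _ = p * (M.z * M.z) := by rw [hx, mul_inv_cancel_right, h, mul_assoc]
        _ = p := by rw [M.z_sq, mul_one]
    have hx3 : x ^ 3 = 1 := h3 ▸ pow_orderOf_eq_one x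
    calc x * p * x⁻¹ = x * (x * (x * p * x⁻¹) * x⁻¹) * x⁻¹ := by rw [h2]
      _ = x ^ 3 * p * (x ^ 3)⁻¹ := by rw [pow_succ, pow_two]; group
      _ = p := by rw [hx3, inv_one, one_mul, mul_one]
  exact mul_inv_eq_iff_eq_mul.1 key

namespace CaseS

variable {M} (C : CaseS M) (hO : M.O = ⊥)
include C hO

theorem dead {x : G} (hx : x * M.z = M.z * x) (h3 : orderOf x = 3) {i : ℕ} (hi : i < 64)
    (hU : inU 1 i = true ∨ inU 32 i = true) (h : x * M.el i = M.el i * x) : i = 0 ∨ i = 4 := by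
  have h1 := all64_iff.1 eight_facts.2.2.2 i hi
  have hb : (inU 1 i || inU 32 i) = true := by rcases hU with e | e <;> simp [e]
  simp only [hb, Bool.not_true, Bool.false_or, Bool.and_eq_true, beq_iff_eq] at h1
  by_contra hne
  obtain ⟨h0, h4⟩ := not_or.1 hne
  have := C.toTFacts.eq_one hO hi h1.1 h1.2 h0 h4 hx (by rw [h3]; decide) h
  rw [this, orderOf_one] at h3
  norm_num at h3

theorem conj_U {u : ℕ} (hu : u ∈ Us) {x : G} (hx : x * M.z = M.z * x) {p : G} (hp : p ∈ M.U u) :
    x * p * x⁻¹ ∈ M.U u := by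
  have h := C.normU u hu (mem_centralizer_singleton_iff.2 hx)
  rw [hO, sup_bot_eq] at h
  exact (mem_normalizer_iff.1 h p).1 hp

theorem fpf {x : G} (hx : x * M.z = M.z * x) (h3 : orderOf x = 3) {q : G} (hq : q ∈ M.Q)
    (hc : x * q = q * x) : q = 1 ∨ q = M.z := by
  obtain ⟨k, hk, hkQ, rfl⟩ := M.mem_Q.1 hq
  have h1 := all64_iff.1 eight_facts.1 k hk
  simp only [hkQ, Bool.not_true, Bool.false_or, any64_iff, Bool.and_eq_true, beq_iff_eq] at h1
  obtain ⟨a, ha, ha1, b, hb, hb32, rfl⟩ := h1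
  have h1u : (1 : ℕ) ∈ Us := by decide
  have h32u : (32 : ℕ) ∈ Us := by decide
  have hp' := C.conj_U hO h1u hx (p := M.el a) (M.el_mem_sub ha ha1)
  have hr' := C.conj_U hO h32u hx (p := M.el b) (M.el_mem_sub hb hb32)
  have hprod : x * M.el a * x⁻¹ * (x * M.el b * x⁻¹) = M.el a * M.el b := by
    rw [M.hmul a ha b hb]
    calc x * M.el a * x⁻¹ * (x * M.el b * x⁻¹) = x * (M.el a * M.el b) * x⁻¹ := by group
      _ = M.el (mul a b) := by rw [M.hmul a ha b hb, hc, mul_inv_cancel_right]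
  have hw1 : (M.el a)⁻¹ * (x * M.el a * x⁻¹) ∈ M.U 1 := mul_mem (inv_mem (M.el_mem_sub ha ha1)) hp'
  have hw32 : (M.el a)⁻¹ * (x * M.el a * x⁻¹) ∈ M.U 32 := by
    have e : (M.el a)⁻¹ * (x * M.el a * x⁻¹) = M.el b * (x * M.el b * x⁻¹)⁻¹ := by
      rw [eq_mul_inv_iff_mul_eq, mul_assoc, hprod, inv_mul_cancel_left]
    rw [e]
    exact mul_mem (M.el_mem_sub hb hb32) (inv_mem hr')
  obtain ⟨w, hw, hw1', ew⟩ := (M.mem_U h1u).1 hw1
  have hw32' : inU 32 w = true :=
    (M.el_mem_sub_iff (Model.closed_U h32u) hw).1 (ew ▸ hw32)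
  have h2 := all64_iff.1 eight_facts.2.1 w hw
  simp only [hw1', hw32', Bool.and_self, Bool.not_true, Bool.false_or, Bool.or_eq_true, beq_iff_eq] at h2
  have hfix : x * M.el a = M.el a * x := by
    refine fixes M hx h3 ?_
    rcases h2 with rfl | rfl
    · left
      rw [M.el_zero] at ew
      exact (inv_mul_eq_one.1 ew.symm).symm
    · right
      exact (eq_inv_mul_iff_mul_eq.1 ew).symm
  have hb' : x * M.el b = M.el b * x := by
    rw [← M.hmul a ha b hb, ← mul_assoc, hfix, mul_assoc, mul_assoc] at hc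
    exact mul_left_cancel hc
  rcases C.dead hO hx h3 ha (Or.inl ha1) hfix with rfl | rfl <;>
    rcases C.dead hO hx h3 hb (Or.inr hb32) hb' with rfl | rfl
  exacts [Or.inl M.el_zero, Or.inr rfl, Or.inr rfl, Or.inl M.el_zero]

theorem no_cyclic {x : G} (hx : x * M.z = M.z * x) (h3 : orderOf x = 3)
    (h : ∀ s ∈ (M.S : Subgroup G), x * s * x⁻¹ * s⁻¹ ∈ M.Q) : False := by
  have hN : x ∈ normalizer (M.A : Set G) := by
    refine M.conj_eq_A M.S.isPGroup' M.A_le ?_
    rintro _ ⟨a, ha, rfl⟩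
    simpa [mul_assoc] using mul_mem (M.Q_le (h a (M.A_le ha))) (M.A_le ha)
  have h1u : (1 : ℕ) ∈ Us := by decide
  have hU := C.conj_U hO h1u hx (p := M.el 2) (M.el_mem_sub (by norm_num) (by decide))
  have hA : x * M.el 2 * x⁻¹ ∈ M.A :=
    (mem_normalizer_iff.1 hN _).1 (M.el_mem_sub (by norm_num) (by decide))
  obtain ⟨i, hi, hi1, ei⟩ := (M.mem_U h1u).1 hU
  have hiA : inA i = true := (M.el_mem_sub_iff Model.closed_A hi).1 (by rw [ei]; exact hA)
  have h1 := all64_iff.1 eight_facts.2.2.1 i hi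
  simp only [hi1, hiA, Bool.and_self, Bool.not_true, Bool.false_or, Bool.or_eq_true, beq_iff_eq] at h1
  have back : M.el 2 = x⁻¹ * M.el i * x := by rw [ei]; group
  rcases h1 with ((rfl | rfl) | rfl) | rfl
  · rw [M.el_zero, mul_one, inv_mul_cancel, M.el_eq_one (by norm_num)] at back
    norm_num at back
  · rcases C.dead hO hx h3 (i := 2) (by norm_num) (Or.inl (by decide))
      (fixes M hx h3 (Or.inl ei.symm)) with h | h <;> norm_num at h
  · rw [show M.el 4 = M.z from rfl, mul_assoc, ← hx, inv_mul_cancel_left, Model.z,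
      M.el_eq_iff (by norm_num) (by norm_num)] at back
    norm_num at back
  · have h6 : M.el 6 = M.el 2 * M.z := by
      rw [Model.z, M.hmul 2 (by norm_num) 4 (by norm_num), show mul 2 4 = 6 by decide]
    rcases C.dead hO hx h3 (i := 2) (by norm_num) (Or.inl (by decide))
      (fixes M hx h3 (Or.inr (ei.symm.trans h6))) with h | h <;> norm_num at h

/-- The hypothesis of the identification. -/
theorem hyp : S3Extra.Hyp M.z M.Q := by
  classical
  haveI : Fact (Nat.Prime 3) := ⟨Nat.prime_three⟩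
  have T := C.toTFacts
  have hT : ∀ {g : G}, g ∈ M.T ↔ g * M.z = M.z * g := mem_centralizer_singleton_iff
  have hTc : Nat.card M.T = 192 := M.card_T hO C.card
  let K := M.Q.subgroupOf M.T
  haveI hKn : K.Normal := ⟨fun q hq t => T.norm hO (hT.1 t.2) hq⟩
  have hW : Nat.card (M.T ⧸ K) = 6 := by
    have h := K.card_eq_card_quotient_mul_card_subgroup
    rw [hTc, Nat.card_congr (subgroupOfEquivOfLe M.Q_le_T).toEquiv, M.card_Q] at h
    omega
  have hπ : ∀ t : M.T, (QuotientGroup.mk' K t : M.T ⧸ K) = 1 ↔ (t : G) ∈ M.Q := fun t =>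
    (QuotientGroup.eq_one_iff t).trans mem_subgroupOf
  have hc : ∀ y : M.T ⧸ K, y * y = 1 ∨ y * y * y = 1 := by
    intro y
    by_contra hne
    obtain ⟨h2, h3⟩ := not_or.1 hne
    have hy6 : orderOf y = 6 := by
      have hd : orderOf y ∣ 6 := hW ▸ orderOf_dvd_natCard y
      have hle := Nat.le_of_dvd (by norm_num) hd
      have hp := pow_orderOf_eq_one y
      have hpos := orderOf_pos y
      generalize orderOf y = n at hd hle hp hpos ⊢
      interval_cases n <;> norm_num at hd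
      · rw [pow_one] at hp
        exact absurd (by rw [hp, mul_one]) h2
      · exact absurd (by rw [← pow_two]; exact hp) h2
      · exact absurd (by rw [← pow_two, ← pow_succ]; exact hp) h3
      · rfl
    have htop : zpowers y = ⊤ := eq_top_of_card_eq _ (by rw [Nat.card_zpowers, hy6, hW])
    have hcomm : ∀ a b : M.T ⧸ K, a * b = b * a := fun a b => by
      obtain ⟨i, rfl⟩ := mem_zpowers_iff.1 (htop ▸ mem_top a)
      obtain ⟨j, rfl⟩ := mem_zpowers_iff.1 (htop ▸ mem_top b)
      exact (Commute.zpow_zpow_self y i j).eq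
    obtain ⟨x, hx⟩ := exists_prime_orderOf_dvd_card' (G := M.T) 3 (by rw [hTc]; norm_num)
    refine C.no_cyclic hO (hT.1 x.2) (by rw [Subgroup.orderOf_coe]; exact hx) fun s hs => ?_
    refine (hπ (x * ⟨s, M.S_le_T hs⟩ * x⁻¹ * (⟨s, M.S_le_T hs⟩ : M.T)⁻¹)).1 ?_
    simp only [map_mul, map_inv]
    rw [hcomm _ (QuotientGroup.mk' K ⟨s, M.S_le_T hs⟩)]
    group
  obtain ⟨hinv, hout⟩ := six_group hW hc
  refine
    { s_two := M.orderOf_z
      comm_s := fun q hq => M.Q_comm_z hq
      norm := fun g hg q hq => T.norm hO hg hq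
      card_Q := M.card_Q
      s_mem := M.z_mem_Q
      center := fun c hc h => M.Q_center hc h
      sq := fun q hq => M.Q_sq hq
      comm := fun a ha b hb => M.Q_comm ha hb
      card_cent := hTc
      fpf := fun x hx h3 q hq hc => C.fpf hO hx h3 hq hc
      invert := fun u x hu hx huQ huu hxxx => ?_
      outer := fun u y hu hy huQ huu hyu => ?_
      cases := fun y hy => ?_ }
  · have h := hinv (QuotientGroup.mk' K ⟨u, hT.2 hu⟩) (QuotientGroup.mk' K ⟨x, hT.2 hx⟩)
      (fun h => huQ ((hπ _).1 h)) (by rw [← map_mul]; exact (hπ _).2 huu)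
      (by rw [← map_mul, ← map_mul]; exact (hπ _).2 hxxx)
    rw [← map_inv, ← map_mul, ← map_mul, ← map_mul] at h
    exact (hπ _).1 h
  · have h := hout (QuotientGroup.mk' K ⟨u, hT.2 hu⟩) (QuotientGroup.mk' K ⟨y, hT.2 hy⟩)
      (fun h => huQ ((hπ _).1 h)) (by rw [← map_mul]; exact (hπ _).2 huu)
      (by rw [← map_inv, ← map_inv, ← map_mul, ← map_mul, ← map_mul]; exact (hπ _).2 hyu)
    rw [← map_mul] at h
    exact h.imp (hπ _).1 (hπ _).1
  · have h := hc (QuotientGroup.mk' K ⟨y, hT.2 hy⟩)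
    rw [← map_mul, ← map_mul] at h
    exact h.imp (hπ _).1 (hπ _).1

end CaseS

open S3Extra in
/-- The shape `Q.S₃` gives the alternating groups of degree eight and nine. -/
theorem endS (C : CaseS M) (hO : M.O = ⊥) (hnwc : ∃ u ∈ Us, IsConj M.z (M.el (pu u)))
    (hcore : Cfsg.pCore 2 G = ⊥) :
    Nonempty (G ≃* alternatingGroup (Fin 8)) ∨ Nonempty (G ≃* alternatingGroup (Fin 9)) := by
  classical
  have H := C.hyp hO
  obtain ⟨u, hu, hconj⟩ := hnwc
  obtain ⟨g, hg⟩ := isConj_iff.1 hconj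
  have hpu : pu u < 64 ∧ inQ (pu u) = true ∧ pu u ≠ 4 :=
    (show ∀ v ∈ Us, pu v < 64 ∧ inQ (pu v) = true ∧ pu v ≠ 4 by decide) u hu
  have hgQ : g * M.z * g⁻¹ ∈ M.Q := by rw [hg]; exact M.el_mem_sub hpu.1 hpu.2.1
  have hgs : g * M.z * g⁻¹ ≠ M.z := fun h => hpu.2.2 ((M.el_eq_iff hpu.1 (by norm_num)).1 (hg ▸ h))
  obtain ⟨P, δ, hPs, F, hPQ⟩ := H.exists_frame hgQ hgs
  cases δ with
  | true =>
    refine absurd M.card_A (S2918Id.no_sixteen F M.A ?_ ?_ ?_)
    · rw [hPs]; exact M.A_le_T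
    · intro a ha b hb
      have := M.ea_A.1
      exact congrArg Subtype.val (mul_comm' (⟨a, ha⟩ : ↥M.A) ⟨b, hb⟩)
    · intro a ha
      rw [← pow_two]
      exact M.ea_A.2 a ha
  | false =>
    have C' := S3Extra.ctype_of_frame (hPs.symm ▸ H) F hPQ
    have one : ∀ {P : S3Extra.Gens G}, S3Extra.CType M.Q P → IsConj P.s (P.el 8) → ¬ IsConj P.s (P.el 11) →
        Nonempty (G ≃* alternatingGroup (Fin 8)) ∨ Nonempty (G ≃* alternatingGroup (Fin 9)) :=
      fun C h8 h11 => by
        obtain ⟨P', -, O⟩ := S3Extra.exists_one C h8 h11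
        exact O.alternating
    by_cases h8 : IsConj P.s (P.el 8)
    · by_cases h11 : IsConj P.s (P.el 11)
      · exact (C'.case_two h8 h11).elim
      · exact one C' h8 h11
    · by_cases h11 : IsConj P.s (P.el 11)
      · obtain ⟨C₂, hel⟩ := C'.change S3Extra.flipB S3Extra.ok_flips.2.1
          (S3Extra.sg_flips.2.1.1.symm ▸ C'.fused)
        have hs' : (P.change S3Extra.flipB).s = P.s := S3Extra.el_one P
        obtain ⟨-, e8, e11, -⟩ := S3Extra.sg_flips.2.1
        exact one C₂ (by rwa [hs', hel, e8]) (by rwa [hs', hel, e11])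
      · exfalso
        obtain ⟨hN, -⟩ := C'.case_zero h8 h11
        have hn : (S3Extra.E8 P).Normal := normalizer_eq_top_iff.1 (eq_top_of_card_eq _ hN)
        have hle : S3Extra.E8 P ≤ ⊥ := hcore ▸ le_sSup
          ⟨hn, IsPGroup.of_card (n := 3) (by rw [C'.card_E]; norm_num)⟩
        have := C'.card_E
        rw [le_bot_iff.1 hle, card_bot] at this
        norm_num at this

end Cfsg.Agent.A8Rec
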