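import Cfsg.Agent.Lib.A8Rec.EndP
import Cfsg.Agent.Lib.A8Rec.EndS

/-!
The recognition from the two shapes of the centralizer of the central involution and the triviality
of its odd core.
-/

set_option autoImplicit false
set_option maxRecDepth 20000

namespace Cfsg.Agent.A8Rec

/-- Each pattern of three or nine points contains the element of `A` in some eight. -/
theorem pu_mem : ∀ L ∈ lines ++ grids, ∃ u ∈ Us, pu u ∈ L ∧ pu u < 64 ∧ inA (pu u) = true := by
  decide

variable {G : Type*} [Group G] [Finite G]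

/-- The group from the shape of the centralizer, once its odd core is trivial. -/
theorem recognize (M : Model G) (hres : Cfsg.pResidual 2 G = ⊤) (hcore : Cfsg.pCore 2 G = ⊥)
    (core : ∀ {L : List ℕ}, Facts M L → M.O = ⊥)
    (h : (CaseS M ∧ ∃ L ∈ lines ++ grids, Facts M L) ∨ (CaseP M ∧ ∃ L ∈ frames, Facts M L)) :
    Nonempty (G ≃* ↥(alternatingGroup (Fin 8))) ∨ Nonempty (G ≃* ↥(alternatingGroup (Fin 9))) ∨
      (∃ (F : Type) (_ : Field F) (_ : Fintype F), Fintype.card F = 3 ∧ Nonempty (G ≃* Cfsg.PSp 2 F)) := by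
  rcases h with ⟨C, L, hL, D⟩ | ⟨C, L, -, D⟩
  · obtain ⟨u, hu, huL, hlt, hA⟩ := pu_mem L hL
    rcases endS M C (core D) ⟨u, hu, (D.orb _ hlt hA).2 huL⟩ hcore with h | h
    exacts [Or.inl h, Or.inr (Or.inl h)]
  · exact Or.inr (Or.inr (endP M C (core D) hres))

end Cfsg.Agent.A8Rec
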