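import Cfsg.Agent.Lib.A8Rec.Model

/-!
Linear maps of the elementary abelian group of order sixteen, packed by the images of the unit
vectors, and the finite checks restricting the orbit of the central involution.
-/

set_option autoImplicit false
set_option maxRecDepth 20000

namespace Cfsg.Agent.A8Rec.Linear

/-- The image of a vector below 16. -/
def app (p a : ℕ) : ℕ :=
  Nat.xor (Nat.xor (if a % 2 == 1 then p % 16 else 0) (if a / 2 % 2 == 1 then p / 16 % 16 else 0))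
    (Nat.xor (if a / 4 % 2 == 1 then p / 256 % 16 else 0) (if a / 8 % 2 == 1 then p / 4096 % 16 else 0))

/-- The image under a word. -/
def ev (gs : List ℕ) : List ℕ → ℕ → ℕ
  | [], a => a
  | t :: w, a => app (gs.getD t 33825) (ev gs w a)

/-- The packed map of a word. -/
def evMap (gs w : List ℕ) : ℕ := ev gs w 1 + 16 * ev gs w 2 + 256 * ev gs w 4 + 4096 * ev gs w 8

/-- A word leaving `L`, or fixing the point 2 and lying outside `St`. -/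
def badWord (St L gs w : List ℕ) : Bool :=
  let q := ev gs w 2
  (q == 2 && !St.contains (evMap gs w)) || !L.contains q

/-- Some word is bad. -/
def bad (St L gs : List ℕ) (ws : List (List ℕ)) : Bool := ws.any (badWord St L gs)

/-- The stabilizer induced by the Sylow group. -/
def vier : List ℕ := [33825, 42273, 35875, 44835]

/-- The stabilizer of order twelve. -/
def twelve : List ℕ := [33825, 42273, 35875, 44835, 46120, 39976, 5417, 15401, 38186, 48938, 5163, 16171]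

/-- All points. -/
def pts : List ℕ := (List.range 15).map (· + 1)

/-- The six. -/
def six : List ℕ := [1, 2, 3, 8, 9, 10, 11]

/-- A frame. -/
def frame8 : List ℕ := [2, 4, 5, 12, 15]

/-- The other frame. -/
def frame12 : List ℕ := [2, 6, 7, 13, 14]

/-- Words, by indices in the list of generators. -/
def w12 : List (List ℕ) :=
  [[0, 2, 0, 0],
  [0, 0, 2, 0, 0],
  [0, 8, 0, 0, 0],
  [0, 7, 0, 7, 0],
  [0, 11, 0, 11, 0],
  [0, 5, 0, 5, 0],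
  [0, 9, 0, 9, 0],
  [0, 3, 0, 3, 0],
  [0, 7, 0, 5, 0, 5, 0],
  [0, 5, 0, 0, 0],
  [0, 3, 0, 0],
  [0, 8, 0, 6, 0, 5, 0],
  [0, 4, 0, 9, 0],
  [0, 2, 0, 5, 0],
  [0, 0, 5, 0],
  [0, 3, 0, 9, 0],
  [0, 0, 7, 0],
  [0, 0, 0],
  [0, 0, 11, 0],
  [0, 4, 0, 11, 0],
  [0, 3, 0, 11, 0],
  [0, 0],
  [0, 4, 0, 7, 0],
  [0, 4, 0, 5, 0],
  [0, 2, 0, 7, 0],
  [0, 0, 0, 3, 0],
  [0, 3, 0, 5, 0],
  [0, 3, 0, 7, 0],
  [0, 6, 0, 0],
  [0, 2, 0, 11, 0],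
  [0, 2, 0],
  [0, 3, 0],
  [0, 5, 0],
  [0, 9, 0],
  [0, 7, 0],
  [0, 11, 0],
  [0, 2, 0, 9, 0],
  [0, 0, 3, 0],
  [0, 5, 0, 0],
  [0, 7, 0, 0, 0],
  [0, 6, 0, 0, 0],
  [0, 0, 0, 9, 0],
  [0, 0, 0, 7, 0],
  [0, 0, 0, 11, 0],
  [0, 0, 0, 5, 0],
  [0, 12, 0],
  [0, 8, 0],
  [0, 9, 0, 0],
  [0, 6, 0],
  [0, 10, 0]]

/-- Words, by indices in the list of generators. -/
def wF8 : List (List ℕ) :=
  [[0, 2, 0],
  [0, 0],
  [0, 3, 0],
  [0, 0, 0],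
  [0, 2, 0, 0],
  [0, 3, 0, 0],
  [0, 4, 0, 3, 0],
  [0, 4, 0, 2, 0],
  [0, 4, 0, 0],
  [0, 3, 0, 2, 0],
  [0, 2, 0, 2, 0]]

/-- Words, by indices in the list of generators. -/
def wF12 : List (List ℕ) :=
  [[0, 0],
  [0, 2, 0],
  [0, 3, 0],
  [0, 0, 0],
  [0, 2, 0, 0],
  [0, 3, 0, 0],
  [0, 4, 0, 3, 0],
  [0, 4, 0, 2, 0],
  [0, 4, 0, 0],
  [0, 3, 0, 2, 0],
  [0, 2, 0, 2, 0]]

/-- Words, by indices in the list of generators. -/
def wSixA : List (List ℕ) :=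
  [[0, 2, 0],
  [0, 2, 0, 0],
  [0, 0, 3, 0],
  [0, 3, 0, 3, 0],
  [0, 0, 0],
  [0, 3, 0, 0, 0],
  [0, 3, 0, 0],
  [0, 4, 0, 0, 0],
  [0, 4, 0, 0],
  [0, 0],
  [0, 4, 0]]

/-- Words, by indices in the list of generators. -/
def wSixB : List (List ℕ) :=
  [[0, 0],
  [0, 0, 0],
  [0, 0, 2, 0],
  [0, 4, 0, 0],
  [0, 2, 0, 0],
  [0, 4, 0],
  [0, 2, 0, 2, 0],
  [0, 2, 0, 0, 0],
  [0, 4, 0, 0, 0],
  [0, 3, 0],
  [0, 2, 0]]

/-- Words, by indices in the list of generators. -/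
def wSix : List (List ℕ) :=
  [[1, 0]]

/-- Words, by indices in the list of generators. -/
def wAllA : List (List ℕ) :=
  [[0, 3, 0, 4, 0, 3, 0],
  [0, 0, 2, 0, 0],
  [0, 2, 0, 4, 0, 2, 0],
  [0, 4, 0, 0, 4, 0],
  [0, 3, 0, 3, 0],
  [0, 0, 0],
  [0, 2, 0, 2, 0],
  [0, 4, 0, 4, 0],
  [0, 2, 0, 0, 0],
  [0, 2, 0, 0, 0, 0],
  [0, 3, 0, 4, 0, 0],
  [0, 4, 0, 3, 0, 0],
  [0, 0, 2, 0, 2, 0],
  [0, 4, 0, 0],
  [0, 0, 0, 2, 0, 0],
  [0, 0, 4, 0, 2, 0],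
  [0, 4, 0, 3, 0, 4, 0],
  [0, 0, 2, 0, 2, 0, 0],
  [0, 3, 0, 2, 0],
  [0, 0, 3, 0, 2, 0],
  [0, 0, 2, 0, 4, 0],
  [0, 4, 0, 2, 0],
  [0, 0, 2, 0, 3, 0],
  [0, 0, 3, 0],
  [0, 0, 0, 4, 0, 0],
  [0, 0, 0, 2, 0],
  [0, 0, 2, 0, 0, 0],
  [0, 3, 0, 0],
  [0, 0, 0, 0, 2, 0],
  [0, 3, 0, 0, 3, 0],
  [0, 3, 0, 0, 0],
  [0, 2, 0, 3, 0],
  [0, 3, 0, 0, 2, 0],
  [0, 3, 0, 4, 0],
  [0, 0, 3, 0, 4, 0],
  [0, 0, 0, 0, 3, 0],
  [0, 2, 0, 3, 0, 2, 0],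
  [0, 0, 3, 0, 0],
  [0, 0, 4, 0, 0],
  [0, 3, 0, 2, 0, 0, 0],
  [0, 2, 0, 2, 0, 0],
  [0, 0, 0, 0, 4, 0],
  [0, 4, 0, 4, 0, 0],
  [0, 3, 0, 3, 0, 0],
  [0, 4, 0, 0, 0],
  [0, 3, 0, 0, 0, 0],
  [0, 0, 4, 0, 3, 0],
  [0, 4, 0, 0, 0, 0],
  [0, 3, 0, 2, 0, 3, 0],
  [0, 2, 0, 4, 0],
  [0, 4, 0, 0, 2, 0],
  [0, 4, 0, 2, 0, 4, 0]]

/-- Words, by indices in the list of generators. -/
def wAllB : List (List ℕ) :=
  [[0, 3, 0, 4, 0, 3, 0],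
  [0, 0, 2, 0, 0],
  [0, 2, 0, 4, 0, 2, 0],
  [0, 4, 0, 0, 4, 0],
  [0, 3, 0, 3, 0],
  [0, 2, 0, 2, 0],
  [0, 0, 0],
  [0, 4, 0, 4, 0],
  [0, 2, 0, 0, 0],
  [0, 2, 0, 0, 0, 0],
  [0, 3, 0, 4, 0, 0],
  [0, 4, 0, 3, 0, 0],
  [0, 0, 2, 0, 2, 0],
  [0, 4, 0, 0],
  [0, 0, 0, 2, 0, 0],
  [0, 0, 4, 0, 2, 0],
  [0, 4, 0, 3, 0, 4, 0],
  [0, 0, 2, 0, 2, 0, 0],
  [0, 0, 3, 0, 2, 0],
  [0, 4, 0, 2, 0],
  [0, 0, 2, 0, 4, 0],
  [0, 3, 0, 2, 0],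
  [0, 0, 2, 0, 3, 0],
  [0, 0, 3, 0],
  [0, 0, 0, 4, 0, 0],
  [0, 0, 3, 0, 4, 0],
  [0, 4, 0, 3, 0],
  [0, 0, 4, 0, 3, 0],
  [0, 3, 0, 2, 0, 0, 0],
  [0, 3, 0, 0, 0],
  [0, 3, 0, 0],
  [0, 2, 0, 3, 0],
  [0, 0, 0, 0, 2, 0],
  [0, 2, 0, 2, 0, 0],
  [0, 2, 0, 3, 0, 2, 0],
  [0, 3, 0, 0, 2, 0],
  [0, 0, 4, 0, 0],
  [0, 0, 3, 0, 0],
  [0, 3, 0, 4, 0],
  [0, 0, 0, 0, 3, 0],
  [0, 0, 0, 0, 4, 0],
  [0, 0, 0, 2, 0],
  [0, 4, 0, 0, 0, 0],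
  [0, 3, 0, 0, 3, 0],
  [0, 4, 0, 4, 0, 0],
  [0, 3, 0, 3, 0, 0],
  [0, 4, 0, 0, 0],
  [0, 3, 0, 0, 0, 0],
  [0, 4, 0, 0, 2, 0],
  [0, 4, 0, 2, 0, 4, 0],
  [0, 2, 0, 4, 0],
  [0, 3, 0, 2, 0, 3, 0]]

/-- Words, by indices in the list of generators. -/
def wAll : List (List ℕ) :=
  [[0, 1, 0],
  [0, 3, 1, 0],
  [0, 4, 1, 0],
  [0, 5, 1, 0],
  [0, 1, 4, 0],
  [0, 1, 1, 0],
  [0, 1, 5, 0],
  [0, 1, 3, 0]]

/-- Maps not refuted by words in one of them. -/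
def sSixA : List ℕ :=
  [18450, 26898, 23058, 31506, 19475, 31763, 24339, 28435]

/-- Maps not refuted by words in one of them. -/
def sSixB : List ℕ :=
  [8580, 42372, 10630, 44934, 9100, 44940, 42382, 11150]

/-- Maps not refuted by words in one of them. -/
def sAllA : List ℕ :=
  [47427, 64067, 45639, 62791, 4680, 23112, 57931, 43339, 4940, 24396, 41807, 60495]

/-- Maps not refuted by words in one of them. -/
def sAllB : List ℕ :=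
  [56419, 48995, 53605, 46181, 5224, 31848, 50283, 44907, 42349, 51309, 5486, 31598]

/-- A map without kernel. -/
def inj (p : ℕ) : Bool := pts.all fun a => app p a != 0

/-- Every bijective map sending the point 2 to `k` is bad or listed. -/
def single (St L : List ℕ) (ws : List (List ℕ)) (k : ℕ) (surv : List ℕ) : Bool :=
  pts.all fun i => pts.all fun j => pts.all fun l =>
    let p := i + 16 * k + 256 * j + 4096 * l
    !inj p || bad St L (p :: St) ws || surv.contains p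

/-- Every pair of listed maps is bad. -/
def pair (St L : List ℕ) (ws : List (List ℕ)) (s t : List ℕ) : Bool :=
  s.all fun p => t.all fun q => bad St L (p :: q :: St) ws

theorem twelve_two : single twelve pts w12 1 [] = true := by decide +kernel

theorem vier_frame8 : single vier frame8 wF8 4 [] = true := by decide +kernel

theorem vier_frame12 : single vier frame12 wF12 6 [] = true := by decide +kernel

theorem vier_sixA : single vier six wSixA 1 sSixA = true := by decide +kernel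

theorem vier_sixB : single vier six wSixB 8 sSixB = true := by decide +kernel

theorem vier_six : pair vier six wSix sSixA sSixB = true := by decide +kernel

theorem vier_allA : single vier pts wAllA 4 sAllA = true := by decide +kernel

theorem vier_allB : single vier pts wAllB 6 sAllB = true := by decide +kernel

theorem vier_all : pair vier pts wAll sAllA sAllB = true := by decide +kernel

end Cfsg.Agent.A8Rec.Linear
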