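import Cfsg.Agent.Lib.A8Rec.Iface
import Cfsg.Agent.Lib.A8Rec.Linear

/-!
The action of the normalizer of `A` on `A` by packed linear maps: `el (2 * a)`, `a < 16`, lists `A`.
-/

set_option autoImplicit false
set_option maxRecDepth 20000
set_option linter.unusedSectionVars false

namespace Cfsg.Agent.A8Rec

open Subgroup Linear

theorem half_of_inA : (all64 fun i => !inA i || (2 * (i / 2) == i && decide (i / 2 < 16))) = true := by
  decide +kernel

theorem inA_double : (List.range 16).all (fun a => inA (2 * a)) = true := by decide +kernel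

theorem mul_double : (List.range 16).all (fun a => (List.range 16).all fun b =>
    mul (2 * a) (2 * b) == 2 * Nat.xor a b && decide (Nat.xor a b < 16)) = true := by
  decide +kernel

theorem app_pack_aux : (List.range 16).all (fun a => (List.range 16).all fun b => (List.range 16).all fun c =>
    (List.range 16).all fun d =>
      let p := a + 16 * b + 256 * c + 4096 * d
      app p 1 == a && app p 2 == b && app p 4 == c && app p 8 == d) = true := by
  decide +kernel

theorem app_xor (p a b : ℕ) : app p (Nat.xor a b) = Nat.xor (app p a) (app p b) := by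
  have key : ∀ (m k : ℕ) (x : ℕ), (if (a ^^^ b) / 2 ^ k % 2 == 1 then x else 0) =
      (if a / 2 ^ k % 2 == 1 then x else 0) ^^^ (if b / 2 ^ k % 2 == 1 then x else 0) := by
    intro _ k x
    have h := Nat.testBit_xor (x := a) (y := b) (i := k)
    simp only [Nat.testBit_eq_decide_div_mod_eq] at h
    rcases Nat.mod_two_eq_zero_or_one (a / 2 ^ k) with ha | ha <;>
      rcases Nat.mod_two_eq_zero_or_one (b / 2 ^ k) with hb | hb <;>
      simp_all
  have k0 := key 0 0 (p % 16)
  have k1 := key 0 1 (p / 16 % 16)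
  have k2 := key 0 2 (p / 256 % 16)
  have k3 := key 0 3 (p / 4096 % 16)
  simp only [pow_zero, Nat.div_one, beq_iff_eq, show (2:ℕ) ^ 1 = 2 from rfl, show (2:ℕ) ^ 2 = 4 from rfl,
    show (2:ℕ) ^ 3 = 8 from rfl] at k0 k1 k2 k3
  simp only [app, show ∀ x y : ℕ, Nat.xor x y = x ^^^ y from fun _ _ => rfl, beq_iff_eq]
  rw [k0, k1, k2, k3]
  ac_rfl

variable {G : Type*} [Group G]

/-- `n` acts on `A` by the packed map `p`. -/
def Model.Acts (M : Model G) (n : G) (p : ℕ) : Prop :=
  ∀ a < 16, app p a < 16 ∧ n * M.el (2 * a) * n⁻¹ = M.el (2 * app p a)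

namespace Model

variable (M : Model G)

theorem double_mem {a : ℕ} (ha : a < 16) : M.el (2 * a) ∈ M.A :=
  M.el_mem_sub (by omega) (List.all_eq_true.1 inA_double a (List.mem_range.2 ha))

theorem exists_double {x : G} (hx : x ∈ M.A) : ∃ a < 16, M.el (2 * a) = x := by
  obtain ⟨i, hi, hiA, rfl⟩ := M.mem_A.1 hx
  have h := all64_iff.1 half_of_inA i hi
  simp only [hiA, Bool.not_true, Bool.false_or, Bool.and_eq_true, beq_iff_eq, decide_eq_true_eq] at h
  exact ⟨i / 2, h.2, by rw [h.1]⟩

theorem double_mul {a b : ℕ} (ha : a < 16) (hb : b < 16) :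
    Nat.xor a b < 16 ∧ M.el (2 * a) * M.el (2 * b) = M.el (2 * Nat.xor a b) := by
  have h := List.all_eq_true.1 (List.all_eq_true.1 mul_double a (List.mem_range.2 ha)) b (List.mem_range.2 hb)
  simp only [Bool.and_eq_true, beq_iff_eq, decide_eq_true_eq] at h
  exact ⟨h.2, by rw [M.hmul _ (by omega) _ (by omega), h.1]⟩

theorem double_inj {a b : ℕ} (ha : a < 16) (hb : b < 16) (h : M.el (2 * a) = M.el (2 * b)) : a = b := by
  have := M.inj _ (by omega) _ (by omega) h
  omega

/-- Every element of the normalizer acts by a packed map. -/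
theorem exists_acts {n : G} (hn : n ∈ normalizer (M.A : Set G)) :
    ∃ i < 16, ∃ j < 16, ∃ k < 16, ∃ l < 16, M.Acts n (i + 16 * j + 256 * k + 4096 * l) := by
  have himg : ∀ a : ℕ, a < 16 → ∃ b < 16, M.el (2 * b) = n * M.el (2 * a) * n⁻¹ := fun a ha =>
    M.exists_double ((mem_normalizer_iff.1 hn _).1 (M.double_mem ha))
  choose f hf16 hf using himg
  refine ⟨f 1 (by norm_num), hf16 _ _, f 2 (by norm_num), hf16 _ _, f 4 (by norm_num), hf16 _ _,
    f 8 (by norm_num), hf16 _ _, ?_⟩
  set p := f 1 (by norm_num) + 16 * f 2 (by norm_num) + 256 * f 4 (by norm_num) + 4096 * f 8 (by norm_num)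
  have hadd : ∀ a b : ℕ, (ha : a < 16) → (hb : b < 16) → (hab : Nat.xor a b < 16) →
      f (Nat.xor a b) hab = Nat.xor (f a ha) (f b hb) := by
    intro a b ha hb hab
    refine M.double_inj (hf16 _ _) (M.double_mul (hf16 a ha) (hf16 b hb)).1 ?_
    rw [hf, ← (M.double_mul (hf16 a ha) (hf16 b hb)).2, hf, hf, ← (M.double_mul ha hb).2]
    group
  have h0 : f 0 (by norm_num) = 0 := by
    refine M.double_inj (hf16 _ _) (by norm_num) ?_
    rw [hf]
    simp [M.el_zero]
  have hb := List.all_eq_true.1 (List.all_eq_true.1 (List.all_eq_true.1 (List.all_eq_true.1 app_pack_aux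
    _ (List.mem_range.2 (hf16 1 (by norm_num)))) _ (List.mem_range.2 (hf16 2 (by norm_num))))
    _ (List.mem_range.2 (hf16 4 (by norm_num)))) _ (List.mem_range.2 (hf16 8 (by norm_num)))
  simp only [Bool.and_eq_true, beq_iff_eq] at hb
  obtain ⟨⟨⟨e1, e2⟩, e4⟩, e8⟩ := hb
  have key : ∀ a : ℕ, (ha : a < 16) → app p a = f a ha := by
    have step : ∀ a b : ℕ, (ha : a < 16) → (hb : b < 16) → (hab : Nat.xor a b < 16) →
        app p (Nat.xor a b) = Nat.xor (app p a) (app p b) →
        app p a = f a ha → app p b = f b hb → app p (Nat.xor a b) = f (Nat.xor a b) hab :=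
      fun a b ha hb hab h1 h2 h3 => by rw [h1, h2, h3, hadd]
    have lin : ∀ a < 16, ∀ b < 16, app p (Nat.xor a b) = Nat.xor (app p a) (app p b) := fun a _ b _ =>
      app_xor p a b
    intro a ha
    have k1 : app p 1 = f 1 (by norm_num) := e1
    have k2 : app p 2 = f 2 (by norm_num) := e2
    have k4 : app p 4 = f 4 (by norm_num) := e4
    have k8 : app p 8 = f 8 (by norm_num) := e8
    have k3 := step 1 2 (by norm_num) (by norm_num) (by decide) (lin 1 (by norm_num) 2 (by norm_num)) k1 k2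
    have k5 := step 1 4 (by norm_num) (by norm_num) (by decide) (lin 1 (by norm_num) 4 (by norm_num)) k1 k4
    have k6 := step 2 4 (by norm_num) (by norm_num) (by decide) (lin 2 (by norm_num) 4 (by norm_num)) k2 k4
    have k7 := step 3 4 (by norm_num) (by norm_num) (by decide) (lin 3 (by norm_num) 4 (by norm_num)) k3 k4
    interval_cases a
    · simp [h0, app, Nat.xor]
    · exact k1
    · exact k2
    · exact k3
    · exact k4
    · exact k5
    · exact k6
    · exact k7
    · exact k8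
    · exact step 1 8 (by norm_num) (by norm_num) (by decide) (lin 1 (by norm_num) 8 (by norm_num)) k1 k8
    · exact step 2 8 (by norm_num) (by norm_num) (by decide) (lin 2 (by norm_num) 8 (by norm_num)) k2 k8
    · exact step 3 8 (by norm_num) (by norm_num) (by decide) (lin 3 (by norm_num) 8 (by norm_num)) k3 k8
    · exact step 4 8 (by norm_num) (by norm_num) (by decide) (lin 4 (by norm_num) 8 (by norm_num)) k4 k8
    · exact step 5 8 (by norm_num) (by norm_num) (by decide) (lin 5 (by norm_num) 8 (by norm_num)) k5 k8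
    · exact step 6 8 (by norm_num) (by norm_num) (by decide) (lin 6 (by norm_num) 8 (by norm_num)) k6 k8
    · exact step 7 8 (by norm_num) (by norm_num) (by decide) (lin 7 (by norm_num) 8 (by norm_num)) k7 k8
  exact fun a ha => by rw [key a ha]; exact ⟨hf16 a ha, (hf a ha).symm⟩

variable {M}

theorem Acts.mul {n m : G} {p q : ℕ} (hn : M.Acts n p) (hm : M.Acts m q) {a : ℕ} (ha : a < 16) :
    app p (app q a) < 16 ∧ n * m * M.el (2 * a) * (n * m)⁻¹ = M.el (2 * app p (app q a)) := by
  obtain ⟨h1, h2⟩ := hm a ha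
  obtain ⟨h3, h4⟩ := hn _ h1
  refine ⟨h3, ?_⟩
  rw [show n * m * M.el (2 * a) * (n * m)⁻¹ = n * (m * M.el (2 * a) * m⁻¹) * n⁻¹ by group, h2, h4]

/-- A word is realised in the normalizer. -/
theorem exists_word {gs : List ℕ}
    (hgs : ∀ g ∈ gs, ∃ n ∈ normalizer (M.A : Set G), M.Acts n g) (w : List ℕ) :
    ∃ n ∈ normalizer (M.A : Set G), ∀ a < 16,
      ev gs w a < 16 ∧ n * M.el (2 * a) * n⁻¹ = M.el (2 * ev gs w a) := by
  induction w with
  | nil => exact ⟨1, one_mem _, fun a ha => ⟨ha, by simp [ev]⟩⟩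
  | cons t w ih =>
    obtain ⟨m, hm, hma⟩ := ih
    have hid : ∀ a < 16, app 33825 a = a := by decide +kernel
    have hn : ∃ n ∈ normalizer (M.A : Set G), M.Acts n (gs.getD t 33825) := by
      by_cases h : t < gs.length
      · rw [List.getD_eq_getElem _ _ h]
        exact hgs _ (List.getElem_mem h)
      · rw [List.getD_eq_default _ _ (not_lt.1 h)]
        exact ⟨1, one_mem _, fun a ha => by rw [hid a ha]; exact ⟨ha, by simp⟩⟩
    obtain ⟨n, hn, hna⟩ := hn
    refine ⟨n * m, mul_mem hn hm, fun a ha => ?_⟩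
    obtain ⟨h1, h2⟩ := hma a ha
    obtain ⟨h3, h4⟩ := hna _ h1
    refine ⟨h3, ?_⟩
    show n * m * M.el (2 * a) * (n * m)⁻¹ = M.el (2 * app (gs.getD t 33825) (ev gs w a))
    rw [show n * m * M.el (2 * a) * (n * m)⁻¹ = n * (m * M.el (2 * a) * m⁻¹) * n⁻¹ by group, h2, h4]

/-- No list of maps induced by `N(A)` is refuted by a word. -/
theorem not_bad {St L gs : List ℕ} {ws : List (List ℕ)}
    (hgs : ∀ g ∈ gs, ∃ n ∈ normalizer (M.A : Set G), M.Acts n g)
    (hSt : ∀ n ∈ M.T ⊓ normalizer (M.A : Set G), ∃ p ∈ St, M.Acts n p)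
    (hSt' : St.all (fun p => app p 1 + 16 * app p 2 + 256 * app p 4 + 4096 * app p 8 == p) = true)
    (hL : ∀ n ∈ normalizer (M.A : Set G), ∀ a < 16, n * M.z * n⁻¹ = M.el (2 * a) → a ∈ L) :
    bad St L gs ws = false := by
  rw [bad, List.any_eq_false]
  intro w _
  obtain ⟨n, hn, hna⟩ := M.exists_word hgs w
  obtain ⟨h1, h2⟩ := hna 2 (by norm_num)
  simp only [badWord, Bool.or_eq_true, Bool.and_eq_true, beq_iff_eq, Bool.not_eq_true', not_or, not_and,
    Bool.not_eq_false, List.contains_iff_mem]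
  refine ⟨fun hq => ?_, hL n hn _ h1 h2⟩
  have hT : n ∈ M.T := mem_centralizer_singleton_iff.2 (by
    rw [hq] at h2
    exact mul_inv_eq_iff_eq_mul.1 h2)
  obtain ⟨p, hp, hpa⟩ := hSt n ⟨hT, hn⟩
  have he : ∀ a < 16, ev gs w a = app p a := fun a ha =>
    M.double_inj (hna a ha).1 (hpa a ha).1 ((hna a ha).2.symm.trans (hpa a ha).2)
  have hpk := List.all_eq_true.1 hSt' p hp
  rw [beq_iff_eq] at hpk
  rwa [evMap, he 1 (by norm_num), he 2 (by norm_num), he 4 (by norm_num), he 8 (by norm_num), hpk]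

/-- A map acting as an element of the normalizer survives the single check. -/
theorem mem_surv {St L surv : List ℕ} {ws : List (List ℕ)} {k : ℕ}
    (hc : single St L ws k surv = true)
    (hgs : ∀ g ∈ St, ∃ n ∈ normalizer (M.A : Set G), M.Acts n g)
    (hSt : ∀ n ∈ M.T ⊓ normalizer (M.A : Set G), ∃ p ∈ St, M.Acts n p)
    (hSt' : St.all (fun p => app p 1 + 16 * app p 2 + 256 * app p 4 + 4096 * app p 8 == p) = true)
    (hL : ∀ n ∈ normalizer (M.A : Set G), ∀ a < 16, n * M.z * n⁻¹ = M.el (2 * a) → a ∈ L)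
    {n : G} (hn : n ∈ normalizer (M.A : Set G)) (hk : n * M.z * n⁻¹ = M.el (2 * k)) (hk16 : k < 16) :
    ∃ p ∈ surv, M.Acts n p := by
  obtain ⟨i, hi, j, hj, l, hl, m, hm, hact⟩ := M.exists_acts hn
  set p := i + 16 * j + 256 * l + 4096 * m
  have hb := List.all_eq_true.1 (List.all_eq_true.1 (List.all_eq_true.1 (List.all_eq_true.1 app_pack_aux
    _ (List.mem_range.2 hi)) _ (List.mem_range.2 hj)) _ (List.mem_range.2 hl)) _ (List.mem_range.2 hm)
  simp only [Bool.and_eq_true, beq_iff_eq] at hb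
  obtain ⟨⟨⟨e1, e2⟩, e4⟩, e8⟩ := hb
  have hjk : j = k := M.double_inj hj hk16 (by
    rw [← e2]
    exact ((hact 2 (by norm_num)).2).symm.trans hk)
  have hne : ∀ a, a < 16 → a ≠ 0 → app p a ≠ 0 := fun a ha ha0 h0 => by
    have h := (hact a ha).2
    rw [h0, mul_zero, M.el_zero, conj_eq_one_iff, M.el_eq_one (by omega)] at h
    omega
  have hpts : ∀ a, a ∈ pts ↔ a < 16 ∧ a ≠ 0 := fun a => by
    simp only [pts, List.mem_map, List.mem_range]
    exact ⟨fun ⟨b, hb, e⟩ => by omega, fun h => ⟨a - 1, by omega, by omega⟩⟩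
  have h := List.all_eq_true.1 (List.all_eq_true.1 (List.all_eq_true.1 hc i ((hpts i).2 ⟨hi, ?_⟩))
    l ((hpts l).2 ⟨hl, ?_⟩)) m ((hpts m).2 ⟨hm, ?_⟩)
  · simp only [Bool.or_eq_true, Bool.not_eq_true', List.contains_iff_mem, ← hjk] at h
    rcases h with (h | h) | h
    · exfalso
      rw [Linear.inj, List.all_eq_false] at h
      obtain ⟨a, ha, ha0⟩ := h
      exact ha0 (bne_iff_ne.2 (hne a ((hpts a).1 ha).1 ((hpts a).1 ha).2))
    · rw [M.not_bad (List.forall_mem_cons.2 ⟨⟨n, hn, hact⟩, hgs⟩) hSt hSt' hL] at h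
      exact absurd h (by simp)
    · exact ⟨p, h, hact⟩
  · exact e1 ▸ hne 1 (by norm_num) (by norm_num)
  · exact e4 ▸ hne 4 (by norm_num) (by norm_num)
  · exact e8 ▸ hne 8 (by norm_num) (by norm_num)

variable (M)

/-- The action of `S` gives the stabilizer of order four. -/
theorem acts_S {s : G} (hs : s ∈ (M.S : Subgroup G)) : ∃ p ∈ vier, M.Acts s p := by
  obtain ⟨i, hi, rfl⟩ := M.surj s hs
  have hd : (all64 fun i => vier.any fun p => (List.range 16).all fun a =>
      decide (app p a < 16) && cj i (2 * a) == 2 * app p a) = true := by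
    decide +kernel
  have h := all64_iff.1 hd i hi
  simp only [List.any_eq_true, List.all_eq_true, List.mem_range, Bool.and_eq_true, decide_eq_true_eq,
    beq_iff_eq] at h
  obtain ⟨p, hp, hpa⟩ := h
  exact ⟨p, hp, fun a ha => ⟨(hpa a ha).1, by rw [M.el_conj hi (by omega), (hpa a ha).2]⟩⟩

/-- Each of the four maps is induced by `S`. -/
theorem vier_real : ∀ g ∈ vier, ∃ n ∈ normalizer (M.A : Set G), M.Acts n g := by
  intro g hg
  have hd : (vier.all fun p => any64 fun i => (List.range 16).all fun a =>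
      decide (app p a < 16) && cj i (2 * a) == 2 * app p a) = true := by
    decide +kernel
  have h := List.all_eq_true.1 hd g hg
  simp only [any64_iff, List.all_eq_true, List.mem_range, Bool.and_eq_true, decide_eq_true_eq, beq_iff_eq] at h
  obtain ⟨i, hi, hpa⟩ := h
  exact ⟨M.el i, M.S_le_normalizer_A (M.mem i hi),
    fun a ha => ⟨(hpa a ha).1, by rw [M.el_conj hi (by omega), (hpa a ha).2]⟩⟩

/-- If `T ∩ N(A)` acts as `S`, it acts by the four maps. -/
theorem vier_stab (h : ∀ n ∈ M.T ⊓ normalizer (M.A : Set G), ∃ s ∈ (M.S : Subgroup G), ∀ a ∈ M.A,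
    n * a * n⁻¹ = s * a * s⁻¹) :
    ∀ n ∈ M.T ⊓ normalizer (M.A : Set G), ∃ p ∈ vier, M.Acts n p := fun n hn => by
  obtain ⟨s, hs, hsa⟩ := h n hn
  obtain ⟨p, hp, hpa⟩ := M.acts_S hs
  exact ⟨p, hp, fun a ha => ⟨(hpa a ha).1, (hsa _ (M.double_mem ha)).trans (hpa a ha).2⟩⟩

theorem vier_packed :
    vier.all (fun p => app p 1 + 16 * app p 2 + 256 * app p 4 + 4096 * app p 8 == p) = true := by
  decide +kernel

theorem twelve_packed :
    twelve.all (fun p => app p 1 + 16 * app p 2 + 256 * app p 4 + 4096 * app p 8 == p) = true := by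
  decide +kernel

end Model

end Cfsg.Agent.A8Rec
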