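import Cfsg.Agent.Lib.A8Rec.Model
import Cfsg.Agent.Lib.ClosedAbelian.Basic

/-!
Subgroups of the model: the elementary abelian group of order sixteen, the extraspecial group, its
three normal eights, and the fusion that the first of these controls.
-/

set_option autoImplicit false
set_option linter.unusedSectionVars false
set_option maxRecDepth 20000

namespace Cfsg.Agent.A8Rec

open Subgroup ClosedAbelian

/-- A set of indices is closed under the product. -/
def closedB (p : ℕ → Bool) : Bool :=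
  p 0 && all64 fun i => all64 fun j => !(p i && p j) || p (mul i j)

theorem card_filter (p : ℕ → Bool) :
    ((Finset.range 64).filter fun i => p i = true).card = ((List.range 64).filter p).length := by
  rw [Finset.card_def, Finset.filter_val, Finset.range_val, Multiset.range, Multiset.filter_coe, Multiset.coe_card]
  congr 1
  exact List.filter_congr fun x _ => by simp

variable {G : Type*} [Group G]

namespace Model

variable (M : Model G)

/-- The central involution. -/
def z : G := M.el 4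

/-- The subgroup on a set of indices. -/
def sub (p : ℕ → Bool) : Subgroup G := closure (M.el '' {i | i < 64 ∧ p i = true})

/-- The elementary abelian subgroup of order 16. -/
def A : Subgroup G := M.sub inA

/-- The extraspecial subgroup. -/
def Q : Subgroup G := M.sub inQ

/-- One of the three normal eights in `Q`. -/
def U (u : ℕ) : Subgroup G := M.sub (inU u)

/-- The centralizer of the central involution. -/
def T : Subgroup G := centralizer ({M.z} : Set G)

/-- Its odd core. -/
def O : Subgroup G := core M.T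

theorem el_zero : M.el 0 = 1 := by
  have h := M.hmul 0 (by norm_num) 0 (by norm_num)
  rw [show mul 0 0 = 0 by decide] at h
  exact mul_eq_left.1 h

theorem el_inv {i : ℕ} (hi : i < 64) : (M.el i)⁻¹ = M.el (inv i) :=
  inv_eq_of_mul_eq_one_right (by rw [M.hmul i hi _ (inv_lt i), (mul_inv hi).1, M.el_zero])

theorem el_conj {s i : ℕ} (hs : s < 64) (hi : i < 64) :
    M.el s * M.el i * (M.el s)⁻¹ = M.el (cj s i) := by
  rw [M.el_inv hs, M.hmul s hs i hi, M.hmul _ (mul_lt s i) _ (inv_lt s)]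
  rfl

theorem el_eq_one {i : ℕ} (hi : i < 64) : M.el i = 1 ↔ i = 0 :=
  ⟨fun h => M.inj i hi 0 (by norm_num) (h.trans M.el_zero.symm), fun h => h ▸ M.el_zero⟩

theorem el_eq_iff {i j : ℕ} (hi : i < 64) (hj : j < 64) : M.el i = M.el j ↔ i = j :=
  ⟨M.inj i hi j hj, fun h => h ▸ rfl⟩

theorem el_comm {i j : ℕ} (hi : i < 64) (hj : j < 64) :
    M.el i * M.el j = M.el j * M.el i ↔ mul i j = mul j i := by
  rw [M.hmul i hi j hj, M.hmul j hj i hi, M.el_eq_iff (mul_lt i j) (mul_lt j i)]

theorem el_sq {i : ℕ} (hi : i < 64) : M.el i * M.el i = 1 ↔ mul i i = 0 := by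
  rw [M.hmul i hi i hi, M.el_eq_one (mul_lt i i)]

theorem mem_sub {p : ℕ → Bool} (hp : closedB p = true) {x : G} :
    x ∈ M.sub p ↔ ∃ i < 64, p i = true ∧ M.el i = x := by
  rw [closedB, Bool.and_eq_true] at hp
  constructor
  · intro hx
    refine Subgroup.closure_induction ?_ ?_ ?_ ?_ hx
    · rintro _ ⟨i, ⟨hi, hpi⟩, rfl⟩
      exact ⟨i, hi, hpi, rfl⟩
    · exact ⟨0, by norm_num, hp.1, M.el_zero⟩
    · rintro _ _ _ _ ⟨i, hi, hpi, rfl⟩ ⟨j, hj, hpj, rfl⟩
      refine ⟨mul i j, mul_lt i j, ?_, (M.hmul i hi j hj).symm⟩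
      simpa [hpi, hpj] using all64_iff.1 (all64_iff.1 hp.2 i hi) j hj
    · rintro _ _ ⟨i, hi, hpi, rfl⟩
      refine ⟨inv i, inv_lt i, ?_, (M.el_inv hi).symm⟩
      have h1 : p (mul i i) = true := by simpa [hpi] using all64_iff.1 (all64_iff.1 hp.2 i hi) i hi
      simpa [inv, hpi, h1] using all64_iff.1 (all64_iff.1 hp.2 i hi) _ (mul_lt i i)
  · rintro ⟨i, hi, hpi, rfl⟩
    exact subset_closure ⟨i, ⟨hi, hpi⟩, rfl⟩

theorem el_mem_sub {p : ℕ → Bool} {i : ℕ} (hi : i < 64) (hp : p i = true) : M.el i ∈ M.sub p :=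
  subset_closure ⟨i, ⟨hi, hp⟩, rfl⟩

theorem el_mem_sub_iff {p : ℕ → Bool} (hp : closedB p = true) {i : ℕ} (hi : i < 64) :
    M.el i ∈ M.sub p ↔ p i = true := by
  rw [M.mem_sub hp]
  exact ⟨fun ⟨j, hj, hpj, e⟩ => M.inj j hj i hi e ▸ hpj, fun h => ⟨i, hi, h, rfl⟩⟩

theorem sub_le (p : ℕ → Bool) : M.sub p ≤ (M.S : Subgroup G) :=
  (closure_le _).2 fun _ ⟨i, hi, e⟩ => e ▸ M.mem i hi.1

theorem isPGroup_sub (p : ℕ → Bool) : IsPGroup 2 ↥(M.sub p) := M.S.isPGroup'.to_le (M.sub_le p)

theorem card_sub {p : ℕ → Bool} (hp : closedB p = true) :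
    Nat.card ↥(M.sub p) = ((List.range 64).filter p).length := by
  classical
  have hs : (M.sub p : Set G) = ((Finset.range 64).filter fun i => p i = true).image M.el := by
    ext x
    simp only [SetLike.mem_coe, M.mem_sub hp, Finset.coe_image, Finset.coe_filter, Finset.mem_range,
      Set.mem_image, Set.mem_ofPred_eq, and_assoc]
  show Nat.card ↥(M.sub p : Set G) = _
  rw [hs, Nat.card_coe_set_eq, Set.ncard_coe_finset,
    Finset.card_image_of_injOn fun a ha b hb e =>
      M.inj a (Finset.mem_range.1 (Finset.mem_filter.1 ha).1) b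
        (Finset.mem_range.1 (Finset.mem_filter.1 hb).1) e]
  exact card_filter p

theorem closed_A : closedB inA = true := by decide +kernel

theorem closed_Q : closedB inQ = true := by decide +kernel

theorem closed_U {u : ℕ} (hu : u ∈ Us) : closedB (inU u) = true := by
  revert u
  decide +kernel

theorem mem_A {x : G} : x ∈ M.A ↔ ∃ i < 64, inA i = true ∧ M.el i = x := M.mem_sub closed_A

theorem mem_Q {x : G} : x ∈ M.Q ↔ ∃ i < 64, inQ i = true ∧ M.el i = x := M.mem_sub closed_Q

theorem mem_U {u : ℕ} (hu : u ∈ Us) {x : G} : x ∈ M.U u ↔ ∃ i < 64, inU u i = true ∧ M.el i = x :=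
  M.mem_sub (closed_U hu)

theorem A_le : M.A ≤ (M.S : Subgroup G) := M.sub_le _

theorem Q_le : M.Q ≤ (M.S : Subgroup G) := M.sub_le _

theorem U_le (u : ℕ) : M.U u ≤ (M.S : Subgroup G) := M.sub_le _

theorem card_A : Nat.card ↥M.A = 16 := (M.card_sub closed_A).trans (by decide +kernel)

theorem card_Q : Nat.card ↥M.Q = 32 := (M.card_sub closed_Q).trans (by decide +kernel)

theorem card_U {u : ℕ} (hu : u ∈ Us) : Nat.card ↥(M.U u) = 8 :=
  (M.card_sub (closed_U hu)).trans (by revert u; decide +kernel)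

theorem card_S : Nat.card ↥(M.S : Subgroup G) = 64 := by
  have e : (M.S : Subgroup G) = M.sub (fun _ => true) := le_antisymm (fun x hx => by
    obtain ⟨i, hi, rfl⟩ := M.surj x hx
    exact M.el_mem_sub hi rfl) (M.sub_le _)
  rw [e, M.card_sub (by decide +kernel)]
  decide +kernel

theorem isEA_sub {p : ℕ → Bool} (hp : closedB p = true)
    (h : (all64 fun i => all64 fun j => !(p i && p j) || (mul i i == 0 && mul i j == mul j i)) = true) :
    Cfsg.IsElementaryAbelian 2 (M.sub p) := by
  refine ⟨⟨⟨fun a b => ?_⟩⟩, fun a ha => ?_⟩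
  · obtain ⟨i, hi, hpi, ei⟩ := (M.mem_sub hp).1 a.2
    obtain ⟨j, hj, hpj, ej⟩ := (M.mem_sub hp).1 b.2
    refine Subtype.ext ?_
    have h' := all64_iff.1 (all64_iff.1 h i hi) j hj
    simp only [hpi, hpj, Bool.and_self, Bool.not_true, Bool.false_or, Bool.and_eq_true, beq_iff_eq] at h'
    rw [coe_mul, coe_mul, ← ei, ← ej, M.el_comm hi hj]
    exact h'.2
  · obtain ⟨i, hi, hpi, rfl⟩ := (M.mem_sub hp).1 ha
    have h' := all64_iff.1 (all64_iff.1 h i hi) i hi
    simp only [hpi, Bool.and_self, Bool.not_true, Bool.false_or, Bool.and_eq_true, beq_iff_eq] at h'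
    rw [pow_two, M.el_sq hi]
    exact h'.1

theorem ea_A : Cfsg.IsElementaryAbelian 2 M.A := M.isEA_sub closed_A (by decide +kernel)

theorem ea_U {u : ℕ} (hu : u ∈ Us) : Cfsg.IsElementaryAbelian 2 (M.U u) :=
  M.isEA_sub (closed_U hu) (by revert u; decide +kernel)

theorem S_le_normalizer_A : (M.S : Subgroup G) ≤ normalizer (M.A : Set G) := by
  have key : ∀ s ∈ (M.S : Subgroup G), ∀ a ∈ M.A, s * a * s⁻¹ ∈ M.A := by
    intro s hs a ha
    obtain ⟨j, hj, rfl⟩ := M.surj s hs
    obtain ⟨i, hi, hpi, rfl⟩ := M.mem_A.1 ha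
    rw [M.el_conj hj hi]
    refine M.el_mem_sub (cj_lt j i) ?_
    have hd : (all64 fun j => all64 fun i => !inA i || inA (cj j i)) = true := by decide +kernel
    simpa [hpi] using all64_iff.1 (all64_iff.1 hd j hj) i hi
  refine fun s hs => mem_normalizer_iff.2 fun a => ⟨key s hs a, fun h => ?_⟩
  simpa [mul_assoc] using key s⁻¹ (inv_mem hs) _ h

theorem z_mem : M.z ∈ M.A := M.el_mem_sub (by norm_num) (by decide)

theorem z_sq : M.z * M.z = 1 := (M.el_sq (by norm_num)).2 (by decide)

theorem z_ne : M.z ≠ 1 := fun h => absurd ((M.el_eq_one (by norm_num)).1 h) (by decide)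

theorem S_le_T : (M.S : Subgroup G) ≤ M.T := fun x hx => by
  obtain ⟨i, hi, rfl⟩ := M.surj x hx
  have hd : (all64 fun i => mul i 4 == mul 4 i) = true := by decide +kernel
  exact mem_centralizer_singleton_iff.2 ((M.el_comm hi (by norm_num)).2
    (beq_iff_eq.1 (all64_iff.1 hd i hi)))

theorem Q_le_T : M.Q ≤ M.T := M.Q_le.trans M.S_le_T

theorem A_le_T : M.A ≤ M.T := M.A_le.trans M.S_le_T

/-- Outside `A`, a commuting set of involutions containing an involution has fewer than 16 elements. -/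
theorem outside_count : (all64 fun i => inA i || mul i i != 0 ||
    decide (((List.range 64).filter fun j => mul j j == 0 && mul i j == mul j i).length < 16)) = true := by
  decide +kernel

/-- `A` is the only elementary abelian subgroup of order 16 of `S`. -/
theorem eq_A_of_ea {B : Subgroup G} (hB : B ≤ (M.S : Subgroup G)) (he : Cfsg.IsElementaryAbelian 2 B)
    (h16 : Nat.card ↥B = 16) : B = M.A := by
  classical
  have : Finite ↥B := Nat.finite_of_card_ne_zero (by rw [h16]; norm_num)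
  have : Finite ↥M.A := Nat.finite_of_card_ne_zero (by rw [M.card_A]; norm_num)
  refine eq_of_le_of_card_ge (fun x hx => ?_) (by rw [h16, M.card_A])
  obtain ⟨i, hi, rfl⟩ := M.surj x (hB hx)
  by_contra hA
  have hAi : inA i = false := Bool.eq_false_iff.2 fun h => hA (M.el_mem_sub hi h)
  have hsq : mul i i = 0 := (M.el_sq hi).1 (by rw [← pow_two]; exact he.2 _ hx)
  have hc := all64_iff.1 outside_count i hi
  simp only [hAi, hsq, bne_self_eq_false, Bool.false_or, decide_eq_true_eq] at hc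
  have hs : (B : Set G) ⊆
      ((Finset.range 64).filter fun j => (mul j j == 0 && mul i j == mul j i) = true).image M.el := by
    intro y hy
    obtain ⟨j, hj, rfl⟩ := M.surj y (hB hy)
    have := he.1
    have hc' : M.el i * M.el j = M.el j * M.el i :=
      congrArg Subtype.val (mul_comm' (⟨_, hx⟩ : ↥B) ⟨_, hy⟩)
    simp only [Finset.coe_image, Set.mem_image, Finset.coe_filter, Set.mem_ofPred_eq, Finset.mem_range,
      Bool.and_eq_true, beq_iff_eq]
    exact ⟨j, ⟨hj, (M.el_sq hj).1 (by rw [← pow_two]; exact he.2 _ hy), (M.el_comm hi hj).1 hc'⟩, rfl⟩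
  have h1 := Nat.card_mono (Finset.finite_toSet _) hs
  change Nat.card ↥(B : Set G) = 16 at h16
  rw [h16, Nat.card_coe_set_eq, Set.ncard_coe_finset] at h1
  have h2 := h1.trans Finset.card_image_le
  have h3 : ((Finset.range 64).filter fun j => (mul j j == 0 && mul i j == mul j i) = true).card =
      ((List.range 64).filter fun j => mul j j == 0 && mul i j == mul j i).length := card_filter _
  omega

variable [Finite G]

/-- A conjugate of `A` in a 2-subgroup containing `A` is `A`. -/
theorem conj_eq_A {P : Subgroup G} (hP : IsPGroup 2 ↥P) (hA : M.A ≤ P) {g : G}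
    (hg : M.A.map (MulAut.conj g).toMonoidHom ≤ P) : g ∈ normalizer (M.A : Set G) := by
  have : Fact (Nat.Prime 2) := ⟨Nat.prime_two⟩
  obtain ⟨R, hR⟩ := hP.exists_le_sylow
  obtain ⟨x, hx⟩ := MulAction.exists_smul_eq G R M.S
  have hxR : (R : Subgroup G).map (MulAut.conj x).toMonoidHom = (M.S : Subgroup G) := by
    rw [← hx, Sylow.coe_subgroup_smul]
    rfl
  have key : ∀ y : G, M.A.map (MulAut.conj y).toMonoidHom ≤ P → x * y ∈ normalizer (M.A : Set G) := by
    intro y hy
    rw [← LEBasic.map_conj_eq_iff_mem_normalizer]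
    refine M.eq_A_of_ea ?_ ?_ ?_
    · rw [map_mul, ← hxR]
      refine le_trans (le_of_eq ?_) (map_mono (hy.trans hR))
      rw [map_map]
      rfl
    · refine ⟨⟨⟨fun a b => Subtype.ext ?_⟩⟩, ?_⟩
      · obtain ⟨a', ha', ea⟩ := a.2
        obtain ⟨b', hb', eb⟩ := b.2
        rw [coe_mul, coe_mul, ← ea, ← eb, ← map_mul, ← map_mul]
        have := M.ea_A.1
        exact congrArg _ (congrArg Subtype.val (mul_comm' (⟨a', ha'⟩ : ↥M.A) ⟨b', hb'⟩))
      · rintro _ ⟨a', ha', rfl⟩
        rw [← map_pow, M.ea_A.2 a' ha', map_one]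
    · rw [LEBasic.card_map_conj, M.card_A]
  have h0 := key 1 (by rintro _ ⟨a, ha, rfl⟩; simpa using hA ha)
  rw [mul_one] at h0
  simpa [mul_assoc] using mul_mem (inv_mem h0) (key g hg)

/-- A 2-group containing `A` normalizes it. -/
theorem le_normalizer_of_two {P : Subgroup G} (hP : IsPGroup 2 ↥P) (hA : M.A ≤ P) :
    P ≤ normalizer (M.A : Set G) := fun g hg =>
  M.conj_eq_A hP hA (map_le_iff_le_comap.2 fun a ha =>
    mem_comap.2 (mul_mem (mul_mem hg (hA ha)) (inv_mem hg)))

/-- The normalizer of `A` controls the fusion of its elements. -/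
theorem ctrl {a g : G} (ha : a ∈ M.A) (hga : g * a * g⁻¹ ∈ M.A) :
    ∃ n ∈ normalizer (M.A : Set G), n * a * n⁻¹ = g * a * g⁻¹ := by
  have : Fact (Nat.Prime 2) := ⟨Nat.prime_two⟩
  have hc := M.ea_A.1
  have hcomm : ∀ {x y : G}, x ∈ M.A → y ∈ M.A → x * y = y * x := fun hx hy =>
    congrArg Subtype.val (mul_comm' (⟨_, hx⟩ : ↥M.A) ⟨_, hy⟩)
  set C := centralizer ({g * a * g⁻¹} : Set G) with hC
  have hA : M.A ≤ C := fun x hx => mem_centralizer_singleton_iff.2 (hcomm hx hga)
  have hA' : M.A.map (MulAut.conj g).toMonoidHom ≤ C := by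
    rintro _ ⟨x, hx, rfl⟩
    refine mem_centralizer_singleton_iff.2 ?_
    simp only [MulEquiv.coe_toMonoidHom, MulAut.conj_apply]
    calc g * x * g⁻¹ * (g * a * g⁻¹) = g * (x * a) * g⁻¹ := by group
      _ = g * (a * x) * g⁻¹ := by rw [hcomm hx ha]
      _ = _ := by group
  have hp : IsPGroup 2 ↥(M.A.map (MulAut.conj g).toMonoidHom) := (M.isPGroup_sub inA).map _
  obtain ⟨c, hc, R, hR2, hAR, -, hcR⟩ := exists_conj_over (M.isPGroup_sub inA) hA hp hA'
  refine ⟨c * g, ?_, ?_⟩
  · refine M.conj_eq_A hR2 hAR ?_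
    rintro _ ⟨x, hx, rfl⟩
    have := hcR _ ⟨x, hx, rfl⟩
    simpa [mul_assoc] using this
  · have := mem_centralizer_singleton_iff.1 hc
    calc c * g * a * (c * g)⁻¹ = c * (g * a * g⁻¹) * c⁻¹ := by group
      _ = g * a * g⁻¹ * c * c⁻¹ := by rw [this]
      _ = _ := by group

end Model

end Cfsg.Agent.A8Rec
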