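import Cfsg.Agent.Lib.A8Rec.Auto
import Cfsg.Agent.Lib.BrauerSuzuki.ZStar

/-!
The conjugates of the central involution in `A`, for the two shapes of its centralizer.
-/

set_option autoImplicit false
set_option maxRecDepth 20000

namespace Cfsg.Agent.A8Rec

open Subgroup Linear

/-- The class representatives of the action of `S` on `A`. -/
def rep (i : ℕ) : ℕ := ((List.range 64).map fun s => cj s i).foldl min i

/-- The union of some classes of `S` on `A` and the central involution. -/
def opt (b₁ b₂ b₃ b₄ b₅ : Bool) : List ℕ :=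
  (List.range 64).filter fun i => inA i && (rep i == 4 || (b₁ && rep i == 2) || (b₂ && rep i == 16) ||
    (b₃ && rep i == 18) || (b₄ && rep i == 8) || (b₅ && rep i == 12))

/-- The number of elements of a set of indices whose product with `a` stays inside. -/
def cnt (L : List ℕ) (a : ℕ) : ℕ := (L.filter fun b => L.contains (mul a b)).length

/-- The six, as indices. -/
def sixI : List ℕ := [2, 4, 6, 16, 18, 20, 22]

/-- All noncentral and central involutions of `A`. -/
def allI : List ℕ := (List.range 64).filter fun i => inA i && i != 0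

theorem rep_facts : (all64 fun i => !inA i || ([0, 4, 2, 16, 18, 8, 12].contains (rep i) &&
    inA (rep i) && any64 fun s => cj s i == rep i)) = true ∧
    (all64 fun i => !inA i || (rep i != 0 || i == 0)) = true := by
  decide +kernel

theorem opt_cases : ∀ b₁ b₂ b₃ b₄ b₅ : Bool,
    (opt b₁ b₂ b₃ b₄ b₅).all (fun a => cnt (opt b₁ b₂ b₃ b₄ b₅) a == cnt (opt b₁ b₂ b₃ b₄ b₅) 4) = true →
    opt b₁ b₂ b₃ b₄ b₅ ∈ lines ++ grids ++ frames ++ [[4], sixI, allI] := by
  decide +kernel

theorem out_A : (all64 fun i => inA i || mul i i != 0 || Us.any fun u => inU u i) = true := by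
  decide +kernel

theorem two_notMem : ∀ L ∈ lines ++ grids ++ frames ++ [[4], sixI, allI],
    2 ∉ L → 16 ∉ L → 18 ∉ L → L = [4] ∨ L ∈ frames := by
  decide +kernel

variable {G : Type*} [Group G] [Finite G] (M : Model G)

namespace Model

open Classical in
/-- The indices in `A` of the conjugates of the central involution. -/
noncomputable def orbitList : List ℕ :=
  (List.range 64).filter fun i => inA i && decide (IsConj M.z (M.el i))

theorem mem_orbitList {i : ℕ} :
    i ∈ M.orbitList ↔ i < 64 ∧ inA i = true ∧ IsConj M.z (M.el i) := by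
  classical
  simp [orbitList, and_assoc]

omit [Finite G] in
/-- Conjugates within `S` have the same type. -/
theorem isConj_rep {i : ℕ} (hi : i < 64) (hA : inA i = true) :
    [0, 4, 2, 16, 18, 8, 12].contains (rep i) = true ∧ rep i < 64 ∧ inA (rep i) = true ∧
      IsConj (M.el i) (M.el (rep i)) := by
  have h := all64_iff.1 rep_facts.1 i hi
  simp only [hA, Bool.not_true, Bool.false_or, Bool.and_eq_true, any64_iff, beq_iff_eq] at h
  obtain ⟨⟨h1, h2⟩, s, hs, h3⟩ := h
  exact ⟨h1, h3 ▸ cj_lt s i, h2, isConj_iff.2 ⟨M.el s, by rw [M.el_conj hs hi, h3]⟩⟩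

/-- The set of conjugates is a union of classes with a transitive counting invariant. -/
theorem orbitList_cases :
    M.orbitList ∈ lines ++ grids ++ frames ++ [[4], sixI, allI] := by
  classical
  set b : ℕ → Bool := fun i => decide (IsConj M.z (M.el i))
  have heq : M.orbitList = opt (b 2) (b 16) (b 18) (b 8) (b 12) := by
    unfold orbitList opt
    refine List.filter_congr fun i hi => ?_
    rw [List.mem_range] at hi
    cases hA : inA i
    · simp only [Bool.false_and]
    obtain ⟨hr, hlt, -, hc⟩ := M.isConj_rep hi hA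
    have hiff : decide (IsConj M.z (M.el i)) = b (rep i) :=
      decide_eq_decide.2 ⟨fun h => h.trans hc, fun h => h.trans hc.symm⟩
    have h0 := all64_iff.1 rep_facts.2 i hi
    simp only [hA, Bool.not_true, Bool.false_or, Bool.or_eq_true, bne_iff_ne, beq_iff_eq] at h0
    rw [hiff, Bool.true_and, Bool.true_and]
    simp only [List.contains_iff_mem, List.mem_cons, List.not_mem_nil, or_false] at hr
    have hb0 : b 0 = false := decide_eq_false fun hz => M.z_ne (isConj_one_left.1 (M.el_zero ▸ hz))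
    have hb4 : b 4 = true := decide_eq_true (IsConj.refl _)
    rcases hr with h | h | h | h | h | h | h <;> rw [h] <;>
      first
        | (rw [hb0]; simp only [Nat.reduceBEq, Bool.and_false, Bool.or_self])
        | (rw [hb4]; simp only [Nat.reduceBEq, Bool.and_false, Bool.true_or])
        | (simp only [Nat.reduceBEq, beq_self_eq_true, Bool.and_true, Bool.and_false, Bool.or_false, Bool.false_or])
  have hmem : ∀ i, i ∈ M.orbitList ↔ i < 64 ∧ inA i = true ∧ IsConj M.z (M.el i) :=
    fun i => M.mem_orbitList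
  have hcnt : ∀ a ∈ M.orbitList, cnt M.orbitList a = cnt M.orbitList 4 := by
    intro a ha
    obtain ⟨ha64, haA, haz⟩ := (hmem a).1 ha
    obtain ⟨g, hg⟩ := isConj_iff.1 haz
    have haA' : g * M.z * g⁻¹ ∈ M.A := hg ▸ M.el_mem_sub ha64 haA
    obtain ⟨n, hn, hnz⟩ := M.ctrl M.z_mem haA'
    rw [hg] at hnz
    have himg : ∀ i, i < 64 → inA i = true →
        ∃ j < 64, inA j = true ∧ M.el j = n * M.el i * n⁻¹ := fun i hi hiA => by
      obtain ⟨j, hj, hjA, e⟩ := M.mem_A.1 ((mem_normalizer_iff.1 hn _).1 (M.el_mem_sub hi hiA))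
      exact ⟨j, hj, hjA, e⟩
    choose f hf64 hfA hf using himg
    have hnd : M.orbitList.Nodup := List.nodup_range.filter _
    have himg' : ∀ i (hi : i < 64) (hiA : inA i = true), (f i hi hiA ∈ M.orbitList ↔ i ∈ M.orbitList) := by
      intro i hi hiA
      simp only [hmem, hf64 i hi hiA, hfA i hi hiA, true_and, hi, hiA]
      have hc : IsConj (M.el i) (M.el (f i hi hiA)) := isConj_iff.2 ⟨n, (hf i hi hiA).symm⟩
      exact ⟨fun h => h.trans hc.symm, fun h => h.trans hc⟩
    have hlast : ∀ i (hi : i < 64) (hiA : inA i = true),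
        (mul a (f i hi hiA) ∈ M.orbitList ↔ mul 4 i ∈ M.orbitList) := by
      intro i hi hiA
      have h4A : inA (mul 4 i) = true := by
        have h := M.mem_A.1 (mul_mem M.z_mem (M.el_mem_sub hi hiA))
        obtain ⟨j, hj, hjA, e⟩ := h
        rw [show M.z * M.el i = M.el (mul 4 i) from M.hmul 4 (by norm_num) i hi] at e
        exact M.inj j hj _ (mul_lt 4 i) e ▸ hjA
      have e : f (mul 4 i) (mul_lt 4 i) h4A = mul a (f i hi hiA) := by
        refine M.inj _ (hf64 _ _ _) _ (mul_lt _ _) ?_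
        rw [hf, ← M.hmul a ha64 _ (hf64 _ _ _), hf, ← hnz, ← M.hmul 4 (by norm_num) i hi]
        show n * (M.z * M.el i) * n⁻¹ = _
        group
      rw [← e]
      exact himg' _ _ _
    unfold cnt
    rw [← List.toFinset_card_of_nodup (hnd.filter _), ← List.toFinset_card_of_nodup (hnd.filter _)]
    refine (Finset.card_bij (fun i hi => f i
      ((hmem i).1 (List.mem_filter.1 (List.mem_toFinset.1 hi)).1).1
      ((hmem i).1 (List.mem_filter.1 (List.mem_toFinset.1 hi)).1).2.1) ?_ ?_ ?_).symm
    · intro i hi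
      obtain ⟨h1, h2⟩ := List.mem_filter.1 (List.mem_toFinset.1 hi)
      obtain ⟨hi64, hiA, -⟩ := (hmem i).1 h1
      exact List.mem_toFinset.2 (List.mem_filter.2 ⟨(himg' i hi64 hiA).2 h1,
        List.contains_iff_mem.2 ((hlast i hi64 hiA).2 (List.contains_iff_mem.1 h2))⟩)
    · intro i hi j hj h
      obtain ⟨hi64, hiA, -⟩ := (hmem i).1 (List.mem_filter.1 (List.mem_toFinset.1 hi)).1
      obtain ⟨hj64, hjA, -⟩ := (hmem j).1 (List.mem_filter.1 (List.mem_toFinset.1 hj)).1
      have h' := (hf i hi64 hiA).symm.trans ((congrArg M.el h).trans (hf j hj64 hjA))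
      exact M.inj i hi64 j hj64 (mul_left_cancel (mul_right_cancel h'))
    · intro j hj
      obtain ⟨h1, h2⟩ := List.mem_filter.1 (List.mem_toFinset.1 hj)
      obtain ⟨hj64, hjA, -⟩ := (hmem j).1 h1
      obtain ⟨i, hi, hiA, e⟩ := M.mem_A.1
        ((mem_normalizer_iff.1 (inv_mem hn) _).1 (M.el_mem_sub hj64 hjA))
      have hji : f i hi hiA = j := M.inj _ (hf64 _ _ _) j hj64 (by rw [hf, e]; group)
      refine ⟨i, List.mem_toFinset.2 (List.mem_filter.2 ⟨(himg' i hi hiA).1 (hji ▸ h1),
        List.contains_iff_mem.2 ((hlast i hi hiA).1 (hji.symm ▸ List.contains_iff_mem.1 h2))⟩), hji⟩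
  rw [heq] at hcnt ⊢
  exact opt_cases _ _ _ _ _ (List.all_eq_true.2 fun a ha => beq_iff_eq.2 (hcnt a ha))

/-- The central involution has other conjugates in `A` if it has none in `S` outside `A`. -/
theorem ne_singleton_of_outside (hcore : Cfsg.pCore 2 G = ⊥) (hodd : Cfsg.oddCore G = ⊥)
    (hout : ∀ i < 64, inA i = false → mul i i = 0 → ¬ IsConj M.z (M.el i)) :
    M.orbitList ≠ [4] := by
  intro hL
  have : Fact (Nat.Prime 2) := ⟨Nat.prime_two⟩
  have ho : orderOf M.z = 2 := orderOf_eq_prime (by rw [pow_two]; exact M.z_sq) M.z_ne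
  have honly : ∀ i < 64, inA i = true → IsConj M.z (M.el i) → i = 4 := fun i hi hA hc => by
    simpa [hL] using M.mem_orbitList.2 ⟨hi, hA, hc⟩
  have hiso : Cfsg.IsIsolated M.z := by
    refine BrauerSuzuki.isIsolated_of_sylow ho (M.A_le M.z_mem) fun g hg => ?_
    obtain ⟨i, hi, e⟩ := M.surj _ hg
    have hzi : IsConj M.z (M.el i) := isConj_iff.2 ⟨g, e.symm⟩
    cases hA : inA i
    swap
    · rw [← e, honly i hi hA hzi]; rfl
    exact absurd hzi (hout i hi hA ((M.el_sq hi).1 (by
      rw [e, show g * M.z * g⁻¹ * (g * M.z * g⁻¹) = g * (M.z * M.z) * g⁻¹ by group, M.z_sq]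
      group)))
  have hcen : ∀ g : G, g * M.z = M.z * g := fun g => by
    have h := BrauerSuzuki.zStar G M.z ho hiso g
    rw [show Cfsg.pPrimeCore 2 G = ⊥ from hodd, mem_bot, mul_inv_eq_one] at h
    exact mul_inv_eq_iff_eq_mul.1 h
  have hN : (zpowers M.z).Normal := ⟨fun x hx g => by
    obtain ⟨k, rfl⟩ := mem_zpowers_iff.1 hx
    rw [((show Commute g M.z from hcen g).zpow_right k).eq, mul_inv_cancel_right]
    exact zpow_mem (mem_zpowers _) k⟩
  have hle : zpowers M.z ≤ Cfsg.pCore 2 G :=
    le_sSup ⟨hN, IsPGroup.of_card (n := 1) (by rw [Nat.card_zpowers, ho, pow_one])⟩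
  rw [hcore, le_bot_iff, zpowers_eq_bot] at hle
  exact M.z_ne hle

/-- The same when the noncentral involutions of the eights are fused into `A`. -/
theorem orbitList_ne_singleton (hcore : Cfsg.pCore 2 G = ⊥) (hodd : Cfsg.oddCore G = ⊥)
    (horb : ∀ u ∈ Us, ∀ i < 64, inU u i = true → i ≠ 0 → i ≠ 4 →
      ∃ t ∈ M.T, t * M.el i * t⁻¹ = M.el (pu u)) :
    M.orbitList ≠ [4] := by
  intro hL
  refine M.ne_singleton_of_outside hcore hodd (fun i hi hA hsq hzi => ?_) hL
  have h := all64_iff.1 out_A i hi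
  simp only [hA, hsq, bne_self_eq_false, Bool.false_or, List.any_eq_true] at h
  obtain ⟨u, hu, huI⟩ := h
  obtain ⟨t, -, ht⟩ := horb u hu i hi huI (fun h0 => by subst h0; simp [inA, bit] at hA)
    (fun h4 => by subst h4; simp [inA, bit] at hA)
  have hz' : IsConj M.z (M.el (pu u)) := hzi.trans (isConj_iff.2 ⟨t, ht⟩)
  have hpu : ∀ u ∈ Us, pu u < 64 ∧ inA (pu u) = true ∧ pu u ≠ 4 := by decide
  have h4 := M.mem_orbitList.2 ⟨(hpu u hu).1, (hpu u hu).2.1, hz'⟩
  rw [hL, List.mem_singleton] at h4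
  exact (hpu u hu).2.2 h4

/-- The conjugates of the central involution are the halved indices. -/
theorem halved_mem {Lh : List ℕ} (h : ∀ a < 16, 2 * a ∈ M.orbitList → a ∈ Lh) :
    ∀ n ∈ normalizer (M.A : Set G), ∀ a < 16, n * M.z * n⁻¹ = M.el (2 * a) → a ∈ Lh :=
  fun n _ a ha e => h a ha (M.mem_orbitList.2 ⟨by omega,
    List.all_eq_true.1 inA_double a (List.mem_range.2 ha), isConj_iff.2 ⟨n, e⟩⟩)

/-- A listed conjugate is reached from the normalizer of `A`. -/
theorem exists_mover {k : ℕ} (h : 2 * k ∈ M.orbitList) :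
    ∃ n ∈ normalizer (M.A : Set G), n * M.z * n⁻¹ = M.el (2 * k) := by
  obtain ⟨hlt, hA, hc⟩ := M.mem_orbitList.1 h
  obtain ⟨g, hg⟩ := isConj_iff.1 hc
  obtain ⟨n, hn, e⟩ := M.ctrl M.z_mem (g := g) (hg ▸ M.el_mem_sub hlt hA)
  exact ⟨n, hn, e.trans hg⟩

end Model

variable {M}

/-- The orbit for the shape `Q.S₃`. -/
theorem CaseS.exists_facts (C : CaseS M) (hcore : Cfsg.pCore 2 G = ⊥) (hodd : Cfsg.oddCore G = ⊥) :
    ∃ L ∈ lines ++ grids, Facts M L := by
  have hne := M.orbitList_ne_singleton hcore hodd C.orbU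
  have hSt := M.vier_stab C.stab
  have single_empty : ∀ {Lh : List ℕ} {ws : List (List ℕ)} {k : ℕ}, k < 16 →
      single vier Lh ws k [] = true → 2 * k ∈ M.orbitList →
      (∀ a < 16, 2 * a ∈ M.orbitList → a ∈ Lh) → False := by
    intro Lh ws k hk16 hc hk hL
    obtain ⟨n, hn, hnz⟩ := M.exists_mover hk
    obtain ⟨p, hp, -⟩ := Model.mem_surv hc M.vier_real hSt Model.vier_packed (M.halved_mem hL) hn hnz hk16
    exact absurd hp List.not_mem_nil
  have two_bad : ∀ {Lh : List ℕ} {wsA wsB ws : List (List ℕ)} {kA kB : ℕ} {sA sB : List ℕ},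
      kA < 16 → kB < 16 → single vier Lh wsA kA sA = true → single vier Lh wsB kB sB = true →
      pair vier Lh ws sA sB = true → 2 * kA ∈ M.orbitList → 2 * kB ∈ M.orbitList →
      (∀ a < 16, 2 * a ∈ M.orbitList → a ∈ Lh) → False := by
    intro Lh wsA wsB ws kA kB sA sB hA16 hB16 hcA hcB hp hA hB hL
    obtain ⟨n, hn, hnz⟩ := M.exists_mover hA
    obtain ⟨m, hm, hmz⟩ := M.exists_mover hB
    obtain ⟨p, hps, hpa⟩ := Model.mem_surv hcA M.vier_real hSt Model.vier_packed (M.halved_mem hL) hn hnz hA16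
    obtain ⟨q, hqs, hqa⟩ := Model.mem_surv hcB M.vier_real hSt Model.vier_packed (M.halved_mem hL) hm hmz hB16
    have hbad := List.all_eq_true.1 (List.all_eq_true.1 hp p hps) q hqs
    rw [Model.not_bad (List.forall_mem_cons.2 ⟨⟨n, hn, hpa⟩,
      List.forall_mem_cons.2 ⟨⟨m, hm, hqa⟩, M.vier_real⟩⟩) hSt Model.vier_packed (M.halved_mem hL)] at hbad
    exact Bool.false_ne_true hbad
  have h := M.orbitList_cases
  simp only [List.mem_append, List.mem_cons, List.not_mem_nil, or_false] at h
  rcases h with ((h | h) | h) | h | h | h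
  rotate_left 2
  · exfalso
    simp only [frames, List.mem_cons, List.not_mem_nil, or_false] at h
    rcases h with h | h
    · exact single_empty (by norm_num) vier_frame8 (by rw [h]; decide) (by rw [h]; decide)
    · exact single_empty (by norm_num) vier_frame12 (by rw [h]; decide) (by rw [h]; decide)
  · exact absurd h hne
  · exfalso
    exact two_bad (by norm_num) (by norm_num) vier_sixA vier_sixB vier_six (by rw [h]; decide)
      (by rw [h]; decide) (by rw [h]; decide)
  · exfalso
    exact two_bad (by norm_num) (by norm_num) vier_allA vier_allB vier_all (by rw [h]; decide)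
      (by rw [h]; decide) (by rw [h]; decide)
  all_goals
    exact ⟨M.orbitList, List.mem_append.2 (by tauto),
      { C.toTFacts with
        mem_L := List.mem_append.2 (Or.inl (List.mem_append.2 (by tauto)))
        orb := fun i hi hA => ⟨fun hc => M.mem_orbitList.2 ⟨hi, hA, hc⟩,
          fun hm => (M.mem_orbitList.1 hm).2.2⟩
        normU := fun _ => C.normU }⟩

/-- The orbit for the shape `Q.(3² : 2)`. -/
theorem CaseP.exists_facts (C : CaseP M) (hcore : Cfsg.pCore 2 G = ⊥) (hodd : Cfsg.oddCore G = ⊥) :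
    ∃ L ∈ frames, Facts M L := by
  have hne := M.orbitList_ne_singleton hcore hodd C.orbU
  have hgs : ∀ g ∈ twelve, ∃ n ∈ normalizer (M.A : Set G), M.Acts n g := fun g hg => by
    obtain ⟨n, hn, h⟩ := C.real g hg
    exact ⟨n, (mem_inf.1 hn).2, h⟩
  have h2 : 2 ∉ M.orbitList := fun h => by
    obtain ⟨n, hn, hnz⟩ := M.exists_mover (k := 1) h
    have hL : ∀ a < 16, 2 * a ∈ M.orbitList → a ∈ pts := fun a ha hm => by
      have h0 : a ≠ 0 := by
        rintro rfl
        exact M.z_ne (isConj_one_left.1 (M.el_zero ▸ (M.mem_orbitList.1 hm).2.2))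
      simp only [pts, List.mem_map, List.mem_range]
      exact ⟨a - 1, by omega, by omega⟩
    obtain ⟨p, hp, -⟩ := Model.mem_surv twelve_two hgs C.stab Model.twelve_packed (M.halved_mem hL) hn hnz
      (by norm_num)
    exact absurd hp List.not_mem_nil
  have hu : ∀ u ∈ Us, pu u ∉ M.orbitList := fun u hu h => by
    obtain ⟨t, -, ht⟩ := C.orbP u hu
    exact h2 (M.mem_orbitList.2 ⟨by norm_num, by decide,
      (M.mem_orbitList.1 h).2.2.trans (isConj_iff.2 ⟨t, ht⟩)⟩)
  rcases two_notMem _ M.orbitList_cases h2 (hu 32 (by decide)) (hu 33 (by decide)) with h | h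
  · exact absurd h hne
  exact ⟨M.orbitList, h,
    { C.toTFacts with
      mem_L := List.mem_append.2 (Or.inr h)
      orb := fun i hi hA => ⟨fun hc => M.mem_orbitList.2 ⟨hi, hA, hc⟩,
        fun hm => (M.mem_orbitList.1 hm).2.2⟩
      normU := fun hn => absurd h hn }⟩

end Cfsg.Agent.A8Rec
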