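import Cfsg.Agent.Lib.A8Rec.CaseNAct
import Cfsg.Agent.Lib.A8Rec.Orbit
import Cfsg.Agent.Lib.A8Type.Main

/-!
The shape with `A` normal modulo the odd core does not occur: the normalizer of `A` would induce the
alternating group of degree five on a frame, and `A` would be normal in the whole group.
-/

set_option autoImplicit false
set_option maxRecDepth 20000
set_option linter.unusedSectionVars false

namespace Cfsg.Agent.A8Rec

open Subgroup ClosedAbelian Linear

/-- The data of a frame, in halved indices. -/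
theorem frame_facts : ∀ F ∈ [frame8, frame12],
    (F.length = 5 ∧ F.getD 0 0 = 2 ∧ Nat.xor (F.getD 1 0) (F.getD 2 0) = 1 ∧ F.Nodup ∧
      F.all (fun a => decide (a < 16)) = true ∧ (twelve.map fun p => F.map (app p)).Nodup) ∧
    ((List.range 16).all fun a => a == 0 || F.contains a ||
      (List.range 5).any fun j => (List.range 5).any fun k =>
        j != k && Nat.xor (F.getD j 0) (F.getD k 0) == a) = true := by
  decide +kernel

theorem frame_double : ∀ L ∈ frames, ∃ F ∈ [frame8, frame12], L = F.map fun a => 2 * a := by decide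

theorem eight_nine : pu 32 = 2 * 8 ∧ pu 33 = 2 * 9 := by decide

/-- A family of elements permuted by conjugation. -/
theorem exists_permHom_el {G : Type*} [Group G] {N : Subgroup G} {n : ℕ} (W : Fin n → G)
    (hinj : Function.Injective W) (h : ∀ g ∈ N, ∀ j, ∃ k, g * W j * g⁻¹ = W k) :
    ∃ φ : ↥N →* Equiv.Perm (Fin n), ∀ (g : ↥N) j, (g : G) * W j * (g : G)⁻¹ = W (φ g j) := by
  choose f hf using fun (g : ↥N) j => h g g.2 j
  have hmul : ∀ g g' j, f (g * g') j = f g (f g' j) := fun g g' j => hinj (by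
    rw [← hf, ← hf, ← hf, coe_mul]; group)
  have hone : ∀ j, f 1 j = j := fun j => hinj (by rw [← hf]; simp)
  refine ⟨MonoidHom.mk' (fun g => ⟨f g, f g⁻¹, fun j => by rw [← hmul, inv_mul_cancel, hone],
    fun j => by rw [← hmul, mul_inv_cancel, hone]⟩) (fun g g' => Equiv.ext fun j => hmul g g' j), hf⟩

/-- An even permutation of five points with two given values. -/
theorem exists_even {j k : Fin 5} (h : j ≠ k) :
    ∃ σ : Equiv.Perm (Fin 5), σ ∈ alternatingGroup (Fin 5) ∧ σ j = 1 ∧ σ k = 2 := by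
  set σ₁ := Equiv.swap j 1
  set σ := Equiv.swap (σ₁ k) 2 * σ₁ with hσ
  have h1 : σ₁ j = 1 := Equiv.swap_apply_left j 1
  have hk : σ₁ k ≠ 1 := fun e => h (σ₁.injective (h1.trans e.symm))
  have hj : σ j = 1 := by
    rw [hσ, Equiv.Perm.mul_apply, h1]
    exact Equiv.swap_apply_of_ne_of_ne (Ne.symm hk) (by decide)
  have hk' : σ k = 2 := by rw [hσ, Equiv.Perm.mul_apply]; exact Equiv.swap_apply_left _ _
  rcases Int.units_eq_one_or (Equiv.Perm.sign σ) with hs | hs
  · exact ⟨σ, Equiv.Perm.mem_alternatingGroup.2 hs, hj, hk'⟩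
  · refine ⟨Equiv.swap 0 3 * σ, Equiv.Perm.mem_alternatingGroup.2 ?_, ?_, ?_⟩
    · rw [Equiv.Perm.sign_mul, Equiv.Perm.sign_swap (by decide), hs]; rfl
    · rw [Equiv.Perm.mul_apply, hj]; exact Equiv.swap_apply_of_ne_of_ne (by decide) (by decide)
    · rw [Equiv.Perm.mul_apply, hk']; exact Equiv.swap_apply_of_ne_of_ne (by decide) (by decide)

variable {G : Type*} [Group G] [Finite G] {M : Model G}

/-- The Sylow group is isomorphic to one of the alternating group of degree eight. -/
theorem Model.exists_sylow_iso (M : Model G) : ∃ P : Sylow 2 ↥(alternatingGroup (Fin 8)),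
    Nonempty (↥(M.S : Subgroup G) ≃* ↥(P : Subgroup ↥(alternatingGroup (Fin 8)))) := by
  have : Fact (Nat.Prime 2) := ⟨Nat.prime_two⟩
  have hp : IsPGroup 2 emb := IsPGroup.of_card (n := 6) (by rw [emb_card]; norm_num)
  obtain ⟨P, hP⟩ := hp.exists_le_sylow
  have h20160 : Nat.card (alternatingGroup (Fin 8)) = 20160 := by
    rw [nat_card_alternatingGroup]
    simp [Nat.factorial]
  have hcard : Nat.card (P : Subgroup (alternatingGroup (Fin 8))) = 64 := by
    rw [Sylow.card_eq_multiplicity, h20160]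
    have h6 : Nat.factorization 20160 2 = 6 := by
      rw [show 20160 = 2 ^ 6 * 315 by norm_num, Nat.factorization_mul (pow_ne_zero _ two_ne_zero) (by norm_num),
        Nat.prime_two.factorization_pow, Finsupp.add_apply, Finsupp.single_eq_same,
        Nat.factorization_eq_zero_of_not_dvd (show ¬ 2 ∣ 315 by norm_num)]
    rw [h6]
    norm_num
  choose idx hidx hel using fun s : ↥(M.S : Subgroup G) => M.surj s s.2
  let f : ↥(M.S : Subgroup G) → ↥(P : Subgroup ↥(alternatingGroup (Fin 8))) := fun s =>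
    ⟨⟨perm (idx s), Equiv.Perm.mem_alternatingGroup.2 (perm_sign _ (hidx s))⟩, hP ⟨idx s, hidx s, rfl⟩⟩
  have hmul : ∀ s t, f (s * t) = f s * f t := fun s t => Subtype.ext (Subtype.ext (by
    show perm (idx (s * t)) = perm (idx s) * perm (idx t)
    rw [perm_mul (hidx s) (hidx t)]
    congr 1
    refine M.inj _ (hidx _) _ (mul_lt _ _) ?_
    rw [← M.hmul _ (hidx s) _ (hidx t), hel, hel, hel]
    rfl))
  have hinj : Function.Injective f := by
    intro s t h
    have h' : perm (idx s) = perm (idx t) :=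
      congrArg (fun x : ↥(P : Subgroup ↥(alternatingGroup (Fin 8))) =>
        ((x : ↥(alternatingGroup (Fin 8))) : Equiv.Perm (Fin 8))) h
    have h1 : perm (mul (idx s) (inv (idx t))) = 1 := by
      rw [← perm_mul (hidx s) (inv_lt _), h', perm_mul (hidx t) (inv_lt _), (mul_inv (hidx t)).1]
      ext k
      simp only [perm, dif_pos (show 0 < 64 by norm_num)]
      exact congrArg Fin.val (pt_zero k)
    have h2 := all64_iff.1 perm_inj _ (mul_lt (idx s) (inv (idx t)))
    simp only [Bool.or_eq_true, beq_iff_eq, List.any_eq_true, List.mem_range, bne_iff_ne] at h2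
    rcases h2 with h2 | ⟨k, hk, hne⟩
    · exact Subtype.ext (by rw [← hel s, ← hel t, eq_of_mul_inv (hidx s) (hidx t) h2])
    · have := congrArg (fun p : Equiv.Perm (Fin 8) => (p ⟨k, hk⟩ : ℕ)) h1
      simp only [perm, dif_pos (mul_lt (idx s) (inv (idx t))), Equiv.Perm.coe_one, id] at this
      exact absurd this hne
  exact ⟨P, ⟨MulEquiv.ofBijective (MonoidHom.mk' f hmul)
    ((Nat.bijective_iff_injective_and_card f).2 ⟨hinj, M.card_S.trans hcard.symm⟩)⟩⟩

/-- The conjugates of the central involution in `A` form a frame. -/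
theorem CaseN.orbit_frame (C : CaseN M) (hres : Cfsg.pResidual 2 G = ⊤) (hcore : Cfsg.pCore 2 G = ⊥)
    (hodd : Cfsg.oddCore G = ⊥) : M.orbitList ∈ frames := by
  have hreal := C.twelve_real hres
  have hgs : ∀ g ∈ twelve, ∃ n ∈ normalizer (M.A : Set G), M.Acts n g := fun g hg => by
    obtain ⟨n, hn, h⟩ := hreal g hg
    exact ⟨n, (mem_inf.1 hn).2, h⟩
  have h2 : 2 ∉ M.orbitList := fun h => by
    obtain ⟨n, hn, hnz⟩ := M.exists_mover (k := 1) h
    have hL : ∀ a < 16, 2 * a ∈ M.orbitList → a ∈ pts := fun a ha hm => by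
      have h0 : a ≠ 0 := by
        rintro rfl
        exact M.z_ne (isConj_one_left.1 (M.el_zero ▸ (M.mem_orbitList.1 hm).2.2))
      simp only [pts, List.mem_map, List.mem_range]
      exact ⟨a - 1, by omega, by omega⟩
    obtain ⟨p, hp, -⟩ := Model.mem_surv twelve_two hgs (C.twelve_stab hres) Model.twelve_packed
      (M.halved_mem hL) hn hnz (by norm_num)
    exact absurd hp List.not_mem_nil
  have hk : ∀ k ∈ [8, 9], 2 * k ∉ M.orbitList := fun k hk h => by
    have ho := List.all_eq_true.1 twelve_orbit k hk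
    simp only [List.any_eq_true, beq_iff_eq] at ho
    obtain ⟨p, hp, hpk⟩ := ho
    obtain ⟨n, -, hna⟩ := hgs p hp
    have hk16 : k < 16 := by
      simp only [List.mem_cons, List.not_mem_nil, or_false] at hk
      omega
    have he := (hna k hk16).2
    rw [hpk] at he
    exact h2 (M.mem_orbitList.2 ⟨by norm_num, by decide,
      (M.mem_orbitList.1 h).2.2.trans (isConj_iff.2 ⟨n, he⟩)⟩)
  rcases two_notMem _ M.orbitList_cases h2 (hk 8 (by decide)) (hk 9 (by decide)) with h | h
  · refine absurd h (M.ne_singleton_of_outside hcore hodd fun i hi hA hsq hc => ?_)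
    obtain ⟨g, hg⟩ := isConj_iff.1 hc.symm
    exact C.not_conj_A hi hA hsq g (hg ▸ M.z_mem)
  · exact h

/-- The shape with `A` normal modulo the odd core does not occur. -/
theorem CaseN.false (C : CaseN M) (hres : Cfsg.pResidual 2 G = ⊤) (hcore : Cfsg.pCore 2 G = ⊥)
    (hodd : Cfsg.oddCore G = ⊥) : False := by
  classical
  have : Fact (Nat.Prime 2) := ⟨Nat.prime_two⟩
  obtain ⟨F, hF, hL⟩ := frame_double _ (C.orbit_frame hres hcore hodd)
  obtain ⟨⟨hlen, hF0, hF12, hnd, hlt, hperm⟩, hspan⟩ := frame_facts F hF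
  have hFl : ∀ j : Fin 5, F.getD (j : ℕ) 0 ∈ F := fun j => by
    rw [List.getD_eq_getElem _ _ (by omega)]
    exact List.getElem_mem _
  have hF16 : ∀ a ∈ F, a < 16 := fun a ha => of_decide_eq_true (List.all_eq_true.1 hlt a ha)
  set W : Fin 5 → G := fun j => M.el (2 * F.getD (j : ℕ) 0) with hW
  have hWinj : Function.Injective W := fun j k h => by
    have h' := M.double_inj (hF16 _ (hFl j)) (hF16 _ (hFl k)) h
    rw [List.getD_eq_getElem _ _ (by omega), List.getD_eq_getElem _ _ (by omega)] at h'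
    exact Fin.ext ((List.Nodup.getElem_inj_iff hnd).1 h')
  have hW0 : W 0 = M.z := by
    show M.el (2 * F.getD 0 0) = _
    rw [hF0]; rfl
  have hWz : ∀ j, IsConj M.z (W j) := fun j =>
    (M.mem_orbitList.1 (hL ▸ List.mem_map.2 ⟨_, hFl j, rfl⟩)).2.2
  have hWA : ∀ j, W j ∈ M.A := fun j => M.double_mem (hF16 _ (hFl j))
  have hconjW : ∀ x ∈ M.A, IsConj M.z x → ∃ k, x = W k := by
    intro x hx hc
    obtain ⟨i, hi, hiA, rfl⟩ := M.mem_A.1 hx
    have hm := M.mem_orbitList.2 ⟨hi, hiA, hc⟩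
    rw [hL, List.mem_map] at hm
    obtain ⟨a, ha, rfl⟩ := hm
    obtain ⟨k, hk, rfl⟩ := List.getElem_of_mem ha
    exact ⟨⟨k, hlen ▸ hk⟩, (congrArg (fun a => M.el (2 * a)) (List.getD_eq_getElem F 0 hk)).symm⟩
  obtain ⟨φ, hφ⟩ := exists_permHom_el (N := normalizer (M.A : Set G)) W hWinj fun g hg j =>
    hconjW _ ((mem_normalizer_iff.1 hg _).1 (hWA j)) ((hWz j).trans (isConj_iff.2 ⟨g, rfl⟩))
  -- the image has order 60
  have horb : MulAction.orbit ↥φ.range (0 : Fin 5) = Set.univ := Set.eq_univ_of_forall fun j => by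
    obtain ⟨n, hn, hnz⟩ := M.exists_mover (k := F.getD (j : ℕ) 0) (hL ▸ List.mem_map.2 ⟨_, hFl j, rfl⟩)
    refine ⟨⟨φ ⟨n, hn⟩, ⟨_, rfl⟩⟩, hWinj ?_⟩
    rw [← hW0] at hnz
    exact ((hφ ⟨n, hn⟩ 0).symm.trans hnz)
  have hFeq : F = List.ofFn fun j : Fin 5 => F.getD (j : ℕ) 0 := by
    refine List.ext_getElem (by simp [hlen]) fun i h1 h2 => ?_
    rw [List.getElem_ofFn]
    exact (List.getD_eq_getElem F 0 h1).symm
  have hzT : ∀ n : ↥(normalizer (M.A : Set G)), (n : G) ∈ M.T ↔ φ n 0 = 0 := fun n => by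
    rw [← hWinj.eq_iff, ← hφ n 0, hW0]
    exact mem_centralizer_singleton_iff.trans mul_inv_eq_iff_eq_mul.symm
  have hstab : Nat.card ↥(MulAction.stabilizer ↥φ.range (0 : Fin 5)) = 12 := by
    let enc : ↥(MulAction.stabilizer ↥φ.range (0 : Fin 5)) → List ℕ := fun σ =>
      List.ofFn fun j : Fin 5 => F.getD ((((σ : ↥φ.range) : Equiv.Perm (Fin 5)) j : Fin 5) : ℕ) 0
    have hinj : Function.Injective enc := fun σ τ h => by
      refine Subtype.ext (Subtype.ext (Equiv.ext fun j => hWinj ?_))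
      have h' := congrFun (List.ofFn_injective h) j
      exact congrArg (fun a => M.el (2 * a)) h'
    have hact : ∀ (n : ↥(normalizer (M.A : Set G))) (p : ℕ), M.Acts (n : G) p → ∀ j : Fin 5,
        app p (F.getD (j : ℕ) 0) = F.getD ((φ n j : Fin 5) : ℕ) 0 := fun n p hp j => by
      obtain ⟨h1, h2⟩ := hp _ (hF16 _ (hFl j))
      exact M.double_inj h1 (hF16 _ (hFl _)) (h2.symm.trans (hφ n j))
    have hrange : Set.range enc = ((twelve.map fun p => F.map (app p)).toFinset : Set (List ℕ)) := by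
      ext l
      simp only [Set.mem_range, List.coe_toFinset, Set.mem_ofPred_eq, List.mem_map]
      constructor
      · rintro ⟨⟨⟨σ, n, rfl⟩, hσ⟩, rfl⟩
        have h0 : φ n 0 = 0 := hσ
        obtain ⟨p, hp, hpa⟩ := C.twelve_stab hres n (mem_inf.2 ⟨(hzT n).2 h0, n.2⟩)
        refine ⟨p, hp, ?_⟩
        conv_lhs => rw [hFeq, List.map_ofFn]
        exact congrArg List.ofFn (funext fun j => hact n p hpa j)
      · rintro ⟨p, hp, rfl⟩
        obtain ⟨n, hn, hna⟩ := C.twelve_real hres p hp
        refine ⟨⟨⟨φ ⟨n, (mem_inf.1 hn).2⟩, ⟨_, rfl⟩⟩, (hzT ⟨n, _⟩).1 (mem_inf.1 hn).1⟩, ?_⟩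
        conv_rhs => rw [hFeq, List.map_ofFn]
        exact congrArg List.ofFn (funext fun j => (hact ⟨n, _⟩ p hna j).symm)
    rw [← Nat.card_range_of_injective hinj, Nat.card_coe_set_eq, hrange, Set.ncard_coe_finset,
      List.toFinset_card_of_nodup hperm]
    rfl
  have hcard : Nat.card ↥φ.range = 60 := by
    rw [← Nat.card_congr (MulAction.orbitProdStabilizerEquivGroup ↥φ.range (0 : Fin 5)), Nat.card_prod,
      hstab, horb, Nat.card_coe_set_eq, Set.ncard_univ, Nat.card_fin]
  have hrange : φ.range = alternatingGroup (Fin 5) := by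
    refine Equiv.Perm.eq_alternatingGroup_of_index_eq_two ?_
    have h := φ.range.card_mul_index
    rw [hcard, Nat.card_perm, Nat.card_fin, Nat.factorial] at h
    norm_num [Nat.factorial] at h
    omega
  let φ' : ↥(normalizer (M.A : Set G)) →* A8Type.A5 :=
    φ.codRestrict (alternatingGroup (Fin 5)) fun n => hrange ▸ ⟨n, rfl⟩
  have hsurj : Function.Surjective φ' := fun σ => by
    obtain ⟨n, hn⟩ : (σ : Equiv.Perm (Fin 5)) ∈ φ.range := hrange.symm ▸ σ.2
    exact ⟨n, Subtype.ext hn⟩
  -- the kernel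
  have hAcomm : ∀ {x y : G}, x ∈ M.A → y ∈ M.A → x * y = y * x := fun hx hy => by
    have := M.ea_A.1
    exact congrArg Subtype.val (mul_comm' (⟨_, hx⟩ : ↥M.A) ⟨_, hy⟩)
  have hcent : ∀ n : ↥(normalizer (M.A : Set G)), φ' n = 1 → (n : G) ∈ centralizer (M.A : Set G) := by
    intro n h
    have h1 : ∀ j, (n : G) * W j * (n : G)⁻¹ = W j := fun j => by
      rw [hφ n j, show φ n = 1 from congrArg Subtype.val h, Equiv.Perm.one_apply]
    refine mem_centralizer_iff.2 fun x hx => ?_
    obtain ⟨a, ha, rfl⟩ := M.exists_double hx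
    refine (mul_inv_eq_iff_eq_mul.1 ?_).symm
    have hs := List.all_eq_true.1 hspan a (List.mem_range.2 ha)
    simp only [Bool.or_eq_true, beq_iff_eq, List.contains_iff_mem, List.any_eq_true, List.mem_range,
      Bool.and_eq_true, bne_iff_ne] at hs
    rcases hs with (rfl | hs) | ⟨j, hj, k, hk, -, rfl⟩
    · simp [M.el_zero]
    · obtain ⟨j, hj, rfl⟩ := List.getElem_of_mem hs
      have h := h1 ⟨j, hlen ▸ hj⟩
      rw [show W ⟨j, hlen ▸ hj⟩ = M.el (2 * F[j]) from
        congrArg (fun a => M.el (2 * a)) (List.getD_eq_getElem F 0 hj)] at h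
      exact h
    · rw [← (M.double_mul (hF16 _ (hFl ⟨j, hj⟩)) (hF16 _ (hFl ⟨k, hk⟩))).2]
      calc (n : G) * (W ⟨j, hj⟩ * W ⟨k, hk⟩) * (n : G)⁻¹
          = (n : G) * W ⟨j, hj⟩ * (n : G)⁻¹ * ((n : G) * W ⟨k, hk⟩ * (n : G)⁻¹) := by group
        _ = _ := by rw [h1, h1]
  have hker : φ'.ker = M.A.subgroupOf (normalizer (M.A : Set G)) ⊔
      Cfsg.oddCore ↥(normalizer (M.A : Set G)) := by
    refine le_antisymm (fun n hn => ?_) (sup_le (fun n hn => ?_) fun n hn => ?_)
    · have hnC := hcent n hn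
      have hAC : M.A ≤ centralizer (M.A : Set G) := fun x hx =>
        mem_centralizer_iff.2 fun y hy => hAcomm hy hx
      have hmax : ¬ 2 ∣ M.A.relIndex (centralizer (M.A : Set G)) := by
        intro hdvd
        obtain ⟨R, hR⟩ := ((M.isPGroup_sub inA).comap_subtype (K := centralizer (M.A : Set G))).exists_le_sylow
        have hR2 : IsPGroup 2 ↥((R : Subgroup _).map (centralizer (M.A : Set G)).subtype) := R.2.map _
        have hAR : M.A ≤ (R : Subgroup _).map (centralizer (M.A : Set G)).subtype := fun a ha =>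
          ⟨⟨a, hAC ha⟩, hR (mem_subgroupOf.2 ha), rfl⟩
        obtain ⟨d, hd, hle⟩ := LESylow.exists_conj_le_of_le (M.le_normalizer_of_two hR2 hAR) hR2
          (M.S.subtype M.S_le_normalizer_A)
        have hRA : (R : Subgroup _).map (centralizer (M.A : Set G)).subtype ≤ M.A := by
          intro w hw
          obtain ⟨v, hv, he⟩ := hle ⟨w, hw, rfl⟩
          obtain ⟨i, hi, ei⟩ := M.surj _ hv
          have hd' : d * w * d⁻¹ ∈ centralizer (M.A : Set G) := by
            obtain ⟨w', -, rfl⟩ := hw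
            refine mem_centralizer_iff.2 fun x hx => ?_
            have hx' : d⁻¹ * x * d ∈ M.A := by simpa using (mem_normalizer_iff.1 (inv_mem hd) x).1 hx
            have h := mem_centralizer_iff.1 w'.2 _ hx'
            calc x * (d * (w' : G) * d⁻¹) = d * ((d⁻¹ * x * d) * w') * d⁻¹ := by group
              _ = d * ((w' : G) * (d⁻¹ * x * d)) * d⁻¹ := by rw [h]
              _ = _ := by rw [coe_subtype]; group
          have hei : M.el i = d * w * d⁻¹ := ei.trans he
          have hiA : inA i = true := by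
            have hdd : (all64 fun i => inA i || any64 fun a => inA a && mul i a != mul a i) = true := by
              decide +kernel
            by_contra hne
            have h := all64_iff.1 hdd i hi
            simp only [Bool.not_eq_true] at hne
            simp only [hne, Bool.false_or, any64_iff, Bool.and_eq_true, bne_iff_ne] at h
            obtain ⟨a, ha, haA, hne'⟩ := h
            exact hne' ((M.el_comm hi ha).1
              (hei ▸ (mem_centralizer_iff.1 hd' _ (M.el_mem_sub ha haA)).symm))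
          have hA' : d * w * d⁻¹ ∈ M.A := hei ▸ M.el_mem_sub hi hiA
          have := (mem_normalizer_iff.1 (inv_mem hd) _).1 hA'
          simpa [mul_assoc] using this
        have e : (R : Subgroup _) = M.A.subgroupOf (centralizer (M.A : Set G)) :=
          le_antisymm (fun w hw => mem_subgroupOf.2 (hRA ⟨w, hw, rfl⟩)) hR
        exact R.not_dvd_index (e ▸ hdvd)
      obtain ⟨hodd', hle⟩ := A8Type.le_core_sup_abelian (M.isPGroup_sub inA) hAC hmax M.ea_A.1
        fun g hg _ _ => hg
      have hcn : core (centralizer (M.A : Set G)) ≤ normalizer (M.A : Set G) :=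
        (core_le _).trans (centralizer_le_normalizer _)
      have hN : normalizer (M.A : Set G) ≤ normalizer (core (centralizer (M.A : Set G)) : Set G) :=
        (LELarge.normalizer_le_normalizer_centralizer M.A).trans (normalizer_le_normalizer_core _)
      have hsub : (core (centralizer (M.A : Set G))).subgroupOf (normalizer (M.A : Set G)) ≤
          Cfsg.oddCore ↥(normalizer (M.A : Set G)) := PBasic.le_pPrimeCore
        (normal_subgroupOf_of_le_normalizer hN) (by
          rw [Nat.card_congr (subgroupOfEquivOfLe hcn).toEquiv, Nat.coprime_comm,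
            Nat.prime_two.coprime_iff_not_dvd]
          exact core_odd _)
      have hAco : M.A ≤ normalizer (core (centralizer (M.A : Set G)) : Set G) :=
        hAC.trans (core_normalized _)
      have hn' : (n : G) ∈ core (centralizer (M.A : Set G)) ⊔ M.A := hle hnC
      rw [sup_comm, ← SetLike.mem_coe, coe_mul_of_left_le_normalizer_right _ _ hAco] at hn'
      obtain ⟨a, ha, o, ho, hao⟩ := hn'
      have he : n = (⟨a, le_normalizer ha⟩ : ↥(normalizer (M.A : Set G))) * ⟨o, hcn ho⟩ :=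
        Subtype.ext hao.symm
      rw [he]
      exact mul_mem (mem_sup_left (mem_subgroupOf.2 ha)) (mem_sup_right (hsub (mem_subgroupOf.2 ho)))
    · rw [MonoidHom.mem_ker]
      refine Subtype.ext (Equiv.ext fun j => hWinj ?_)
      show W (φ n j) = W j
      rw [← hφ, hAcomm (mem_subgroupOf.1 hn) (hWA j), mul_inv_cancel_right]
    · rw [MonoidHom.mem_ker]
      refine Subtype.ext (Equiv.ext fun j => hWinj ?_)
      show W (φ n j) = W j
      rw [← hφ]
      set a : ↥(normalizer (M.A : Set G)) := ⟨W j, le_normalizer (hWA j)⟩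
      have hOn : (Cfsg.pPrimeCore 2 ↥(normalizer (M.A : Set G))).Normal :=
        Cfsg.Agent.FittingCores.pPrimeCore_normal 2
      have h2 : n * (a * n⁻¹ * a⁻¹) ∈ Cfsg.oddCore ↥(normalizer (M.A : Set G)) :=
        mul_mem hn (hOn.conj_mem _ (inv_mem hn) a)
      have h1 : (n : G) * W j * (n : G)⁻¹ * (W j)⁻¹ ∈ M.A :=
        mul_mem ((mem_normalizer_iff.1 n.2 _).1 (hWA j)) (inv_mem (hWA j))
      have ho : Odd (orderOf ((n * (a * n⁻¹ * a⁻¹) : ↥(normalizer (M.A : Set G))) : G)) := by
        rw [orderOf_coe]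
        exact odd_orderOf_of_mem (fun h => Nat.prime_two.coprime_iff_not_dvd.1
          (PBasic.pPrimeCore_coprime 2 _).symm h) h2
      have he : ((n * (a * n⁻¹ * a⁻¹) : ↥(normalizer (M.A : Set G))) : G) =
          (n : G) * W j * (n : G)⁻¹ * (W j)⁻¹ := by
        push_cast
        rw [show (a : G) = W j from rfl]
        group
      rw [he] at ho
      exact mul_inv_eq_one.1 ((TwoEl.of_group (M.isPGroup_sub inA) h1).eq_one_of_odd ho)
  -- three classes of involutions
  have h12 : W 1 * W 2 = M.el 2 := by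
    show M.el (2 * F.getD 1 0) * M.el (2 * F.getD 2 0) = _
    have e := (M.double_mul (hF16 _ (hFl 1)) (hF16 _ (hFl 2))).2
    simp only [Fin.val_one, Fin.val_two] at e
    rw [e, hF12]
  have hA2 : ∀ x ∈ M.A, x ≠ 1 → IsConj M.z x ∨ IsConj (M.el 2) x := by
    intro x hx hx1
    obtain ⟨a, ha, rfl⟩ := M.exists_double hx
    have hs := List.all_eq_true.1 hspan a (List.mem_range.2 ha)
    simp only [Bool.or_eq_true, beq_iff_eq, List.contains_iff_mem, List.any_eq_true, List.mem_range,
      Bool.and_eq_true, bne_iff_ne] at hs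
    rcases hs with (rfl | hs) | ⟨j, hj, k, hk, hjk, rfl⟩
    · exact absurd M.el_zero hx1
    · exact Or.inl (M.mem_orbitList.1 (hL ▸ List.mem_map.2 ⟨a, hs, rfl⟩)).2.2
    · right
      obtain ⟨σ, hσ, hj', hk'⟩ := exists_even (j := ⟨j, hj⟩) (k := ⟨k, hk⟩) (fun h => hjk (congrArg Fin.val h))
      obtain ⟨n, hn⟩ : σ ∈ φ.range := hrange.symm ▸ hσ
      refine IsConj.symm (isConj_iff.2 ⟨(n : G), ?_⟩)
      rw [← (M.double_mul (hF16 _ (hFl ⟨j, hj⟩)) (hF16 _ (hFl ⟨k, hk⟩))).2]
      calc (n : G) * (W ⟨j, hj⟩ * W ⟨k, hk⟩) * (n : G)⁻¹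
          = (n : G) * W ⟨j, hj⟩ * (n : G)⁻¹ * ((n : G) * W ⟨k, hk⟩ * (n : G)⁻¹) := by group
        _ = _ := by rw [hφ, hφ, hn, hj', hk', h12]
  have hz2 : ¬ IsConj M.z (M.el 2) := fun h => by
    have hm := M.mem_orbitList.2 ⟨by norm_num, (by decide : inA 2 = true), h⟩
    have hfr : ∀ L ∈ frames, 2 ∉ L := by decide
    exact hfr _ (C.orbit_frame hres hcore hodd) hm
  have hout : ∀ a ∈ M.A, ¬ IsConj (M.el 1) a := fun a ha h => by
    obtain ⟨g, hg⟩ := isConj_iff.1 h
    exact C.not_conj_A (by norm_num) (by decide) (by decide) g (hg ▸ ha)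
  have ho2 : ∀ i < 64, mul i i = 0 → i ≠ 0 → orderOf (M.el i) = 2 := fun i hi hs h0 =>
    orderOf_eq_prime (by rw [pow_two, (M.el_sq hi).2 hs]) (fun h => h0 ((M.el_eq_one hi).1 h))
  have h3 : Nat.card {c : ConjClasses G // ∃ x ∈ c.carrier, orderOf x = 2} = 3 := by
    show Nat.card ↥({c : ConjClasses G | ∃ x ∈ c.carrier, orderOf x = 2}) = 3
    rw [Nat.card_coe_set_eq, Set.ncard_eq_three]
    refine ⟨ConjClasses.mk M.z, ConjClasses.mk (M.el 2), ConjClasses.mk (M.el 1),
      fun h => hz2 (ConjClasses.mk_eq_mk_iff_isConj.1 h),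
      fun h => hout _ M.z_mem (ConjClasses.mk_eq_mk_iff_isConj.1 h).symm,
      fun h => hout _ (M.el_mem_sub (by norm_num) (by decide)) (ConjClasses.mk_eq_mk_iff_isConj.1 h).symm, ?_⟩
    ext c
    simp only [Set.mem_ofPred_eq, Set.mem_insert_iff, Set.mem_singleton_iff]
    constructor
    · rintro ⟨x, hxc, hx2⟩
      obtain ⟨P, hP⟩ := (IsPGroup.of_card (n := 1) (by rw [Nat.card_zpowers, hx2, pow_one]) :
        IsPGroup 2 ↥(zpowers x)).exists_le_sylow
      obtain ⟨k, hk⟩ := MulAction.exists_smul_eq G P M.S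
      have hkS : k * x * k⁻¹ ∈ (M.S : Subgroup G) := by
        rw [← hk, Sylow.coe_subgroup_smul]
        exact ⟨x, hP (mem_zpowers x), rfl⟩
      obtain ⟨i, hi, ei⟩ := M.surj _ hkS
      have hc : c = ConjClasses.mk (M.el i) := by
        rw [← ConjClasses.mem_carrier_iff_mk_eq.1 hxc, ConjClasses.mk_eq_mk_iff_isConj, ei]
        exact isConj_iff.2 ⟨k, rfl⟩
      have hne : M.el i ≠ 1 := by
        rw [ei, Ne, conj_eq_one_iff]
        intro h
        rw [h, orderOf_one] at hx2
        exact absurd hx2 (by norm_num)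
      rw [hc]
      simp only [ConjClasses.mk_eq_mk_iff_isConj]
      cases hiA : inA i
      · refine Or.inr (Or.inr (C.outside_conj hres hi hiA ((M.el_sq hi).1 ?_)).symm)
        have hxx : x * x = 1 := by rw [← pow_two, ← hx2, pow_orderOf_eq_one]
        rw [ei, show k * x * k⁻¹ * (k * x * k⁻¹) = k * (x * x) * k⁻¹ by group, hxx]
        group
      · rcases hA2 _ (M.el_mem_sub hi hiA) hne with h | h
        · exact Or.inl h.symm
        · exact Or.inr (Or.inl h.symm)
    · rintro (rfl | rfl | rfl)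
      exacts [⟨_, ConjClasses.mem_carrier_mk, ho2 4 (by norm_num) (by decide) (by norm_num)⟩,
        ⟨_, ConjClasses.mem_carrier_mk, ho2 2 (by norm_num) (by decide) (by norm_num)⟩,
        ⟨_, ConjClasses.mem_carrier_mk, ho2 1 (by norm_num) (by decide) (by norm_num)⟩]
  obtain ⟨P, hP⟩ := M.exists_sylow_iso
  have hn := A8Type.normal_of_hyps M.S P hP h3 M.A M.ea_A M.card_A φ' hsurj hker
  rw [hodd, sup_bot_eq] at hn
  have hle : M.A ≤ Cfsg.pCore 2 G := le_sSup ⟨hn, M.isPGroup_sub inA⟩
  rw [hcore, le_bot_iff] at hle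
  have h16 := M.card_A
  rw [hle, card_bot] at h16
  exact absurd h16 (by norm_num)

end Cfsg.Agent.A8Rec
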