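import Cfsg.Agent.Lib.A8Rec.Linear

/-!
Finite checks for the shape with `A` normal modulo the odd core: the maps of `A` fixing the central
involution that may occur next to the four maps of the Sylow group.
-/

set_option autoImplicit false
set_option maxRecDepth 20000

namespace Cfsg.Agent.A8Rec.Linear

/-- A word gives an element of order four, or an involution commuting with the four maps of `S` and
different from them. -/
def wrong (gs w : List ℕ) : Bool :=
  let m := ev gs w
  ((List.range 16).any (fun a => m (m a) != a) && (List.range 16).all (fun a => m (m (m (m a))) == a)) ||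
  ((List.range 16).all (fun a => m (m a) == a) &&
    vier.all (fun v => (List.range 16).all fun a => m (app v a) == app v (m a)) &&
    !vier.contains (evMap gs w))

/-- A map carries the map of `el 1` to that of `el 32`. -/
def moves (p : ℕ) : Bool := (List.range 16).all fun a => app p (app 42273 a) == app 35875 (app p a)

/-- Words, by indices in the list of generators. -/
def wMove : List (List ℕ) := [[0, 0, 0], [0, 0, 2, 0]]

/-- Words, by indices in the list of generators. -/
def wStab : List (List ℕ) :=
  [[0, 0, 2], [0, 3, 0], [0, 4, 0], [0, 0, 0], [0, 2], [0, 3], [0, 4], [0, 5], [0, 7], [0, 6], [0, 8],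
    [0, 9], [0, 11]]

/-- Words generating the twelve maps. -/
def wGen : List (List ℕ) :=
  [[], [2], [3], [4], [0], [0, 2], [0, 3], [0, 4], [0, 0], [0, 0, 2], [0, 0, 3], [0, 0, 4]]

/-- A map fixing the point 2. -/
def fixed (i j l : ℕ) : ℕ := i + 16 * 2 + 256 * j + 4096 * l

theorem move_cases : (pts.all fun i => pts.all fun j => pts.all fun l =>
    !inj (fixed i j l) || !moves (fixed i j l) || twelve.contains (fixed i j l) ||
      wMove.any (wrong (fixed i j l :: vier))) = true := by
  decide +kernel

/-- One row of the check of the stabilizer. -/
def stabRow (i : ℕ) : Bool := pts.all fun j => pts.all fun l =>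
    !inj (fixed i j l) || twelve.contains (fixed i j l) ||
      wStab.any (wrong (fixed i j l :: twelve))

theorem stab_rows_0 : (([1, 2, 3] : List ℕ).all stabRow) = true := by
  decide +kernel

theorem stab_rows_1 : (([4, 5, 6] : List ℕ).all stabRow) = true := by
  decide +kernel

theorem stab_rows_2 : (([7, 8, 9] : List ℕ).all stabRow) = true := by
  decide +kernel

theorem stab_rows_3 : (([10, 11, 12] : List ℕ).all stabRow) = true := by
  decide +kernel

theorem stab_rows_4 : (([13, 14, 15] : List ℕ).all stabRow) = true := by
  decide +kernel

theorem stab_cases : (pts.all fun i => pts.all fun j => pts.all fun l =>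
    !inj (fixed i j l) || twelve.contains (fixed i j l) ||
      wStab.any (wrong (fixed i j l :: twelve))) = true := by
  have h : pts = [1, 2, 3] ++ [4, 5, 6] ++ [7, 8, 9] ++ [10, 11, 12] ++ [13, 14, 15] := by decide
  show pts.all stabRow = true
  rw [h]
  simp only [List.all_append, stab_rows_0, stab_rows_1, stab_rows_2, stab_rows_3, stab_rows_4,
    Bool.and_self]

theorem gen_cases : (twelve.all fun q => !moves q || twelve.all fun p =>
    wGen.any fun w => evMap (q :: vier) w == p) = true := by
  decide +kernel

theorem twelve_fix : (twelve.all fun p => app p 2 == 2 &&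
    app p 1 + 16 * app p 2 + 256 * app p 4 + 4096 * app p 8 == p) = true := by
  decide +kernel

theorem twelve_orbit : ([8, 9].all fun a => twelve.any fun p => app p a == 1) = true := by
  decide +kernel

/-- The five points of a frame. -/
def five (L : List ℕ) : List ℕ := L.map fun i => i / 2

theorem frame_perms : ([frame8, frame12].all fun F =>
    decide ((twelve.map fun p => F.map (app p)).Nodup)) = true := by
  decide +kernel

end Cfsg.Agent.A8Rec.Linear
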