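import Cfsg.Agent.Lib.A8Rec.Auto
import Cfsg.Agent.Lib.A8Rec.CaseNTab
import Cfsg.Agent.Lib.Transfer.SignThompson

/-!
The shape with `A` normal modulo the odd core: involutions outside `A` are not fused into `A` and form
one class, and `T ∩ N(A)` acts on `A` exactly by the twelve maps.
-/

set_option autoImplicit false
set_option maxRecDepth 20000
set_option linter.unusedSectionVars false

namespace Cfsg.Agent.A8Rec

open Subgroup ClosedAbelian Linear

theorem out_witness : (all64 fun x => inA x || mul x x != 0 || any64 fun i => any64 fun j =>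
    mul i x == mul x i && mul j x == mul x j && mul (cj i j) (inv j) == 4) = true := by
  decide +kernel

theorem out_comm : (all64 fun x => inA x || mul x x != 0 || all64 fun i => all64 fun j =>
    !(mul i x == mul x i && mul j x == mul x j) ||
      (mul (cj i j) (inv j) == 0 || mul (cj i j) (inv j) == 4)) = true := by
  decide +kernel

theorem out_card : (all64 fun x => inA x || mul x x != 0 ||
    ((List.range 64).filter fun i => mul i x == mul x i).length == 16) = true := by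
  decide +kernel

theorem out_reps : (all64 fun x => inA x || mul x x != 0 ||
    [1, 32, 33].any fun r => any64 fun s => cj s x == r) = true := by
  decide +kernel

theorem comm_inA : (all64 fun i => all64 fun j => inA (mul (cj i j) (inv j))) = true := by
  decide +kernel

theorem sq_inA : (all64 fun s => inA (mul s s)) = true := by decide +kernel

theorem out_thirtytwo : (all64 fun x => !(bit x 0 == 0) || inA x || mul x x != 0 ||
    any64 fun s => cj s x == 32) = true ∧
    (all64 fun x => !(bit x 0 == bit x 5) || inA x || mul x x != 0 ||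
      any64 fun s => cj s x == 33) = true := by
  decide +kernel

variable {G : Type*} [Group G] [Finite G] {M : Model G}

namespace Model

variable (M)

omit [Finite G] in
/-- The commutator of two elements of `S`. -/
theorem el_commutator {i j : ℕ} (hi : i < 64) (hj : j < 64) :
    M.el i * M.el j * (M.el i)⁻¹ * (M.el j)⁻¹ = M.el (mul (cj i j) (inv j)) := by
  rw [M.el_conj hi hj, M.el_inv hj, M.hmul _ (cj_lt i j) _ (inv_lt j)]

include M in
omit [Finite G] in
/-- The centralizer in `S` of the element with index `x`. -/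
theorem closed_centB (x : ℕ) (hx : x < 64) : closedB (fun i => mul i x == mul x i) = true := by
  have h : ∀ i < 64, (mul i x == mul x i) = true ↔ M.el i * M.el x = M.el x * M.el i := fun i hi => by
    rw [beq_iff_eq, M.el_comm hi hx]
  rw [closedB, Bool.and_eq_true]
  refine ⟨(h 0 (by norm_num)).2 (by rw [M.el_zero, one_mul, mul_one]), all64_iff.2 fun i hi =>
    all64_iff.2 fun j hj => ?_⟩
  rcases Bool.eq_false_or_eq_true (mul i x == mul x i && mul j x == mul x j) with hb | hb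
  · rw [hb]
    rw [Bool.and_eq_true] at hb
    have h1 := (h i hi).1 hb.1
    have h2 := (h j hj).1 hb.2
    simp only [Bool.not_true, Bool.false_or]
    refine (h _ (mul_lt i j)).2 ?_
    rw [← M.hmul i hi j hj]
    calc M.el i * M.el j * M.el x = M.el i * (M.el x * M.el j) := by rw [mul_assoc, h2]
      _ = M.el x * M.el i * M.el j := by rw [← mul_assoc, h1]
      _ = _ := by rw [mul_assoc]
  · rw [hb]; rfl

/-- The centralizer in `S` of the element with index `x`, as a subgroup. -/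
def centS (x : ℕ) : Subgroup G := M.sub fun i => mul i x == mul x i

theorem centS_le (x : ℕ) (hx : x < 64) : M.centS x ≤ centralizer ({M.el x} : Set G) := fun y hy => by
  obtain ⟨i, hi, hp, rfl⟩ := (M.mem_sub (M.closed_centB x hx)).1 hy
  exact mem_centralizer_singleton_iff.2 ((M.el_comm hi hx).2 (beq_iff_eq.1 hp))

end Model

namespace CaseN

variable (C : CaseN M)
include C

omit [Finite G] in
/-- The common group `T ∩ N(A)`. -/
theorem S_le : (M.S : Subgroup G) ≤ M.T ⊓ normalizer (M.A : Set G) :=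
  le_inf M.S_le_T M.S_le_normalizer_A

/-- An element of `A O` in a 2-subgroup containing `A` lies in `A`. -/
theorem mem_A_of_two {P : Subgroup G} (hP : IsPGroup 2 ↥P) (hA : M.A ≤ P) {x : G} (hxP : x ∈ P)
    (hx : x ∈ M.A ⊔ M.O) : x ∈ M.A := by
  have hAO : M.A ≤ normalizer (M.O : Set G) := M.A_le_T.trans (core_normalized M.T)
  rw [← SetLike.mem_coe, coe_mul_of_left_le_normalizer_right _ _ hAO] at hx
  obtain ⟨a, ha, o, ho, rfl⟩ := hx
  have ho1 : o = 1 := (TwoEl.of_group hP (by simpa using mul_mem (inv_mem (hA ha)) hxP)).eq_one_of_odd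
    (odd_orderOf_of_mem (core_odd _) ho)
  simpa [ho1] using ha

/-- The Frattini argument for `A O`. -/
theorem frat {t : G} (ht : t ∈ M.T) :
    ∃ o ∈ M.O, ∃ n ∈ M.T ⊓ normalizer (M.A : Set G), t = o * n := by
  have hAO : M.A ≤ normalizer (M.O : Set G) := M.A_le_T.trans (core_normalized M.T)
  have hP : M.A.map (MulAut.conj t).toMonoidHom ≤ M.A ⊔ M.O := by
    rintro _ ⟨a, ha, rfl⟩
    exact (mem_normalizer_iff.1 (C.normA ht) a).1 (mem_sup_left ha)
  obtain ⟨c, hc, R, hR2, hAR, hRW, hcR⟩ :=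
    exists_conj_over (M.isPGroup_sub inA) le_sup_left ((M.isPGroup_sub inA).map _) hP
  have hct : c * t ∈ normalizer (M.A : Set G) := M.conj_eq_A hR2 hAR (by
    rintro _ ⟨a, ha, rfl⟩
    have := hcR _ ⟨a, ha, rfl⟩
    simpa [mul_assoc] using this)
  change c ∈ M.A ⊔ M.O at hc
  rw [← SetLike.mem_coe, coe_mul_of_left_le_normalizer_right _ _ hAO] at hc
  obtain ⟨a, ha, o, ho, rfl⟩ := hc
  refine ⟨o⁻¹, inv_mem ho, a⁻¹ * (a * o * t), mem_inf.2 ⟨mul_mem (inv_mem (M.A_le_T ha)) (mul_mem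
    (mul_mem (M.A_le_T ha) (core_le _ ho)) ht), mul_mem (inv_mem (le_normalizer ha)) hct⟩, by group⟩

/-- An involution of `S` outside `A` has no conjugate in `A`. -/
theorem not_conj_A {x : ℕ} (hx : x < 64) (hA : inA x = false) (hsq : mul x x = 0) (g : G) :
    g * M.el x * g⁻¹ ∉ M.A := by
  intro hy
  have : Fact (Nat.Prime 2) := ⟨Nat.prime_two⟩
  set X := centralizer ({g * M.el x * g⁻¹} : Set G) with hX
  have hAX : M.A ≤ X := fun a ha => mem_centralizer_singleton_iff.2 (by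
    have := M.ea_A.1
    exact congrArg Subtype.val (mul_comm' (⟨a, ha⟩ : ↥M.A) ⟨_, hy⟩))
  have hPX : (M.centS x).map (MulAut.conj g).toMonoidHom ≤ X := by
    rintro _ ⟨w, hw, rfl⟩
    have h := mem_centralizer_singleton_iff.1 (M.centS_le x hx hw)
    refine mem_centralizer_singleton_iff.2 ?_
    simp only [MulEquiv.coe_toMonoidHom, MulAut.conj_apply]
    calc g * w * g⁻¹ * (g * M.el x * g⁻¹) = g * (w * M.el x) * g⁻¹ := by group
      _ = g * (M.el x * w) * g⁻¹ := by rw [h]
      _ = _ := by group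
  obtain ⟨c, hc, R, hR2, hAR, -, hcR⟩ :=
    exists_conj_over (M.isPGroup_sub inA) hAX ((M.isPGroup_sub _).map _) hPX
  obtain ⟨d, hd, hle⟩ := LESylow.exists_conj_le_of_le (M.le_normalizer_of_two hR2 hAR) hR2
    (M.S.subtype M.S_le_normalizer_A)
  set k := d * c * g with hk
  have hkS : ∀ w ∈ M.centS x, k * w * k⁻¹ ∈ (M.S : Subgroup G) := by
    intro w hw
    obtain ⟨v, hv, he⟩ := hle ⟨_, hcR _ ⟨w, hw, rfl⟩, rfl⟩
    have he' : k * w * k⁻¹ = (v : G) := by
      rw [hk, show (v : G) = _ from he]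
      simp [mul_assoc]
    exact he' ▸ hv
  have hkx : k * M.el x * k⁻¹ ∈ M.A := by
    rw [hk, show d * c * g * M.el x * (d * c * g)⁻¹ =
      d * (c * (g * M.el x * g⁻¹) * c⁻¹) * d⁻¹ by group]
    refine (mem_normalizer_iff.1 hd _).1 ?_
    rwa [mem_centralizer_singleton_iff.1 hc, mul_inv_cancel_right]
  have hw := all64_iff.1 out_witness x hx
  simp only [hA, hsq, bne_self_eq_false, Bool.false_or, any64_iff, Bool.and_eq_true, beq_iff_eq] at hw
  obtain ⟨i, hi, j, hj, ⟨hix, hjx⟩, hij⟩ := hw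
  obtain ⟨i', hi', ei⟩ := M.surj _ (hkS _ (M.el_mem_sub hi (beq_iff_eq.2 hix)))
  obtain ⟨j', hj', ej⟩ := M.surj _ (hkS _ (M.el_mem_sub hj (beq_iff_eq.2 hjx)))
  have hkz : k * M.z * k⁻¹ ∈ M.A := by
    rw [show M.z = M.el i * M.el j * (M.el i)⁻¹ * (M.el j)⁻¹ by rw [M.el_commutator hi hj, hij]; rfl,
      show k * (M.el i * M.el j * (M.el i)⁻¹ * (M.el j)⁻¹) * k⁻¹ = (k * M.el i * k⁻¹) * (k * M.el j * k⁻¹) *
        (k * M.el i * k⁻¹)⁻¹ * (k * M.el j * k⁻¹)⁻¹ by group, ← ei, ← ej, M.el_commutator hi' hj']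
    exact M.el_mem_sub (mul_lt _ _) (all64_iff.1 (all64_iff.1 comm_inA i' hi') j' hj')
  obtain ⟨n, hn, hnz⟩ := M.ctrl M.z_mem hkz
  have hT : n⁻¹ * k ∈ M.T := mem_centralizer_singleton_iff.2 (by
    calc n⁻¹ * k * M.z = n⁻¹ * (k * M.z * k⁻¹) * k := by group
      _ = n⁻¹ * (n * M.z * n⁻¹) * k := by rw [hnz]
      _ = _ := by group)
  have h1 : n⁻¹ * (k * M.el x * k⁻¹) * n ∈ M.A := by
    simpa using (mem_normalizer_iff.1 (inv_mem hn) _).1 hkx
  have h2 : M.el x ∈ M.A ⊔ M.O := by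
    have := (mem_normalizer_iff.1 (C.normA (inv_mem hT)) _).1 (mem_sup_left h1)
    simpa [mul_assoc] using this
  have h3 := mem_A_of_two C M.S.isPGroup' M.A_le (M.mem x hx) h2
  rw [Model.A, M.el_mem_sub_iff Model.closed_A hx, hA] at h3
  exact Bool.false_ne_true h3

/-- A 2-group centralizing an outside involution has at most 16 elements. -/
theorem card_le_sixteen {x : ℕ} (hx : x < 64) (hA : inA x = false) (hsq : mul x x = 0) {R : Subgroup G}
    (hR : IsPGroup 2 ↥R) (hRC : R ≤ centralizer ({M.el x} : Set G)) : Nat.card ↥R ≤ 16 := by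
  have : Fact (Nat.Prime 2) := ⟨Nat.prime_two⟩
  have hz : IsPGroup 2 ↥(zpowers (M.el x)) := (TwoEl.of_group M.S.isPGroup' (M.mem x hx)).isPGroup
  have hP : IsPGroup 2 ↥(R ⊔ zpowers (M.el x)) :=
    hR.to_sup_of_normal_right' hz (hRC.trans (LESylow.centralizer_le_normalizer_zpowers (M.el x)))
  obtain ⟨P, hPle⟩ := hP.exists_le_sylow
  obtain ⟨k, hk⟩ := MulAction.exists_smul_eq G P M.S
  have hkS : ∀ w ∈ R ⊔ zpowers (M.el x), k * w * k⁻¹ ∈ (M.S : Subgroup G) := fun w hw => by
    rw [← hk, Sylow.coe_subgroup_smul]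
    exact ⟨w, hPle hw, rfl⟩
  obtain ⟨m, hm, em⟩ := M.surj _ (hkS _ (mem_sup_right (mem_zpowers _)))
  have hmA : inA m = false := by
    by_contra h
    exact C.not_conj_A hx hA hsq k (em ▸ M.el_mem_sub hm (Bool.not_eq_false _ ▸ h))
  have hmsq : mul m m = 0 := (M.el_sq hm).1 (by
    rw [em, show k * M.el x * k⁻¹ * (k * M.el x * k⁻¹) = k * (M.el x * M.el x) * k⁻¹ by group,
      (M.el_sq hx).2 hsq]
    group)
  have hle : R.map (MulAut.conj k).toMonoidHom ≤ M.centS m := by
    rintro _ ⟨w, hw, rfl⟩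
    obtain ⟨i, hi, ei⟩ := M.surj _ (hkS w (mem_sup_left hw))
    show k * w * k⁻¹ ∈ _
    rw [← ei]
    refine M.el_mem_sub hi (beq_iff_eq.2 ((M.el_comm hi hm).1 ?_))
    rw [ei, em]
    calc k * w * k⁻¹ * (k * M.el x * k⁻¹) = k * (w * M.el x) * k⁻¹ := by group
      _ = k * (M.el x * w) * k⁻¹ := by rw [mem_centralizer_singleton_iff.1 (hRC hw)]
      _ = _ := by group
  have hc := all64_iff.1 out_card m hm
  simp only [hmA, hmsq, bne_self_eq_false, Bool.false_or, beq_iff_eq] at hc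
  have hcard : Nat.card ↥(M.centS m) = 16 := (M.card_sub (M.closed_centB m hm)).trans hc
  rw [← LEBasic.card_map_conj R k, ← hcard]
  exact Nat.le_of_dvd Nat.card_pos (card_dvd_of_le hle)

/-- Fusion of involutions of `S` outside `A` happens in `T`. -/
theorem fused_T {x y : ℕ} (hx : x < 64) (hxA : inA x = false) (hxs : mul x x = 0)
    (hy : y < 64) (hyA : inA y = false) (hys : mul y y = 0) (h : IsConj (M.el x) (M.el y)) :
    ∃ t ∈ M.T, t * M.el x * t⁻¹ = M.el y := by
  obtain ⟨g, hg⟩ := isConj_iff.1 h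
  have hP : (M.centS x).map (MulAut.conj g).toMonoidHom ≤ centralizer ({M.el y} : Set G) := by
    rintro _ ⟨w, hw, rfl⟩
    refine mem_centralizer_singleton_iff.2 ?_
    simp only [MulEquiv.coe_toMonoidHom, MulAut.conj_apply, ← hg]
    calc g * w * g⁻¹ * (g * M.el x * g⁻¹) = g * (w * M.el x) * g⁻¹ := by group
      _ = g * (M.el x * w) * g⁻¹ := by rw [mem_centralizer_singleton_iff.1 (M.centS_le x hx hw)]
      _ = _ := by group
  obtain ⟨c, hc, R, hR2, hyR, hRC, hcR⟩ :=
    exists_conj_over (A := M.centS y) (M.isPGroup_sub _) (M.centS_le y hy) ((M.isPGroup_sub _).map _) hP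
  have hcy := all64_iff.1 out_card y hy
  simp only [hyA, hys, bne_self_eq_false, Bool.false_or, beq_iff_eq] at hcy
  have hR : R = M.centS y := (eq_of_le_of_card_ge hyR ((C.card_le_sixteen hy hyA hys hR2 hRC).trans
    ((M.card_sub (M.closed_centB y hy)).trans hcy).ge)).symm
  set k := c * g with hk
  have hkS : ∀ w ∈ M.centS x, k * w * k⁻¹ ∈ M.centS y := fun w hw => by
    have := hR ▸ hcR _ ⟨w, hw, rfl⟩
    simpa [hk, mul_assoc] using this
  have hw := all64_iff.1 out_witness x hx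
  simp only [hxA, hxs, bne_self_eq_false, Bool.false_or, any64_iff, Bool.and_eq_true, beq_iff_eq] at hw
  obtain ⟨i, hi, j, hj, ⟨hix, hjx⟩, hij⟩ := hw
  obtain ⟨i', hi', hpi, ei⟩ :=
    (M.mem_sub (M.closed_centB y hy)).1 (hkS _ (M.el_mem_sub hi (beq_iff_eq.2 hix)))
  obtain ⟨j', hj', hpj, ej⟩ :=
    (M.mem_sub (M.closed_centB y hy)).1 (hkS _ (M.el_mem_sub hj (beq_iff_eq.2 hjx)))
  have hd := all64_iff.1 out_comm y hy
  simp only [hyA, hys, bne_self_eq_false, Bool.false_or, all64_iff] at hd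
  have hd' := hd i' hi' j' hj'
  simp only [hpi, hpj, Bool.and_self, Bool.not_true, Bool.false_or, Bool.or_eq_true, beq_iff_eq] at hd'
  have hkz : k * M.z * k⁻¹ = M.el (mul (cj i' j') (inv j')) := by
    rw [show M.z = M.el i * M.el j * (M.el i)⁻¹ * (M.el j)⁻¹ by rw [M.el_commutator hi hj, hij]; rfl,
      show k * (M.el i * M.el j * (M.el i)⁻¹ * (M.el j)⁻¹) * k⁻¹ = (k * M.el i * k⁻¹) * (k * M.el j * k⁻¹) *
        (k * M.el i * k⁻¹)⁻¹ * (k * M.el j * k⁻¹)⁻¹ by group, ← ei, ← ej, M.el_commutator hi' hj']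
  refine ⟨k, mem_centralizer_singleton_iff.2 ?_, ?_⟩
  · rcases hd' with h | h <;> rw [h] at hkz
    · rw [M.el_zero, conj_eq_one_iff] at hkz
      exact absurd hkz M.z_ne
    · exact mul_inv_eq_iff_eq_mul.1 hkz
  · calc k * M.el x * k⁻¹ = c * (g * M.el x * g⁻¹) * c⁻¹ := by rw [hk]; group
      _ = c * M.el y * c⁻¹ := by rw [hg]
      _ = _ := by rw [mem_centralizer_singleton_iff.1 hc, mul_inv_cancel_right]

/-- A subgroup of index two of `S` missing a class forces fusion of `el 1` into another. -/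
theorem conj_of_transfer (hres : Cfsg.pResidual 2 G = ⊤) {p : ℕ → Bool} {r : ℕ}
    (hp : closedB p = true) (hlen : ((List.range 64).filter p).length = 32) (h1 : p 1 = false)
    (hr : (all64 fun x => !p x || inA x || mul x x != 0 || any64 fun s => cj s x == r) = true) :
    IsConj (M.el 1) (M.el r) := by
  have : Fact (Nat.Prime 2) := ⟨Nat.prime_two⟩
  by_contra hne
  have hidx : (M.sub p).index = 2 ^ (0 + 1) * (M.S : Subgroup G).index := by
    have e1 := (M.sub p).card_mul_index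
    have e2 := (M.S : Subgroup G).card_mul_index
    rw [M.card_sub hp, hlen] at e1
    rw [M.card_S] at e2
    omega
  obtain ⟨χ, hχ⟩ := SignThompson.exists_sign_hom (M.sub p) (M.el 1) 0 _
    (by
      rw [pow_one]
      exact orderOf_eq_prime (by rw [pow_two, M.el_sq (by norm_num)]; decide)
        (fun h => absurd ((M.el_eq_one (by norm_num)).1 h) (by norm_num)))
    (fun g hg => by
      rw [pow_zero, pow_one] at hg
      obtain ⟨m, hm, hpm, em⟩ := (M.mem_sub hp).1 hg
      have hmA : inA m = false := by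
        by_contra h
        refine C.not_conj_A (x := 1) (by norm_num) (by decide) (by decide) g⁻¹ ?_
        rw [inv_inv, ← em]
        exact M.el_mem_sub hm (Bool.not_eq_false _ ▸ h)
      have hmsq : mul m m = 0 := (M.el_sq hm).1 (by
        rw [em, show g⁻¹ * M.el 1 * g * (g⁻¹ * M.el 1 * g) = g⁻¹ * (M.el 1 * M.el 1) * g by group,
          (M.el_sq (by norm_num)).2 (by decide)]
        group)
      have h := all64_iff.1 hr m hm
      simp only [hpm, hmA, hmsq, bne_self_eq_false, Bool.not_true, Bool.false_or, any64_iff,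
        beq_iff_eq] at h
      obtain ⟨s, hs, e⟩ := h
      refine hne (isConj_iff.2 ⟨M.el s * g⁻¹, ?_⟩)
      rw [← e, ← M.el_conj hs hm, em]
      group)
    (Nat.odd_iff.2 (Nat.two_dvd_ne_zero.1 M.S.not_dvd_index)) hidx
  rw [SignThompson.hom_eq_one hres χ (M.el 1)] at hχ
  exact absurd hχ (by decide)

/-- The three classes of involutions of `S` outside `A` are fused. -/
theorem outside_conj (hres : Cfsg.pResidual 2 G = ⊤) {x : ℕ} (hx : x < 64) (hA : inA x = false)
    (hsq : mul x x = 0) : IsConj (M.el 1) (M.el x) := by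
  have h := all64_iff.1 out_reps x hx
  simp only [hA, hsq, bne_self_eq_false, Bool.false_or, List.any_eq_true, any64_iff, beq_iff_eq] at h
  obtain ⟨r, hr, s, hs, hsx⟩ := h
  have hxr : IsConj (M.el x) (M.el r) := isConj_iff.2 ⟨M.el s, by rw [M.el_conj hs hx, hsx]⟩
  refine IsConj.trans ?_ hxr.symm
  simp only [List.mem_cons, List.not_mem_nil, or_false] at hr
  rcases hr with rfl | rfl | rfl
  · exact IsConj.refl _
  · exact C.conj_of_transfer hres (p := fun i => bit i 0 == 0) (by decide +kernel) (by decide +kernel)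
      (by decide) out_thirtytwo.1
  · exact C.conj_of_transfer hres (p := fun i => bit i 0 == bit i 5) (by decide +kernel) (by decide +kernel)
      (by decide) out_thirtytwo.2

/-- An element of the odd core normalizing `A` centralizes it. -/
theorem odd_cent {o : G} (ho : o ∈ M.O) (hn : o ∈ normalizer (M.A : Set G)) {a : G} (ha : a ∈ M.A) :
    o * a * o⁻¹ = a := by
  have h1 : o * a * o⁻¹ * a⁻¹ ∈ M.A := mul_mem ((mem_normalizer_iff.1 hn a).1 ha) (inv_mem ha)
  have h2 : o * a * o⁻¹ * a⁻¹ ∈ M.O := by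
    rw [show o * a * o⁻¹ * a⁻¹ = o * (a * o⁻¹ * a⁻¹) by group]
    exact mul_mem ho (conj_mem_core (M.A_le_T ha) (inv_mem ho))
  exact mul_inv_eq_one.1
    ((TwoEl.of_group (M.isPGroup_sub inA) h1).eq_one_of_odd (odd_orderOf_of_mem (core_odd _) h2))

/-- Some element of `T ∩ N(A)` moves the action of `el 1` to that of `el 32`. -/
theorem exists_move (hres : Cfsg.pResidual 2 G = ⊤) :
    ∃ n ∈ M.T ⊓ normalizer (M.A : Set G), ∀ p, M.Acts n p → moves p = true := by
  obtain ⟨t, ht, hte⟩ := C.fused_T (by norm_num) (by decide) (by decide) (by norm_num) (by decide)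
    (by decide) (C.outside_conj hres (x := 32) (by norm_num) (by decide) (by decide))
  obtain ⟨o, ho, n, hn, rfl⟩ := C.frat ht
  refine ⟨n, hn, fun p hp => ?_⟩
  have h32 : M.el 32 ∈ M.T := M.S_le_T (M.mem 32 (by norm_num))
  set o' := (M.el 32)⁻¹ * o⁻¹ * M.el 32 * o with ho'
  have ho'O : o' ∈ M.O := by
    refine mul_mem ?_ ho
    have := conj_mem_core (inv_mem h32) (inv_mem ho)
    rw [inv_inv] at this
    exact this
  have he : n * M.el 1 * n⁻¹ = M.el 32 * o' := by
    rw [ho', show n * M.el 1 * n⁻¹ = o⁻¹ * (o * n * M.el 1 * (o * n)⁻¹) * o by group, hte]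
    group
  have hS : ∀ i, i < 64 → M.el i ∈ normalizer (M.A : Set G) := fun i hi =>
    M.S_le_normalizer_A (M.mem i hi)
  have ho'N : o' ∈ normalizer (M.A : Set G) := by
    have := mul_mem (inv_mem (hS 32 (by norm_num))) (mul_mem (mul_mem (mem_inf.1 hn).2 (hS 1 (by norm_num)))
      (inv_mem (mem_inf.1 hn).2))
    rwa [he, inv_mul_cancel_left] at this
  have hd : ((List.range 16).all fun a => decide (app 42273 a < 16) && cj 1 (2 * a) == 2 * app 42273 a &&
      decide (app 35875 a < 16) && cj 32 (2 * a) == 2 * app 35875 a) = true := by decide +kernel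
  have hd' : ∀ a < 16, (app 42273 a < 16 ∧ cj 1 (2 * a) = 2 * app 42273 a) ∧
      (app 35875 a < 16 ∧ cj 32 (2 * a) = 2 * app 35875 a) := fun a ha => by
    have h := List.all_eq_true.1 hd a (List.mem_range.2 ha)
    simp only [Bool.and_eq_true, decide_eq_true_eq, beq_iff_eq] at h
    exact ⟨⟨h.1.1.1, h.1.1.2⟩, h.1.2, h.2⟩
  rw [moves, List.all_eq_true]
  intro a ha
  rw [List.mem_range] at ha
  obtain ⟨⟨l1, e1⟩, -⟩ := hd' a ha
  obtain ⟨l2, e2⟩ := hp a ha
  obtain ⟨-, l3, e3⟩ := hd' _ l2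
  obtain ⟨l4, e4⟩ := hp _ l1
  rw [beq_iff_eq]
  refine M.double_inj l4 l3 ?_
  rw [← e4, ← e1, ← M.el_conj (by norm_num) (by omega), ← e3, ← M.el_conj (by norm_num) (by omega), ← e2]
  have hfix := odd_cent C ho'O ho'N ((mem_normalizer_iff.1 (mem_inf.1 hn).2 _).1 (M.double_mem ha))
  calc n * (M.el 1 * M.el (2 * a) * (M.el 1)⁻¹) * n⁻¹
      = (n * M.el 1 * n⁻¹) * (n * M.el (2 * a) * n⁻¹) * (n * M.el 1 * n⁻¹)⁻¹ := by group
    _ = M.el 32 * (o' * (n * M.el (2 * a) * n⁻¹) * o'⁻¹) * (M.el 32)⁻¹ := by rw [he]; group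
    _ = _ := by rw [hfix]

omit [Finite G] C in
/-- A word in maps induced by `T ∩ N(A)` is induced by it. -/
theorem exists_wordT {gs : List ℕ}
    (hgs : ∀ g ∈ gs, ∃ n ∈ M.T ⊓ normalizer (M.A : Set G), M.Acts n g) (w : List ℕ) :
    ∃ n ∈ M.T ⊓ normalizer (M.A : Set G), ∀ a < 16,
      ev gs w a < 16 ∧ n * M.el (2 * a) * n⁻¹ = M.el (2 * ev gs w a) := by
  obtain ⟨n, hn, hna⟩ := M.exists_word (fun g hg => by
    obtain ⟨m, hm, h⟩ := hgs g hg
    exact ⟨m, (mem_inf.1 hm).2, h⟩) w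
  have hfix : ∀ g ∈ gs, app g 2 = 2 := fun g hg => by
    obtain ⟨m, hm, h⟩ := hgs g hg
    refine M.double_inj (h 2 (by norm_num)).1 (by norm_num) ?_
    rw [← (h 2 (by norm_num)).2]
    exact mul_inv_eq_iff_eq_mul.2 (mem_centralizer_singleton_iff.1 (mem_inf.1 hm).1)
  have hev : ev gs w 2 = 2 := by
    clear hna
    induction w with
    | nil => rfl
    | cons t w ih =>
      show app (gs.getD t 33825) (ev gs w 2) = 2
      rw [ih]
      by_cases h : t < gs.length
      · rw [List.getD_eq_getElem _ _ h]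
        exact hfix _ (List.getElem_mem h)
      · rw [List.getD_eq_default _ _ (not_lt.1 h)]
        rfl
  refine ⟨n, mem_inf.2 ⟨mem_centralizer_singleton_iff.2 ?_, hn⟩, hna⟩
  have h := (hna 2 (by norm_num)).2
  rw [hev] at h
  exact mul_inv_eq_iff_eq_mul.1 h

omit [Finite G] C in
/-- A map equal on `A` to a word is its packing. -/
theorem evMap_eq {gs w : List ℕ} {p : ℕ}
    (hp : app p 1 + 16 * app p 2 + 256 * app p 4 + 4096 * app p 8 = p)
    (h : ∀ a < 16, app p a = ev gs w a) : evMap gs w = p := by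
  rw [evMap, ← h 1 (by norm_num), ← h 2 (by norm_num), ← h 4 (by norm_num), ← h 8 (by norm_num), hp]

/-- No word in maps induced by `T ∩ N(A)` is wrong. -/
theorem not_wrong {gs : List ℕ}
    (hgs : ∀ g ∈ gs, ∃ n ∈ M.T ⊓ normalizer (M.A : Set G), M.Acts n g) (w : List ℕ) :
    wrong gs w = false := by
  classical
  have : Fact (Nat.Prime 2) := ⟨Nat.prime_two⟩
  obtain ⟨n, hn, hna⟩ := exists_wordT hgs w
  set H := M.T ⊓ normalizer (M.A : Set G) with hH
  set K := H ⊓ centralizer (M.A : Set G) with hK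
  have hKmem : ∀ {g : G}, g ∈ H → (∀ a < 16, g * M.el (2 * a) * g⁻¹ = M.el (2 * a)) → g ∈ K := by
    intro g hg h
    refine mem_inf.2 ⟨hg, mem_centralizer_iff.2 fun x hx => ?_⟩
    obtain ⟨a, ha, rfl⟩ := M.exists_double hx
    exact (mul_inv_eq_iff_eq_mul.1 (h a ha)).symm
  have hKfix : ∀ {g : G}, g ∈ K → ∀ a < 16, g * M.el (2 * a) * g⁻¹ = M.el (2 * a) := fun hg a ha =>
    mul_inv_eq_iff_eq_mul.2 (mem_centralizer_iff.1 (mem_inf.1 hg).2 _ (M.double_mem ha)).symm
  obtain ⟨u, v, huv, hu, hv, hu2, hvo⟩ := exists_parts n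
  have huH : u ∈ H := zpowers_le.2 hn hu
  have hvH : v ∈ H := zpowers_le.2 hn hv
  obtain ⟨c, hc, hle⟩ := LESylow.exists_conj_le_of_le (zpowers_le.2 huH) hu2.isPGroup
    (M.S.subtype (C.S_le))
  obtain ⟨s0, hs0, hs0e⟩ := hle ⟨u, mem_zpowers u, rfl⟩
  obtain ⟨s, hs, hse⟩ := M.surj _ hs0
  replace hse : M.el s = c * u * c⁻¹ := hse.trans hs0e
  have hsq : u * u ∈ K := by
    refine mem_inf.2 ⟨mul_mem huH huH, ?_⟩
    have hA2 : c * (u * u) * c⁻¹ ∈ M.A := by
      rw [show c * (u * u) * c⁻¹ = (c * u * c⁻¹) * (c * u * c⁻¹) by group, ← hse, M.hmul s hs s hs]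
      exact M.el_mem_sub (mul_lt s s) (all64_iff.1 sq_inA s hs)
    have h1 : u * u ∈ M.A := by
      have := (mem_normalizer_iff.1 (inv_mem (mem_inf.1 hc).2) _).1 hA2
      simpa [mul_assoc] using this
    have := M.ea_A.1
    exact mem_centralizer_iff.2 fun x hx =>
      congrArg Subtype.val (mul_comm' (⟨x, hx⟩ : ↥M.A) ⟨_, h1⟩)
  have hpow : ∀ {g : G}, g ∈ zpowers n → n * g = g * n := fun hg => by
    obtain ⟨k, rfl⟩ := mem_zpowers_iff.1 hg
    exact ((Commute.refl n).zpow_right k).eq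
  have hvu : v * u = u * v := by
    obtain ⟨k, rfl⟩ := mem_zpowers_iff.1 hu
    obtain ⟨l, rfl⟩ := mem_zpowers_iff.1 hv
    exact ((Commute.refl n).zpow_zpow l k).eq
  have hv4 : (n * n) * (n * n) ∈ K → v ∈ K := fun h4 => by
    have he : (v * v) * (v * v) = ((u * u) * (u * u))⁻¹ * ((n * n) * (n * n)) := by
      rw [← huv]
      calc (v * v) * (v * v) = ((u * u) * (u * u))⁻¹ * (((u * u) * (u * u)) * ((v * v) * (v * v))) := by group
        _ = _ := by
          congr 1
          have hc : Commute v u := hvu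
          have := ((show Commute u v from hc.symm).mul_pow 4).symm
          simpa [pow_succ, mul_assoc] using this
    have h2 : (v * v) * (v * v) ∈ K := he ▸ mul_mem (inv_mem (mul_mem hsq hsq)) h4
    refine mem_of_sq_mem (mem_of_sq_mem h2 ?_) hvo
    rw [← pow_two]
    exact hvo.of_dvd_nat (orderOf_pow_dvd 2)
  rw [wrong, Bool.eq_false_iff]
  simp only [ne_eq, Bool.or_eq_true, Bool.and_eq_true, List.any_eq_true, List.all_eq_true, List.mem_range,
    bne_iff_ne, beq_iff_eq, Bool.not_eq_true', not_or]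
  have h2 : ∀ a < 16, ev gs w (ev gs w a) < 16 ∧
      (n * n) * M.el (2 * a) * (n * n)⁻¹ = M.el (2 * ev gs w (ev gs w a)) := fun a ha => by
    obtain ⟨l1, e1⟩ := hna a ha
    obtain ⟨l2, e2⟩ := hna _ l1
    exact ⟨l2, by rw [← e2, ← e1]; group⟩
  have hnn : n * n = (u * u) * (v * v) := by
    rw [← huv]
    calc u * v * (u * v) = u * (v * u) * v := by group
      _ = _ := by rw [hvu]; group
  refine ⟨?_, ?_⟩
  · rintro ⟨⟨a, ha, hne⟩, h4⟩
    have h4K : (n * n) * (n * n) ∈ K := hKmem (mul_mem (mul_mem hn hn) (mul_mem hn hn)) fun b hb => by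
      obtain ⟨l2, e2⟩ := h2 b hb
      obtain ⟨-, e4⟩ := h2 _ l2
      rw [show n * n * (n * n) * M.el (2 * b) * (n * n * (n * n))⁻¹ =
        n * n * (n * n * M.el (2 * b) * (n * n)⁻¹) * (n * n)⁻¹ by group, e2, e4, h4 b hb]
    have hnK : n * n ∈ K := hnn ▸ mul_mem hsq (mul_mem (hv4 h4K) (hv4 h4K))
    exact hne (M.double_inj (h2 a ha).1 ha ((h2 a ha).2.symm.trans (hKfix hnK a ha)))
  · rintro ⟨⟨hinvol, hcomm⟩, hnot⟩
    have hnK : n * n ∈ K := hKmem (mul_mem hn hn) fun b hb => by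
      rw [(h2 b hb).2, hinvol b hb]
    have hvK : v ∈ K := hv4 (mul_mem hnK hnK)
    -- `u` induces the same map
    have hua : ∀ a < 16, u * M.el (2 * a) * u⁻¹ = M.el (2 * ev gs w a) := fun a ha => by
      rw [← (hna a ha).2, ← huv, show u * v * M.el (2 * a) * (u * v)⁻¹ =
        u * (v * M.el (2 * a) * v⁻¹) * u⁻¹ by group, hKfix hvK a ha]
    have hKn : (K.subgroupOf H).Normal := ⟨fun k hk g => mem_subgroupOf.2 (hKmem (g * k * g⁻¹).2 fun a ha => by
      obtain ⟨b, hb, hbe⟩ := M.exists_double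
        ((mem_normalizer_iff.1 (inv_mem (mem_inf.1 g.2).2) _).1 (M.double_mem ha))
      have hk' := hKfix (mem_subgroupOf.1 hk) b hb
      rw [hbe, inv_inv] at hk'
      push_cast
      calc (g : G) * k * (g : G)⁻¹ * M.el (2 * a) * ((g : G) * k * (g : G)⁻¹)⁻¹
          = (g : G) * ((k : G) * ((g : G)⁻¹ * M.el (2 * a) * g) * (k : G)⁻¹) * (g : G)⁻¹ := by group
        _ = _ := by rw [hk']; group)⟩
    set q := QuotientGroup.mk' (K.subgroupOf H) with hq
    set P := (M.S.subtype C.S_le).mapSurjective (f := q) (QuotientGroup.mk'_surjective _) with hPdef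
    have hP : (P : Subgroup _) = ((M.S : Subgroup G).subgroupOf H).map q := by
      rw [hPdef, Sylow.coe_mapSurjective]; rfl
    have hcen : (P : Subgroup _) ≤ centralizer ({q ⟨u, huH⟩} : Set (↥H ⧸ K.subgroupOf H)) := by
      rw [hP]
      rintro _ ⟨y, hy, rfl⟩
      obtain ⟨i, hi, ei⟩ := M.surj _ (mem_subgroupOf.1 hy)
      obtain ⟨r, hr, hra⟩ := M.acts_S (M.mem i hi)
      refine mem_centralizer_singleton_iff.2 ?_
      rw [← map_mul, ← map_mul, hq, QuotientGroup.mk'_eq_mk']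
      refine ⟨(y * ⟨u, huH⟩)⁻¹ * (⟨u, huH⟩ * y), mem_subgroupOf.2 (hKmem (Subtype.prop _) fun a ha => ?_), by group⟩
      push_cast
      rw [← ei]
      obtain ⟨l1, e1⟩ := hra a ha
      have l2 := (hna _ l1).1
      obtain ⟨l3, e3⟩ := hra _ (hna a ha).1
      have hcom : app r (ev gs w a) = ev gs w (app r a) := (hcomm r hr a ha).symm
      have key : (M.el i * u) * M.el (2 * a) * (M.el i * u)⁻¹ = (u * M.el i) * M.el (2 * a) * (u * M.el i)⁻¹ := by
        calc (M.el i * u) * M.el (2 * a) * (M.el i * u)⁻¹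
            = M.el i * (u * M.el (2 * a) * u⁻¹) * (M.el i)⁻¹ := by group
          _ = M.el (2 * ev gs w (app r a)) := by rw [hua a ha, e3, hcom]
          _ = u * M.el (2 * app r a) * u⁻¹ := (hua _ l1).symm
          _ = _ := by rw [← e1]; group
      calc (M.el i * u)⁻¹ * (u * M.el i) * M.el (2 * a) * ((M.el i * u)⁻¹ * (u * M.el i))⁻¹
          = (M.el i * u)⁻¹ * ((u * M.el i) * M.el (2 * a) * (u * M.el i)⁻¹) * (M.el i * u) := by group
        _ = _ := by rw [← key]; group
    have hQ : IsPGroup 2 ↥(zpowers (q ⟨u, huH⟩)) := by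
      obtain ⟨k, hk⟩ := hu2
      refine TwoEl.isPGroup ⟨k, ?_⟩
      rw [← map_pow, show (⟨u, huH⟩ : ↥H) ^ 2 ^ k = 1 from Subtype.ext (by simpa using hk), map_one]
    have hmax : zpowers (q ⟨u, huH⟩) ≤ (P : Subgroup _) := le_sup_right.trans (P.is_maximal'
      (P.isPGroup'.to_sup_of_normal_right' hQ (hcen.trans (LESylow.centralizer_le_normalizer_zpowers _)))
      le_sup_left).le
    have hmem : q ⟨u, huH⟩ ∈ ((M.S : Subgroup G).subgroupOf H).map q := hP ▸ hmax (mem_zpowers _)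
    obtain ⟨y, hy, hye⟩ := hmem
    rw [hq, QuotientGroup.mk'_eq_mk'] at hye
    obtain ⟨k, hk, hyk⟩ := hye
    obtain ⟨i, hi, ei⟩ := M.surj _ (mem_subgroupOf.1 hy)
    obtain ⟨r, hr, hra⟩ := M.acts_S (M.mem i hi)
    have hu' : u = M.el i * (k : G) := by rw [ei]; exact (congrArg Subtype.val hyk).symm
    have hpk : app r 1 + 16 * app r 2 + 256 * app r 4 + 4096 * app r 8 = r :=
      beq_iff_eq.1 (List.all_eq_true.1 Model.vier_packed r hr)
    have heq : evMap gs w = r := evMap_eq hpk fun a ha => by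
      refine M.double_inj (hra a ha).1 (hna a ha).1 ?_
      rw [← hua a ha, ← (hra a ha).2, hu', show M.el i * (k : G) * M.el (2 * a) * (M.el i * (k : G))⁻¹ =
        M.el i * ((k : G) * M.el (2 * a) * (k : G)⁻¹) * (M.el i)⁻¹ by group, hKfix (mem_subgroupOf.1 hk) a ha]
    rw [heq] at hnot
    rw [List.contains_iff_mem.2 hr] at hnot
    exact Bool.noConfusion hnot

omit [Finite G] C in
/-- An element of `T ∩ N(A)` acts by a map fixing the point 2. -/
theorem exists_fixed {n : G} (hn : n ∈ M.T ⊓ normalizer (M.A : Set G)) :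
    ∃ i ∈ pts, ∃ j ∈ pts, ∃ l ∈ pts, inj (fixed i j l) = true ∧ M.Acts n (fixed i j l) := by
  obtain ⟨i, hi, k, hk, j, hj, l, hl, hact⟩ := M.exists_acts (mem_inf.1 hn).2
  have hb := List.all_eq_true.1 (List.all_eq_true.1 (List.all_eq_true.1 (List.all_eq_true.1 app_pack_aux
    _ (List.mem_range.2 hi)) _ (List.mem_range.2 hk)) _ (List.mem_range.2 hj)) _ (List.mem_range.2 hl)
  simp only [Bool.and_eq_true, beq_iff_eq] at hb
  obtain ⟨⟨⟨e1, e2⟩, e4⟩, e8⟩ := hb
  have hk2 : k = 2 := M.double_inj hk (by norm_num) (by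
    rw [← e2, ← (hact 2 (by norm_num)).2]
    exact mul_inv_eq_iff_eq_mul.2 (mem_centralizer_singleton_iff.1 (mem_inf.1 hn).1))
  subst hk2
  have hne : ∀ a, a < 16 → a ≠ 0 → app (fixed i j l) a ≠ 0 := fun a ha ha0 h0 => by
    have h := (hact a ha).2
    rw [fixed] at h0
    rw [h0, mul_zero, M.el_zero, conj_eq_one_iff, M.el_eq_one (by omega)] at h
    omega
  have hpts : ∀ a, a ∈ pts ↔ a < 16 ∧ a ≠ 0 := fun a => by
    simp only [pts, List.mem_map, List.mem_range]
    exact ⟨fun ⟨b, hb, e⟩ => by omega, fun h => ⟨a - 1, by omega, by omega⟩⟩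
  refine ⟨i, (hpts i).2 ⟨hi, e1 ▸ hne 1 (by norm_num) (by norm_num)⟩,
    j, (hpts j).2 ⟨hj, e4 ▸ hne 4 (by norm_num) (by norm_num)⟩,
    l, (hpts l).2 ⟨hl, e8 ▸ hne 8 (by norm_num) (by norm_num)⟩, ?_, hact⟩
  rw [Linear.inj, List.all_eq_true]
  exact fun a ha => bne_iff_ne.2 (hne a ((hpts a).1 ha).1 ((hpts a).1 ha).2)

omit [Finite G] in
/-- The four maps are induced by `T ∩ N(A)`. -/
theorem vier_realT : ∀ g ∈ vier, ∃ n ∈ M.T ⊓ normalizer (M.A : Set G), M.Acts n g := by
  intro g hg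
  obtain ⟨n, hn, hact⟩ := M.vier_real g hg
  refine ⟨n, mem_inf.2 ⟨mem_centralizer_singleton_iff.2 (mul_inv_eq_iff_eq_mul.1 ?_), hn⟩, hact⟩
  have hd : (vier.all fun p => app p 2 == 2) = true := by decide +kernel
  have h := (hact 2 (by norm_num)).2
  rw [beq_iff_eq.1 (List.all_eq_true.1 hd g hg)] at h
  exact h

/-- All twelve maps occur. -/
theorem twelve_real (hres : Cfsg.pResidual 2 G = ⊤) :
    ∀ p ∈ twelve, ∃ n ∈ M.T ⊓ normalizer (M.A : Set G), M.Acts n p := by
  obtain ⟨n, hn, hmv⟩ := C.exists_move hres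
  obtain ⟨i, hi, j, hj, l, hl, hinj, hact⟩ := exists_fixed hn
  set q := fixed i j l
  have hgs : ∀ g ∈ q :: vier, ∃ n ∈ M.T ⊓ normalizer (M.A : Set G), M.Acts n g :=
    List.forall_mem_cons.2 ⟨⟨n, hn, hact⟩, vier_realT C⟩
  have h := List.all_eq_true.1 (List.all_eq_true.1 (List.all_eq_true.1 move_cases i hi) j hj) l hl
  simp only [Bool.or_eq_true, Bool.not_eq_true', List.any_eq_true, List.contains_iff_mem] at h
  have hq : q ∈ twelve := by
    rcases h with ((h | h) | h) | ⟨w, -, hw⟩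
    · exact absurd (h.symm.trans hinj) Bool.false_ne_true
    · exact absurd (h.symm.trans (hmv _ hact)) Bool.false_ne_true
    · exact h
    · rw [C.not_wrong hgs w] at hw
      exact absurd hw Bool.false_ne_true
  intro p hp
  have hg := List.all_eq_true.1 gen_cases q hq
  simp only [hmv _ hact, Bool.not_true, Bool.false_or, List.all_eq_true, List.any_eq_true, beq_iff_eq] at hg
  obtain ⟨w, -, hw⟩ := hg p hp
  obtain ⟨m, hm, hma⟩ := exists_wordT hgs w
  obtain ⟨a, ha, b, hb, c, hc, d, hd, hpa⟩ := M.exists_acts (mem_inf.1 hm).2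
  refine ⟨m, hm, ?_⟩
  have hb' := List.all_eq_true.1 (List.all_eq_true.1 (List.all_eq_true.1 (List.all_eq_true.1 app_pack_aux
    _ (List.mem_range.2 ha)) _ (List.mem_range.2 hb)) _ (List.mem_range.2 hc)) _ (List.mem_range.2 hd)
  simp only [Bool.and_eq_true, beq_iff_eq] at hb'
  obtain ⟨⟨⟨e1, e2⟩, e4⟩, e8⟩ := hb'
  rw [← hw, evMap_eq (p := a + 16 * b + 256 * c + 4096 * d) (by rw [e1, e2, e4, e8]) fun x hx =>
    M.double_inj (hpa x hx).1 (hma x hx).1 ((hpa x hx).2.symm.trans (hma x hx).2)]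
  exact hpa

/-- `T ∩ N(A)` acts by the twelve maps. -/
theorem twelve_stab (hres : Cfsg.pResidual 2 G = ⊤) :
    ∀ n ∈ M.T ⊓ normalizer (M.A : Set G), ∃ p ∈ twelve, M.Acts n p := by
  intro n hn
  obtain ⟨i, hi, j, hj, l, hl, hinj, hact⟩ := exists_fixed hn
  refine ⟨_, ?_, hact⟩
  have h := List.all_eq_true.1 (List.all_eq_true.1 (List.all_eq_true.1 stab_cases i hi) j hj) l hl
  simp only [Bool.or_eq_true, Bool.not_eq_true', List.any_eq_true, List.contains_iff_mem] at h
  rcases h with (h | h) | ⟨w, -, hw⟩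
  · exact absurd (h.symm.trans hinj) Bool.false_ne_true
  · exact h
  · rw [C.not_wrong (List.forall_mem_cons.2 ⟨⟨n, hn, hact⟩, C.twelve_real hres⟩) w] at hw
    exact absurd hw Bool.false_ne_true

end CaseN

end Cfsg.Agent.A8Rec
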