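import Cfsg.Agent.Lib.A8Rec.ClosureLoc
import Cfsg.Agent.Lib.S2918Core.Main

/-!
The odd core of the centralizer of the central involution is trivial.
-/

set_option autoImplicit false
set_option linter.style.haveILetI false
set_option linter.unusedSectionVars false
set_option maxRecDepth 20000

namespace Cfsg.Agent.A8Rec

open Subgroup ClosedAbelian

/-- The four-group of `A` in an eight. -/
def vB (u i : ℕ) : Bool := i == 0 || i == 4 || i == pu u || i == mul (pu u) 4

theorem vB_dec : (Us.all fun u => closedB (vB u) && (((List.range 64).filter (vB u)).length == 4) &&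
    inA (pu u) && inU u (pu u) && pu u != 0 && pu u != 4 &&
    all64 (fun i => !vB u i || (inA i && inU u i)) && all64 (fun i => !inU u i || inQ i)) = true := by
  decide +kernel

theorem pick_dec : ((lines ++ grids).all fun L => Us.any fun u => L.contains (pu u)) = true := by
  decide +kernel

theorem outer_dec : (all64 fun i => !(mul i i == 0) || inA i || Us.any fun u => inU u i) = true := by
  decide +kernel

theorem Qinv_dec : (all64 fun i => !(inQ i && mul i i == 0) || i == 0 || Us.any fun u => inU u i) = true := by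
  decide +kernel

theorem other_dec : ((lines ++ grids ++ frames).all fun L => any64 fun i =>
    inA i && i != 0 && !L.contains i) = true := by
  decide +kernel

theorem pu_lt {u : ℕ} (hu : u ∈ Us) : pu u < 64 := by
  revert u
  decide

theorem card_four_facts {u : ℕ} (hu : u ∈ Us) : closedB (vB u) = true ∧
    ((List.range 64).filter (vB u)).length = 4 ∧ inA (pu u) = true ∧ inU u (pu u) = true ∧ pu u ≠ 0 ∧
    pu u ≠ 4 ∧ (∀ i < 64, vB u i = true → inA i = true ∧ inU u i = true) ∧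
    ∀ i < 64, inU u i = true → inQ i = true := by
  have h := List.all_eq_true.1 vB_dec u hu
  simp only [Bool.and_eq_true, beq_iff_eq, bne_iff_ne] at h
  obtain ⟨⟨⟨⟨⟨⟨⟨h1, h2⟩, h3⟩, h4⟩, h5⟩, h6⟩, h7⟩, h8⟩ := h
  exact ⟨h1, h2, h3, h4, h5, h6, fun i hi hv => by simpa [hv] using all64_iff.1 h7 i hi,
    fun i hi hv => by simpa [hv] using all64_iff.1 h8 i hi⟩

variable {G : Type*} [Group G] [Finite G] {M : Model G} {L : List ℕ}

namespace TFacts

variable (C : TFacts M)
include C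

theorem QO_normal : M.T ≤ normalizer ((M.Q ⊔ M.O : Subgroup G) : Set G) := by
  intro t ht
  obtain ⟨o, ho, n, hnT, hnQ, rfl⟩ := C.frat t ht
  exact mul_mem (Subgroup.le_normalizer (mem_sup_right ho))
    (normalizer_inf_normalizer_le_normalizer_sup _ _ (mem_inf.2 ⟨hnQ, core_normalized _ hnT⟩))

theorem z_mem_T : M.z ∈ M.T := mem_centralizer_singleton_iff.2 rfl

/-- Odd subgroups of `T` normalised by `A` lie in the odd core. -/
theorem good (R : Subgroup G) (hR : R ≤ M.T) (hn : M.A ≤ normalizer (R : Set G))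
    (ho : ¬ 2 ∣ Nat.card R) : R ≤ M.O := by
  intro r hr
  set b := M.el 2 with hb
  have hbA : b ∈ M.A := M.el_mem_sub (by norm_num) (by decide)
  have hbQ : b ∈ M.Q := M.el_mem_sub (by norm_num) (by decide)
  set e := r * b * r⁻¹ * b⁻¹ with he
  have heR : e ∈ R := by
    rw [he, show r * b * r⁻¹ * b⁻¹ = r * (b * r⁻¹ * b⁻¹) by group]
    exact mul_mem hr ((mem_normalizer_iff.1 (hn hbA) _).1 (inv_mem hr))
  have heQ : e ∈ M.Q ⊔ M.O := mul_mem
    ((mem_normalizer_iff.1 (C.QO_normal (hR hr)) b).1 (mem_sup_left hbQ)) (inv_mem (mem_sup_left hbQ))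
  have heO : e ∈ M.O := by
    set N := M.O.subgroupOf M.T with hN
    haveI : N.Normal := normal_subgroupOf_of_le_normalizer (core_normalized _)
    set ψ := QuotientGroup.mk' N with hψ
    rw [← SetLike.mem_coe, coe_mul_of_left_le_normalizer_right M.Q M.O
      (M.Q_le_T.trans (core_normalized _))] at heQ
    obtain ⟨q, hq, o, ho', hqo⟩ := heQ
    have hoT : o ∈ M.T := core_le M.T ho'
    have heT : e ∈ M.T := hR heR
    have heq : ψ ⟨e, heT⟩ = ψ ⟨q, M.Q_le_T hq⟩ := by
      rw [show (⟨e, heT⟩ : ↥M.T) = ⟨q, M.Q_le_T hq⟩ * ⟨o, hoT⟩ from Subtype.ext hqo.symm, map_mul,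
        show ψ ⟨o, hoT⟩ = 1 from (QuotientGroup.eq_one_iff (⟨o, hoT⟩ : ↥M.T)).2 ho', mul_one]
    obtain ⟨k, hk⟩ := TwoEl.of_group (M.isPGroup_sub inQ) hq
    have hd1 : orderOf (ψ ⟨e, heT⟩) ∣ 2 ^ k := by
      rw [heq]
      refine orderOf_dvd_of_pow_eq_one ?_
      rw [← map_pow, show (⟨q, M.Q_le_T hq⟩ : ↥M.T) ^ 2 ^ k = 1 from Subtype.ext hk, map_one]
    have hd2 : orderOf (ψ ⟨e, heT⟩) ∣ orderOf e := by
      refine (orderOf_map_dvd ψ _).trans ?_
      rw [orderOf_mk]
    exact (QuotientGroup.eq_one_iff (⟨e, heT⟩ : ↥M.T)).1 (orderOf_eq_one_iff.1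
      (Nat.eq_one_of_dvd_coprimes
        (Nat.Coprime.pow_left k (Nat.coprime_two_left.2 (odd_orderOf_of_mem ho heR))) hd1 hd2))
  have hb2 : orderOf b = 2 := orderOf_eq_prime (hp := ⟨Nat.prime_two⟩) (M.ea_A.2 b hbA)
    fun h => absurd ((M.el_eq_one (by norm_num)).1 h) (by norm_num)
  have hOodd : Odd (Nat.card M.O) := by
    rw [← Nat.not_even_iff_odd, even_iff_two_dvd]
    exact core_odd _
  obtain ⟨x, hx, hxb⟩ := DGroup.conj_in_odd hOodd hb2
    (by rw [Invol.order_conj, hb2] : orderOf (r * b * r⁻¹) = 2) heO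
  have hc : (x⁻¹ * r) * b = b * (x⁻¹ * r) := by
    calc x⁻¹ * r * b = x⁻¹ * (r * b * r⁻¹) * r := by group
      _ = x⁻¹ * (x * b * x⁻¹) * r := by rw [hxb]
      _ = _ := by group
  have hcT : x⁻¹ * r ∈ M.T := mul_mem (inv_mem (core_le M.T hx)) (hR hr)
  have hco : Odd (orderOf (x⁻¹ * r)) := odd_orderOf_of_mem (sup_core_odd hR ho)
    (mul_mem (inv_mem (mem_sup_right hx)) (mem_sup_left hr))
  have h := C.small 2 (by norm_num) (by decide) (by decide) (by norm_num) (by norm_num) _ hcT hco hc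
  simpa [mul_assoc] using mul_mem hx h

end TFacts

namespace Facts

variable (D : Facts M L)
include D

/-- In the frames all involutions of `A` have solvable centralizers. -/
theorem solA (hF : L ∈ frames) {x : G} (hx : x ∈ M.A) (hx1 : x ≠ 1) :
    Group.IsSolvable ↥(centralizer ({x} : Set G)) := by
  by_cases hz : IsConj M.z x
  · exact S2918Core.solvable_cent_conj hz D.sol
  · obtain ⟨X₀, a, hL, ha⟩ := D.exists_loc hx hx1 hz
    exact M.base.solvable_x hL (S2918Core.solvable_cent_conj (ha hF) D.sol)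

/-- The odd core of the centralizer of the central involution is trivial. -/
theorem conf (hodd : Cfsg.oddCore G = ⊥) :
    ∃ U₁ V : Subgroup G, S2918Core.Conf M.S M.A U₁ V M.z := by
  haveI : Fact (Nat.Prime 2) := ⟨Nat.prime_two⟩
  obtain ⟨u, hu, hpick⟩ : ∃ u ∈ Us, L ∈ frames ∨ pu u ∈ L := by
    by_cases hF : L ∈ frames
    · exact ⟨1, by decide, Or.inl hF⟩
    · have hm : L ∈ lines ++ grids := (List.mem_append.1 D.mem_L).resolve_right hF
      obtain ⟨u, hu, h⟩ := List.any_eq_true.1 (List.all_eq_true.1 pick_dec L hm)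
      exact ⟨u, hu, Or.inr (by simpa using h)⟩
  set V := M.sub (vB u) with hVdef
  obtain ⟨hcl, h4, -, -, -, -, hsub, hUQ⟩ := card_four_facts hu
  have hVA : V ≤ M.A := fun x hx => by
    obtain ⟨i, hi, hv, rfl⟩ := (M.mem_sub hcl).1 hx
    exact M.el_mem_sub hi (hsub i hi hv).1
  have hVU : V ≤ M.U u := fun x hx => by
    obtain ⟨i, hi, hv, rfl⟩ := (M.mem_sub hcl).1 hx
    exact M.el_mem_sub hi (hsub i hi hv).2
  have hV4 : 4 ≤ Nat.card V := by rw [hVdef, M.card_sub hcl, h4]
  have hVea : Cfsg.IsElementaryAbelian 2 V :=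
    ⟨⟨⟨fun p q => Subtype.ext (M.base.comm (hVA p.2) (hVA q.2))⟩⟩, fun p hp => M.ea_A.2 p (hVA hp)⟩
  have hsolU : ∀ x ∈ M.U u, x ≠ 1 → Group.IsSolvable ↥(centralizer ({x} : Set G)) := by
    intro x hx hx1
    obtain ⟨i, hi, hiu, rfl⟩ := (M.mem_U hu).1 hx
    rcases eq_or_ne i 4 with rfl | hi4
    · exact D.sol
    obtain ⟨t, -, ht⟩ := D.orbU u hu i hi hiu (fun h => hx1 (h ▸ M.el_zero)) hi4
    have hc : IsConj (M.el i) (M.el (pu u)) := isConj_iff.2 ⟨t, ht⟩
    obtain ⟨-, -, hpA, -, hp0, -⟩ := card_four_facts hu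
    have hp64 : pu u < 64 := pu_lt hu
    refine S2918Core.solvable_cent_conj hc.symm ?_
    rcases hpick with hF | hL
    · exact D.solA hF (M.el_mem_sub hp64 hpA) fun h => hp0 ((M.el_eq_one hp64).1 h)
    · exact S2918Core.solvable_cent_conj ((D.orb _ hp64 hpA).2 hL) D.sol
  -- one balance step
  have step : ∀ {y : G}, y * y = 1 → ∀ {B : Subgroup G}, Cfsg.IsElementaryAbelian 2 B → 4 ≤ Nat.card B →
      (∀ v ∈ B, v * y = y * v) → (∀ v ∈ B, v ≠ 1 → Group.IsSolvable ↥(centralizer ({v} : Set G))) →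
      (∀ v ∈ B, v ≠ 1 → core (centralizer ({v} : Set G)) ≤ S2918Core.theta V) →
      core (centralizer ({y} : Set G)) ≤ S2918Core.theta V := by
    intro y hy B hB hB4 hc hsol hle
    refine S2918Core.le_of_cent hB hB4
      (fun v hv => core_normalized _ (mem_centralizer_singleton_iff.2 (hc v hv))) (core_odd _)
      fun v hv hv1 => ?_
    haveI := hsol v hv hv1
    exact (S2918Core.balance hy (mem_centralizer_singleton_iff.2 (hc v hv).symm)).trans (hle v hv hv1)
  have stepV : ∀ {y : G}, y * y = 1 → (∀ v ∈ V, v * y = y * v) →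
      core (centralizer ({y} : Set G)) ≤ S2918Core.theta V := fun hy hc =>
    step hy hVea hV4 hc (fun v hv hv1 => hsolU v (hVU hv) hv1) fun v hv hv1 => S2918Core.core_le_theta hv hv1
  have commU : ∀ {w : ℕ}, w ∈ Us → ∀ {x y : G}, x ∈ M.U w → y ∈ M.U w → x * y = y * x := by
    intro w hw x y hx hy
    haveI := (M.ea_U hw).1
    exact congrArg Subtype.val (mul_comm' (⟨x, hx⟩ : ↥(M.U w)) ⟨y, hy⟩)
  refine ⟨M.U u, V, {
    toBase := M.base, oddG := hodd, sol := D.sol, good := D.toTFacts.good,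
    ctrlz := ?_, other := ?_, loc := ?_, eaU := M.ea_U hu, cardU := (M.card_U hu).ge, vA := hVA, vU := hVU,
    cardV := hV4, solU := hsolU, gen := ?_, inA := ?_ }⟩
  · intro x hx hc
    obtain ⟨g, rfl⟩ := isConj_iff.1 hc
    exact M.ctrl M.z_mem hx
  · obtain ⟨i, hi, h⟩ := any64_iff.1 (List.all_eq_true.1 other_dec L D.mem_L)
    simp only [Bool.and_eq_true, bne_iff_ne, Bool.not_eq_true'] at h
    obtain ⟨⟨hiA, hi0⟩, hiL⟩ := h
    refine ⟨M.el i, M.el_mem_sub hi hiA, fun h => hi0 ((M.el_eq_one hi).1 h), fun h => ?_⟩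
    have := (D.orb i hi hiA).1 h
    simp [this] at hiL
  · intro x hx hx1 hz
    obtain ⟨X₀, a, hL, -⟩ := D.exists_loc hx hx1 hz
    exact ⟨X₀, a, hL⟩
  · intro t ht
    obtain ⟨o, ho, n, hnT, hnQ, rfl⟩ := D.frat t ht
    refine mul_mem (mem_sup_left ho) (mem_sup_right (subset_closure ⟨hnT, fun v hv hv1 => ?_⟩))
    set y := n * v * n⁻¹ with hy
    have hvv : v * v = 1 := by rw [← pow_two]; exact hVea.2 v hv
    have hyy : y * y = 1 := by
      rw [hy, show n * v * n⁻¹ * (n * v * n⁻¹) = n * (v * v) * n⁻¹ by group, hvv, mul_one, mul_inv_cancel]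
    have hvQ : v ∈ M.Q := by
      obtain ⟨i, hi, hv', rfl⟩ := (M.mem_sub hcl).1 hv
      exact M.el_mem_sub hi (hUQ i hi (hsub i hi hv').2)
    have hyQ : y ∈ M.Q := (mem_normalizer_iff.1 hnQ v).1 hvQ
    by_cases hF : L ∈ frames
    · obtain ⟨i, hi, hiQ, hie⟩ := M.mem_Q.1 hyQ
      have hsq : mul i i = 0 := (M.el_sq hi).1 (by rw [hie]; exact hyy)
      have hi0 : i ≠ 0 := fun h => by
        rw [h, M.el_zero, hy] at hie
        exact hv1 (by simpa using hie.symm)
      have h := all64_iff.1 Qinv_dec i hi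
      simp only [hiQ, hsq, BEq.rfl, Bool.and_self, Bool.not_true, Bool.false_or, Bool.or_eq_true, beq_iff_eq,
        hi0, false_or, List.any_eq_true] at h
      obtain ⟨w, hw, hiw⟩ := h
      obtain ⟨hcw, h4w, -, -, -, -, hsubw, -⟩ := card_four_facts hw
      have hBA : M.sub (vB w) ≤ M.A := fun x hx => by
        obtain ⟨k, hk, hv', rfl⟩ := (M.mem_sub hcw).1 hx
        exact M.el_mem_sub hk (hsubw k hk hv').1
      refine step hyy (B := M.sub (vB w))
        ⟨⟨⟨fun p q => Subtype.ext (M.base.comm (hBA p.2) (hBA q.2))⟩⟩, fun p hp => M.ea_A.2 p (hBA hp)⟩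
        (by rw [M.card_sub hcw, h4w]) ?_ (fun x hx hx1 => D.solA hF (hBA hx) hx1)
        fun x hx _ => stepV (M.base.sq (hBA hx)) fun v' hv' => M.base.comm (hVA hv') (hBA hx)
      intro x hx
      obtain ⟨k, hk, hv', rfl⟩ := (M.mem_sub hcw).1 hx
      exact commU hw (M.el_mem_sub hk (hsubw k hk hv').2) (hie ▸ M.el_mem_sub hi hiw)
    · refine stepV hyy fun v' hv' => commU hu (hVU hv') ?_
      have hyU : y ∈ M.U u ⊔ M.O := (mem_normalizer_iff.1 (D.normU hF u hu hnT) v).1 (mem_sup_left (hVU hv))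
      rw [← SetLike.mem_coe, coe_mul_of_left_le_normalizer_right (M.U u) M.O
        ((M.U_le u).trans (M.S_le_T.trans (core_normalized _)))] at hyU
      obtain ⟨w, hw, o', ho', hwo⟩ := hyU
      have ho'Q : o' ∈ M.Q := by
        obtain ⟨k, hk, hku, rfl⟩ := (M.mem_U hu).1 hw
        rw [show o' = (M.el k)⁻¹ * y by rw [← hwo]; group]
        exact mul_mem (inv_mem (M.el_mem_sub hk (hUQ k hk hku))) hyQ
      have ho1 : o' = 1 := (TwoEl.of_group (M.isPGroup_sub inQ) ho'Q).eq_one_of_odd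
        (odd_orderOf_of_mem (core_odd _) ho')
      rw [show y = w by rw [← hwo, ho1]; exact mul_one w]
      exact hw
  · intro s hs hss
    obtain ⟨i, hi, rfl⟩ := M.surj s hs
    have h := all64_iff.1 outer_dec i hi
    simp only [(M.el_sq hi).1 hss, BEq.rfl, Bool.not_true, Bool.false_or, Bool.or_eq_true,
      List.any_eq_true] at h
    rcases h with h | ⟨w, hw, hiw⟩
    · exact ⟨1, one_mem _, by rw [one_mul, inv_one, mul_one]; exact M.el_mem_sub hi h⟩
    rcases eq_or_ne i 0 with rfl | hi0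
    · exact ⟨1, one_mem _, by rw [one_mul, inv_one, mul_one, M.el_zero]; exact one_mem _⟩
    rcases eq_or_ne i 4 with rfl | hi4
    · exact ⟨1, one_mem _, by rw [one_mul, inv_one, mul_one]; exact M.z_mem⟩
    obtain ⟨t, ht, he⟩ := D.orbU w hw i hi hiw hi0 hi4
    obtain ⟨-, -, hpA, -, -, -⟩ := card_four_facts hw
    have hp64 : pu w < 64 := pu_lt hw
    exact ⟨t, mem_sup_left ht, he ▸ M.el_mem_sub hp64 hpA⟩

end Facts

/-- The odd core of the centralizer of the central involution is trivial. -/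
theorem core_eq_bot {G : Type*} [Group G] [Finite G] (M : Model G) {L : List ℕ} (D : Facts M L)
    (hodd : Cfsg.oddCore G = ⊥) : M.O = ⊥ := by
  obtain ⟨U₁, V, K⟩ := D.conf hodd
  exact K.core_cent_z

end Cfsg.Agent.A8Rec
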