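import Cfsg.Agent.Lib.A8Rec.ClosureX0
import Cfsg.Agent.Lib.S2918Core.CentB2

/-!
The second involution fixed by the automiser in the centralizer of an involution of `A` not conjugate
to the central one.
-/

set_option autoImplicit false
set_option linter.style.haveILetI false
set_option linter.unusedSectionVars false
set_option maxRecDepth 20000

namespace Cfsg.Agent.A8Rec

open Subgroup ClosedAbelian

/-- Each further coset of the four-group spanned by `x` and `p` meets `L`. -/
def cosetB (L : List ℕ) (x p : ℕ) : Bool := all64 fun v => !inA v || v == 0 || v == x || v == p ||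
  v == mul p x || L.contains v || L.contains (mul v x) || L.contains (mul v p) || L.contains (mul v (mul p x))

/-- The partner `p` of `x` is determined up to `x`. -/
def partnerB (L : List ℕ) (x p : ℕ) : Bool := inA p && p != 0 && p != x &&
  (L.contains (mul p x) == L.contains p) && (L.contains p || cosetB L x p) &&
  all64 fun q => !(inA q && q != 0 && q != x && (L.contains q == L.contains p) &&
    (L.contains (mul q x) == L.contains p)) || q == p || q == mul p x

theorem partner_dec : ((grids ++ frames).all fun L => all64 fun x =>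
    !inA x || x == 0 || L.contains x || any64 fun p => partnerB L x p) = true := by
  decide +kernel

theorem frame_dec : (frames.all fun L => all64 fun x =>
    !inA x || x == 0 || L.contains x || all64 fun p => !partnerB L x p || L.contains p) = true := by
  decide +kernel

theorem line_dec : (lines.all fun L => all64 fun x => !inA x || x == 0 || L.contains x ||
    all64 fun p => !(inA p && p != 0 && p != x && !L.contains p && !L.contains (mul p x)) ||
      cosetB L x p) = true := by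
  decide +kernel

theorem line_cases : (lines.all fun L => [(2, 6), (16, 20), (18, 22)].any fun (lk : ℕ × ℕ) =>
    all64 fun i => L.contains i == (i == 4 || i == lk.1 || i == lk.2)) = true := by
  decide +kernel

theorem mulA_dec : (all64 fun i => all64 fun j => !(inA i && inA j) ||
    (inA (mul i j) && mul i j == mul j i)) = true := by
  decide +kernel

theorem inA_mul {i j : ℕ} (hi : i < 64) (hj : j < 64) (ha : inA i = true) (hb : inA j = true) :
    inA (mul i j) = true := by
  have h := all64_iff.1 (all64_iff.1 mulA_dec i hi) j hj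
  simp only [ha, hb, Bool.and_self, Bool.not_true, Bool.false_or, Bool.and_eq_true] at h
  exact h.1

/-- An element of odd order permuting two elements fixes them. -/
theorem comm_of_swap {G : Type*} [Group G] [Finite G] {q y y' : G} (ho : Odd (orderOf q))
    (h1 : q * y * q⁻¹ = y ∨ q * y * q⁻¹ = y') (h2 : q * y' * q⁻¹ = y ∨ q * y' * q⁻¹ = y') :
    q * y = y * q := by
  rcases h1 with h1 | h1
  · exact mul_inv_eq_iff_eq_mul.1 h1
  rcases h2 with h2 | h2
  · have hc : Commute (q * q) y := by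
      refine mul_inv_eq_iff_eq_mul.1 ?_
      calc q * q * y * (q * q)⁻¹ = q * (q * y * q⁻¹) * q⁻¹ := by group
        _ = y := by rw [h1, h2]
    have hq : q ∈ centralizer ({y} : Set G) :=
      mem_of_sq_mem (mem_centralizer_singleton_iff.2 hc.eq) ho
    exact mem_centralizer_singleton_iff.1 hq
  · have he : y = y' := by
      have h3 := h1.trans h2.symm
      exact h1 ▸ (mul_left_cancel (mul_right_cancel h3)).trans h1.symm ▸ rfl
    rw [← he] at h1
    exact mul_inv_eq_iff_eq_mul.1 h1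

variable {G : Type*} [Group G] [Finite G] {M : Model G} {L : List ℕ}

namespace Facts

variable (D : Facts M L)
include D

theorem conj_el {n : G} (hn : n ∈ normalizer (M.A : Set G)) {i : ℕ} (hi : i < 64) (hA : inA i = true) :
    ∃ k < 64, inA k = true ∧ M.el k = n * M.el i * n⁻¹ ∧ (i ∈ L ↔ k ∈ L) ∧ (k = 0 ↔ i = 0) := by
  obtain ⟨k, hk, hkA, he⟩ := M.mem_A.1 ((mem_normalizer_iff.1 hn _).1 (M.el_mem_sub hi hA))
  refine ⟨k, hk, hkA, he, ?_, ?_⟩
  · have hc : IsConj (M.el i) (M.el k) := isConj_iff.2 ⟨n, he.symm⟩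
    rw [← D.orb i hi hA, ← D.orb k hk hkA]
    exact ⟨fun h => h.trans hc, fun h => h.trans hc.symm⟩
  · rw [← M.el_eq_one hk, he, ← M.el_eq_one hi]
    exact ⟨fun h => by simpa using h, fun h => by rw [h, mul_one, mul_inv_cancel]⟩

/-- For a line, an odd element of `N(A)` fixing `z` centralizes `A`. -/
theorem fix_z_cent (hL : L ∈ lines) {q : G} (hq : q ∈ normalizer (M.A : Set G)) (ho : Odd (orderOf q))
    (hz : q * M.z = M.z * q) : ∀ a ∈ M.A, q * a = a * q := by
  obtain ⟨lk, hlk, hall⟩ := List.any_eq_true.1 (List.all_eq_true.1 line_cases L hL)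
  obtain ⟨l, l', hl, hl', hlA, hl'A, hlQ, hlsq, hl0, hl4, hl'4, hll, hmem⟩ :
      ∃ l l', l < 64 ∧ l' < 64 ∧ inA l = true ∧ inA l' = true ∧ inQ l = true ∧ mul l l = 0 ∧ l ≠ 0 ∧
        l ≠ 4 ∧ l' ≠ 4 ∧ l ≠ l' ∧ ∀ i < 64, (i ∈ L ↔ i = 4 ∨ i = l ∨ i = l') := by
    refine ⟨lk.1, lk.2, ?_⟩
    have hm : ∀ i < 64, (i ∈ L ↔ i = 4 ∨ i = lk.1 ∨ i = lk.2) := fun i hi => by
      have h := all64_iff.1 hall i hi
      rw [beq_iff_eq, Bool.eq_iff_iff] at h
      simpa [or_assoc] using h
    simp only [List.mem_cons, List.not_mem_nil, or_false] at hlk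
    rcases hlk with rfl | rfl | rfl <;>
      exact ⟨by norm_num, by norm_num, by decide, by decide, by decide, by decide, by decide, by decide,
        by decide, by decide, hm⟩
  have hmove : ∀ i < 64, inA i = true → (i = l ∨ i = l') →
      q * M.el i * q⁻¹ = M.el l ∨ q * M.el i * q⁻¹ = M.el l' := by
    intro i hi hiA hil
    obtain ⟨k, hk, hkA, he, hiff, -⟩ := D.conj_el hq hi hiA
    rw [← he]
    rcases (hmem k hk).1 (hiff.1 ((hmem i hi).2 (Or.inr hil))) with rfl | rfl | rfl
    · exfalso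
      have h2 : q * M.el i * q⁻¹ = q * M.z * q⁻¹ := by
        rw [← he, hz, mul_inv_cancel_right]; rfl
      have h3 : i = 4 := (M.el_eq_iff hi (by norm_num)).1 (mul_left_cancel (mul_right_cancel h2))
      rcases hil with rfl | rfl
      exacts [hl4 h3, hl'4 h3]
    · exact Or.inl rfl
    · exact Or.inr rfl
  have hcl : q * M.el l = M.el l * q :=
    comm_of_swap ho (hmove l hl hlA (Or.inl rfl)) (hmove l' hl' hl'A (Or.inr rfl))
  have hqO : q ∈ M.O := D.small l hl hlQ hlsq hl0 hl4 q (mem_centralizer_singleton_iff.2 hz) ho hcl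
  intro a ha
  have h1 : q * a * q⁻¹ * a⁻¹ ∈ M.A := mul_mem ((mem_normalizer_iff.1 hq a).1 ha) (inv_mem ha)
  have h2 : q * a * q⁻¹ * a⁻¹ ∈ M.O := by
    rw [show q * a * q⁻¹ * a⁻¹ = q * (a * q⁻¹ * a⁻¹) by group]
    exact mul_mem hqO (conj_mem_core (M.A_le_T ha) (inv_mem hqO))
  have h3 := (TwoEl.of_group (M.isPGroup_sub inA) h1).eq_one_of_odd (odd_orderOf_of_mem (core_odd _) h2)
  exact mul_inv_eq_iff_eq_mul.1 (mul_inv_eq_one.1 h3)

/-- The kind of a pair outside `L`. -/
theorem kind_second {x p : ℕ} (hx : x < 64) (hxA : inA x = true) (hp : p < 64) (hpA : inA p = true)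
    (h1 : p ∉ L) (h2 : mul p x ∉ L) (hco : cosetB L x p = true) :
    ¬ IsConj M.z (M.el p) ∧ ¬ IsConj M.z (M.el p * M.el x) ∧
    ∀ v ∈ M.A, v ≠ 1 → v ≠ M.el x → v ≠ M.el p → v ≠ M.el p * M.el x →
      IsConj M.z v ∨ IsConj M.z (v * M.el x) ∨ IsConj M.z (v * M.el p) ∨
        IsConj M.z (v * (M.el p * M.el x)) := by
  have hpx : inA (mul p x) = true := inA_mul hp hx hpA hxA
  rw [M.hmul p hp x hx]
  refine ⟨fun h => h1 ((D.orb p hp hpA).1 h), fun h => h2 ((D.orb _ (mul_lt p x) hpx).1 h), ?_⟩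
  intro v hv v1 vx vp vpx
  obtain ⟨i, hi, hiA, rfl⟩ := M.mem_A.1 hv
  have h := all64_iff.1 hco i hi
  simp only [hiA, Bool.not_true, Bool.false_or, Bool.or_eq_true, beq_iff_eq, List.contains_iff_mem] at h
  rw [M.hmul i hi x hx, M.hmul i hi p hp, M.hmul i hi _ (mul_lt p x)]
  rcases h with ((((((h | h) | h) | h) | h) | h) | h) | h
  · exact absurd (h ▸ M.el_zero) v1
  · exact absurd (h ▸ rfl) vx
  · exact absurd (h ▸ rfl) vp
  · exact absurd (h ▸ rfl) vpx
  · exact Or.inl ((D.orb i hi hiA).2 h)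
  · exact Or.inr (Or.inl ((D.orb _ (mul_lt i x) (inA_mul hi hx hiA hxA)).2 h))
  · exact Or.inr (Or.inr (Or.inl ((D.orb _ (mul_lt i p) (inA_mul hi hp hiA hpA)).2 h)))
  · exact Or.inr (Or.inr (Or.inr ((D.orb _ (mul_lt i _) (inA_mul hi (mul_lt p x) hiA hpx)).2 h)))

/-- The second involution outside the lines. -/
theorem exists_a_pair (hL : L ∈ grids ++ frames) {x : ℕ} (hx : x < 64) (hxA : inA x = true) (hx0 : x ≠ 0)
    (hxL : x ∉ L) : ∃ p < 64, inA p = true ∧ p ≠ 0 ∧ p ≠ x ∧
      (∀ n ∈ normalizer (M.A : Set G), n * M.el x = M.el x * n → Odd (orderOf n) →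
        n * M.el p = M.el p * n) ∧ (L ∈ frames → IsConj M.z (M.el p)) ∧
      (IsConj M.z (M.el p) ∨ (¬ IsConj M.z (M.el p) ∧ ¬ IsConj M.z (M.el p * M.el x) ∧
        ∀ v ∈ M.A, v ≠ 1 → v ≠ M.el x → v ≠ M.el p → v ≠ M.el p * M.el x →
          IsConj M.z v ∨ IsConj M.z (v * M.el x) ∨ IsConj M.z (v * M.el p) ∨
            IsConj M.z (v * (M.el p * M.el x)))) := by
  have h := all64_iff.1 (List.all_eq_true.1 partner_dec L hL) x hx
  simp only [hxA, Bool.not_true, Bool.false_or, Bool.or_eq_true, beq_iff_eq, hx0, List.contains_iff_mem, hxL,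
    false_or, any64_iff] at h
  obtain ⟨p, hp, hpB⟩ := h
  have hB := hpB
  simp only [partnerB, Bool.and_eq_true, bne_iff_ne, beq_iff_eq, Bool.or_eq_true, List.contains_iff_mem] at hB
  obtain ⟨⟨⟨⟨⟨hpA, hp0⟩, hpx⟩, hsame⟩, hco⟩, hu⟩ := hB
  refine ⟨p, hp, hpA, hp0, hpx, fun n hn hnx ho => ?_, fun hF => ?_, ?_⟩
  rotate_left
  · have h := all64_iff.1 (List.all_eq_true.1 frame_dec L hF) x hx
    simp only [hxA, Bool.not_true, Bool.false_or, Bool.or_eq_true, beq_iff_eq, hx0, List.contains_iff_mem, hxL,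
      false_or] at h
    have h' := all64_iff.1 h p hp
    simp only [hpB, Bool.not_true, Bool.false_or, List.contains_iff_mem] at h'
    exact (D.orb p hp hpA).2 h'
  rotate_left
  · have hu' : ∀ q < 64, inA q = true → q ≠ 0 → q ≠ x → (q ∈ L ↔ p ∈ L) → (mul q x ∈ L ↔ p ∈ L) →
        q = p ∨ q = mul p x := by
      intro q hq hqA hq0 hqx e1 e2
      have h := all64_iff.1 hu q hq
      simp only [Bool.or_eq_true, beq_iff_eq, Bool.not_eq_true', Bool.and_eq_false_imp, Bool.and_eq_true,
        bne_iff_ne, beq_eq_false_iff_ne, and_imp] at h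
      rcases h with (h | h) | h
      · exfalso
        refine h hqA hq0 hqx ?_ ?_
        · rw [Bool.eq_iff_iff]; simpa using e1
        · rw [Bool.eq_iff_iff]; simpa using e2
      · exact Or.inl h
      · exact Or.inr h
    have key : ∀ i < 64, inA i = true → i ≠ 0 → i ≠ x → (i ∈ L ↔ p ∈ L) → (mul i x ∈ L ↔ p ∈ L) →
        n * M.el i * n⁻¹ = M.el p ∨ n * M.el i * n⁻¹ = M.el (mul p x) := by
      intro i hi hiA hi0 hix e1 e2
      obtain ⟨k, hk, hkA, he, hiff, hz0⟩ := D.conj_el hn hi hiA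
      obtain ⟨k', hk', hk'A, he', hiff', -⟩ := D.conj_el hn (mul_lt i x) (inA_mul hi hx hiA hxA)
      have hkx : mul k x = k' := by
        refine (M.el_eq_iff (mul_lt k x) hk').1 ?_
        rw [← M.hmul k hk x hx, he, he', ← M.hmul i hi x hx]
        calc n * M.el i * n⁻¹ * M.el x = n * M.el i * n⁻¹ * (n * M.el x * n⁻¹) := by
              rw [hnx, mul_inv_cancel_right]
          _ = _ := by group
      have hne : k ≠ x := fun e => hix ((M.el_eq_iff hi hx).1 (by
        have h3 : n * M.el i * n⁻¹ = n * M.el x * n⁻¹ := by rw [← he, e, hnx, mul_inv_cancel_right]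
        exact mul_left_cancel (mul_right_cancel h3)))
      rw [← he]
      rcases hu' k hk hkA (fun e => hi0 (hz0.1 e)) hne (hiff.symm.trans e1)
        (by rw [hkx]; exact hiff'.symm.trans e2) with e | e
      · exact Or.inl (by rw [e])
      · exact Or.inr (by rw [e])
    have hsame' : mul p x ∈ L ↔ p ∈ L := by
      rw [Bool.eq_iff_iff] at hsame
      simpa using hsame
    have hpxA : inA (mul p x) = true := inA_mul hp hx hpA hxA
    have hne0 : mul p x ≠ 0 := fun e => hpx ((M.el_eq_iff hp hx).1 (by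
      have h3 : M.el p * M.el x = 1 := by rw [M.hmul p hp x hx, e, M.el_zero]
      rw [mul_eq_one_iff_eq_inv.1 h3, M.base.inv (M.el_mem_sub hx hxA)]))
    have hnex : mul p x ≠ x := fun e => hp0 ((M.el_eq_one hp).1 (by
      have h3 : M.el p * M.el x = M.el x := by rw [M.hmul p hp x hx, e]
      exact mul_eq_right.1 h3))
    have hback : mul (mul p x) x = p := by
      refine (M.el_eq_iff (mul_lt _ _) hp).1 ?_
      rw [← M.hmul _ (mul_lt p x) x hx, ← M.hmul p hp x hx, mul_assoc, M.base.sq (M.el_mem_sub hx hxA),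
        mul_one]
    exact comm_of_swap ho (key p hp hpA hp0 hpx Iff.rfl hsame')
      (key _ (mul_lt p x) hpxA hne0 hnex hsame' (by rw [hback]))
  · by_cases hpL : p ∈ L
    · exact Or.inl ((D.orb p hp hpA).2 hpL)
    · refine Or.inr (D.kind_second hx hxA hp hpA hpL ?_ (hco.resolve_left hpL))
      intro h
      rw [Bool.eq_iff_iff] at hsame
      simp only [List.contains_iff_mem] at hsame
      exact hpL (hsame.1 h)

/-- The local data. -/
theorem exists_loc {x : G} (hx : x ∈ M.A) (hx1 : x ≠ 1) (hz : ¬ IsConj M.z x) :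
    ∃ (X₀ : Subgroup G) (a : G), S2918Core.Loc M.A M.z x X₀ a ∧ (L ∈ frames → IsConj M.z a) := by
  haveI : Fact (Nat.Prime 2) := ⟨Nat.prime_two⟩
  haveI : Fact (Nat.Prime 3) := ⟨Nat.prime_three⟩
  obtain ⟨X₀, E, hle, hnm, hAX, hodd, hE2, hEN, hEC, htop⟩ := D.toTFacts.exists_X0 hx hx1 hz
  obtain ⟨i, hi, hiA, rfl⟩ := M.mem_A.1 hx
  have hi0 : i ≠ 0 := fun h => hx1 (h ▸ M.el_zero)
  have hiL : i ∉ L := fun h => hz ((D.orb i hi hiA).2 h)
  have hnx : ∀ n ∈ normalizer (M.A : Set G) ⊓ X₀, n * M.el i = M.el i * n := fun n hn =>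
    mem_centralizer_singleton_iff.1 (hle (mem_inf.1 hn).2)
  have mk : ∀ a ∈ M.A, a ≠ 1 → a ≠ M.el i →
      (∀ n ∈ normalizer (M.A : Set G) ⊓ X₀, Odd (orderOf n) → n * a = a * n) →
      (IsConj M.z a ∨ (¬ IsConj M.z a ∧ ¬ IsConj M.z (a * M.el i) ∧
        ∀ v ∈ M.A, v ≠ 1 → v ≠ M.el i → v ≠ a → v ≠ a * M.el i →
          IsConj M.z v ∨ IsConj M.z (v * M.el i) ∨ IsConj M.z (v * a) ∨
            IsConj M.z (v * (a * M.el i)))) → (L ∈ frames → IsConj M.z a) →
      ∃ (X₀ : Subgroup G) (a : G), S2918Core.Loc M.A M.z (M.el i) X₀ a ∧ (L ∈ frames → IsConj M.z a) :=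
    fun a ha ha1 hax hfix hkind hF =>
      ⟨X₀, a, ⟨hx, hx1, ha, ha1, hax, hle, hnm, hAX, hodd, ⟨E, hE2, hEN, hEC, htop⟩, hfix, hkind⟩, hF⟩
  by_cases hL : L ∈ lines
  swap
  · have hL' : L ∈ grids ++ frames := by
      have h := D.mem_L
      simp only [List.mem_append] at h ⊢
      tauto
    obtain ⟨p, hp, hpA, hp0, hpx, hfix, hF, hkind⟩ := D.exists_a_pair hL' hi hiA hi0 hiL
    exact mk _ (M.el_mem_sub hp hpA) (fun h => hp0 ((M.el_eq_one hp).1 h))
      (fun h => hpx ((M.el_eq_iff hp hi).1 h)) (fun n hn ho => hfix n (mem_inf.1 hn).1 (hnx n hn) ho) hkind hF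
  by_cases hall : ∀ n ∈ normalizer (M.A : Set G) ⊓ X₀, Odd (orderOf n) → n * M.z = M.z * n
  · exact mk M.z M.z_mem M.z_ne (fun h => hz (h ▸ IsConj.refl _)) hall (Or.inl (IsConj.refl _)) fun _ => IsConj.refl _
  push Not at hall
  obtain ⟨m, hm, hmo, hmz⟩ := hall
  obtain ⟨hmN, hmX⟩ := mem_inf.1 hm
  -- the three conjugates of `z` in `A`
  obtain ⟨lk, hlk, hall'⟩ := List.any_eq_true.1 (List.all_eq_true.1 line_cases L hL)
  set y := M.el lk.1
  set y' := M.el lk.2
  have hthree : ∀ k < 64, inA k = true → IsConj M.z (M.el k) → M.el k = M.z ∨ M.el k = y ∨ M.el k = y' := by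
    intro k hk hkA hc
    have h := all64_iff.1 hall' k hk
    rw [beq_iff_eq, Bool.eq_iff_iff] at h
    have h' : k = 4 ∨ k = lk.1 ∨ k = lk.2 := by simpa [or_assoc] using h.1 (by simpa using (D.orb k hk hkA).1 hc)
    rcases h' with rfl | rfl | rfl
    exacts [Or.inl rfl, Or.inr (Or.inl rfl), Or.inr (Or.inr rfl)]
  have hin : ∀ g ∈ normalizer (M.A : Set G),
      g * M.z * g⁻¹ = M.z ∨ g * M.z * g⁻¹ = y ∨ g * M.z * g⁻¹ = y' := by
    intro g hg
    obtain ⟨k, hk, hkA, he⟩ := M.mem_A.1 ((mem_normalizer_iff.1 hg _).1 M.z_mem)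
    have := hthree k hk hkA (isConj_iff.2 ⟨g, he.symm⟩)
    rwa [he] at this
  set z1 := m * M.z * m⁻¹ with hz1
  set z2 := m * z1 * m⁻¹ with hz2
  have h10 : z1 ≠ M.z := fun h => hmz (mul_inv_eq_iff_eq_mul.1 h)
  have h20 : z2 ≠ M.z := fun h => by
    refine hmz (mem_centralizer_singleton_iff.1 (mem_of_sq_mem (H := centralizer ({M.z} : Set G)) ?_ hmo))
    refine mem_centralizer_singleton_iff.2 (mul_inv_eq_iff_eq_mul.1 ?_)
    calc m * m * M.z * (m * m)⁻¹ = z2 := by rw [hz2, hz1]; group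
      _ = M.z := h
  have h21 : z2 ≠ z1 := fun h => h10 (by
    rw [hz2] at h
    exact mul_left_cancel (mul_right_cancel (h.trans hz1)))
  have hz1' := (hin m hmN).resolve_left h10
  have hz2' : z2 = y ∨ z2 = y' := by
    have h := hin (m * m) (mul_mem hmN hmN)
    rw [show m * m * M.z * (m * m)⁻¹ = z2 by rw [hz2, hz1]; group] at h
    exact h.resolve_left h20
  have hcover : ∀ g ∈ normalizer (M.A : Set G),
      g * M.z * g⁻¹ = M.z ∨ g * M.z * g⁻¹ = z1 ∨ g * M.z * g⁻¹ = z2 := by
    intro g hg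
    rcases hin g hg with h | h | h
    · exact Or.inl h
    all_goals
      rcases hz1' with e1 | e1 <;> rcases hz2' with e2 | e2 <;> rw [hz1] at h21 <;>
        first
          | exact absurd (e2.trans e1.symm) (by rw [← hz1] at h21; exact h21)
          | exact Or.inr (Or.inl (h.trans e1.symm))
          | exact Or.inr (Or.inr (h.trans e2.symm))
  have hm3 : m * z2 * m⁻¹ = M.z := by
    have h := hcover (m * m * m) (mul_mem (mul_mem hmN hmN) hmN)
    rw [show m * m * m * M.z * (m * m * m)⁻¹ = m * z2 * m⁻¹ by rw [hz2, hz1]; group] at h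
    rcases h with h | h | h
    · exact h
    · exact absurd (mul_left_cancel (mul_right_cancel (h.trans hz1))) h20
    · exact absurd (mul_left_cancel (mul_right_cancel (h.trans hz2))) h21
  -- an element of `N(A) ∩ X₀` fixing `z` centralizes `A`
  have hcent : ∀ g ∈ normalizer (M.A : Set G) ⊓ X₀, g * M.z * g⁻¹ = M.z →
      ∀ w ∈ M.A, g * w = w * g := by
    intro g hg hgz w hw
    obtain ⟨hgN, hgX⟩ := mem_inf.1 hg
    obtain ⟨u, v, huv, hu, hv, hu2, hv2⟩ := exists_parts g
    have huA : u ∈ M.A :=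
      M.base.mem_A_of_two hAX hodd (zpowers_le.2 hgX hu) (zpowers_le.2 hgN hu) hu2
    have hvz : v * M.z = M.z * v := by
      have h1 : u * (v * M.z) = u * (M.z * v) := by
        rw [← mul_assoc, huv, mul_inv_eq_iff_eq_mul.1 hgz, ← huv, ← mul_assoc u, M.base.comm huA M.z_mem]
        group
      exact mul_left_cancel h1
    rw [← huv]
    exact ((show Commute u w from M.base.comm huA hw).mul_left
      (show Commute v w from D.fix_z_cent hL (zpowers_le.2 hgN hv) hv2 hvz w hw)).eq
  -- a second fixed point of `m`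
  have hcube : ∀ w ∈ M.A, m ^ 3 * w = w * m ^ 3 := by
    refine hcent _ (pow_mem hm 3) ?_
    calc m ^ 3 * M.z * (m ^ 3)⁻¹ = m * z2 * m⁻¹ := by rw [hz2, hz1, pow_three]; group
      _ = M.z := hm3
  have hcnt := A8Type.fixed_modEq (p := 3) m (M.A : Set G)
    (fun w hw => (mem_normalizer_iff.1 hmN w).1 hw) hcube
  obtain ⟨a, ha, hma, ha1, hax⟩ : ∃ a ∈ M.A, m * a = a * m ∧ a ≠ 1 ∧ a ≠ M.el i := by
    by_contra hno
    push Not at hno
    classical
    have hle2 : Nat.card {w : G // w ∈ (M.A : Set G) ∧ m * w = w * m} ≤ 2 := by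
      let f : {w : G // w ∈ (M.A : Set G) ∧ m * w = w * m} → Bool := fun w => decide (w.1 = 1)
      have hf : Function.Injective f := fun w w' h => Subtype.ext (by
        simp only [f, decide_eq_decide] at h
        by_cases hw : w.1 = 1
        · rw [hw, h.1 hw]
        · rw [hno _ w.2.1 w.2.2 hw, hno _ w'.2.1 w'.2.2 (mt h.2 hw)])
      have := Nat.card_le_card_of_injective f hf
      rwa [Nat.card_eq_fintype_card (α := Bool), Fintype.card_bool] at this
    have hge2 : 2 ≤ Nat.card {w : G // w ∈ (M.A : Set G) ∧ m * w = w * m} := by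
      let f : Bool → {w : G // w ∈ (M.A : Set G) ∧ m * w = w * m} := fun b =>
        if b then ⟨1, one_mem _, by rw [mul_one, one_mul]⟩ else ⟨M.el i, hx, hnx m hm⟩
      have hf : Function.Injective f := fun b b' h => by
        have h' := congrArg Subtype.val h
        cases b <;> cases b' <;> simp [f] at h' ⊢
        exacts [hx1 h', hx1 h'.symm]
      have := Nat.card_le_card_of_injective f hf
      rwa [Nat.card_eq_fintype_card (α := Bool), Fintype.card_bool] at this
    rw [SetLike.coe_sort_coe, M.card_A] at hcnt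
    have : Nat.card {w : G // w ∈ (M.A : Set G) ∧ m * w = w * m} = 2 := le_antisymm hle2 hge2
    rw [this] at hcnt
    exact absurd hcnt (by decide)
  have hnotL : ∀ c ∈ M.A, m * c = c * m → ¬ IsConj M.z c := by
    intro c hc hmc h
    obtain ⟨k, hk, hkA, rfl⟩ := M.mem_A.1 hc
    have hfix : m * M.el k * m⁻¹ = M.el k := mul_inv_eq_iff_eq_mul.2 hmc
    have hmem : M.el k = M.z ∨ M.el k = z1 ∨ M.el k = z2 := by
      rcases hthree k hk hkA h with e | e | e
      · exact Or.inl e
      all_goals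
        rcases hz1' with e1 | e1 <;> rcases hz2' with e2 | e2 <;>
          first
            | exact absurd (e2.trans e1.symm) h21
            | exact Or.inr (Or.inl (e.trans e1.symm))
            | exact Or.inr (Or.inr (e.trans e2.symm))
    rcases hmem with e | e | e <;> rw [e] at hfix
    exacts [h10 hfix, h21 hfix, h20 (hfix.symm.trans hm3)]
  have hnF : L ∈ frames → IsConj M.z a := fun hF => absurd hF (by
    have hdis : (lines.all fun L => !frames.contains L) = true := by decide
    simpa using List.all_eq_true.1 hdis L hL)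
  refine mk a ha ha1 hax (fun n hn ho => ?_) (Or.inr ?_) hnF
  · have key : ∀ g ∈ normalizer (M.A : Set G) ⊓ X₀, (g⁻¹ * n) * M.z * (g⁻¹ * n)⁻¹ = M.z →
        g * a = a * g → n * a = a * n := by
      intro g hg hz' hga
      have h1 := hcent _ (mul_mem (inv_mem hg) hn) hz' a ha
      calc n * a = g * (g⁻¹ * n * a) := by group
        _ = g * (a * (g⁻¹ * n)) := by rw [h1]
        _ = g * a * g⁻¹ * n := by group
        _ = a * n := by rw [hga, mul_inv_cancel_right]
    rcases hcover n (mem_inf.1 hn).1 with h | h | h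
    · exact hcent n hn h a ha
    · refine key m hm ?_ hma
      calc m⁻¹ * n * M.z * (m⁻¹ * n)⁻¹ = m⁻¹ * (n * M.z * n⁻¹) * m := by group
        _ = M.z := by rw [h, hz1]; group
    · refine key (m * m) (mul_mem hm hm) ?_ (Commute.mul_left (show Commute m a from hma) hma).eq
      calc (m * m)⁻¹ * n * M.z * ((m * m)⁻¹ * n)⁻¹ = (m * m)⁻¹ * (n * M.z * n⁻¹) * (m * m) := by
            rw [mul_inv_rev ((m * m)⁻¹) n, inv_inv]; simp only [mul_assoc]
        _ = M.z := by rw [h, hz2, hz1]; group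
  · obtain ⟨p, hp, hpA, rfl⟩ := M.mem_A.1 ha
    have hpxA : inA (mul p i) = true := inA_mul hp hi hpA hiA
    have hmpx : m * M.el (mul p i) = M.el (mul p i) * m := by
      rw [← M.hmul p hp i hi]
      exact ((show Commute m (M.el p) from hma).mul_right (hnx m hm)).eq
    have h1 : p ∉ L := fun h => hnotL _ ha hma ((D.orb p hp hpA).2 h)
    have h2 : mul p i ∉ L := fun h =>
      hnotL _ (M.el_mem_sub (mul_lt p i) hpxA) hmpx ((D.orb _ (mul_lt p i) hpxA).2 h)
    have h := all64_iff.1 (List.all_eq_true.1 line_dec L hL) i hi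
    simp only [hiA, Bool.not_true, Bool.false_or, Bool.or_eq_true, beq_iff_eq, hi0, List.contains_iff_mem, hiL,
      false_or] at h
    have h' := all64_iff.1 h p hp
    have hp0 : p ≠ 0 := fun e => ha1 (e ▸ M.el_zero)
    have hpi : p ≠ i := fun e => hax (e ▸ rfl)
    exact D.kind_second hi hiA hp hpA h1 h2 (by simpa [hpA, hp0, hpi, h1, h2] using h')

end Facts

end Cfsg.Agent.A8Rec
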