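import Cfsg.Agent.Lib.A8Rec.Iface
import Cfsg.Agent.Lib.S2918Core.CentB

/-!
The subgroup of index at most two with Sylow 2-subgroup `A` in the centralizer of an involution of `A`
not conjugate to the central one.
-/

set_option autoImplicit false
set_option linter.style.haveILetI false
set_option linter.unusedSectionVars false
set_option maxRecDepth 20000

namespace Cfsg.Agent.A8Rec

open Subgroup ClosedAbelian

/-- The centralizer of an index in the Sylow subgroup. -/
def cp (j i : ℕ) : Bool := mul i j == mul j i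

/-- Centralizers in the Sylow subgroup of the involutions of `A`. -/
def cjDec : Bool := all64 fun j => !inA j || j == 0 || j == 4 ||
  (closedB (cp j) && (all64 (fun i => !cp j i || inA i) ||
    ((((List.range 64).filter (cp j)).length == 32) && Us.any fun w => inU w j &&
      all64 (fun i => !inU w i || cp j i) &&
      all64 (fun i => !(cp j i && !inA i && mul i i == 0) || inU w i) &&
      all64 (fun i => !(inU w i && inA i) || (i == 0 || i == j || i == 4 || i == mul j 4)))))

theorem cjDec_eq : cjDec = true := by decide +kernel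

theorem u_facts : (Us.all fun w => inU w 4 &&
    (all64 fun s => all64 fun i => !inU w i || inU w (cj s i)) &&
    all64 (fun s => inU w s || any64 fun i => inU w i && mul i s != mul s i)) = true := by
  decide +kernel

theorem center_dec : (all64 fun i => i == 0 || i == 4 || any64 fun j => mul i j != mul j i) = true := by
  decide +kernel

variable {G : Type*} [Group G] [Finite G] {M : Model G}

namespace Model

theorem base (M : Model G) : S2918Core.Base M.S M.A M.z :=
  ⟨M.ea_A, M.card_A, M.A_le, M.S_le_normalizer_A, M.z_mem, M.z_ne⟩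

theorem cent_el (M : Model G) {j : ℕ} (hj : j < 64) (hc : closedB (cp j) = true) :
    (M.S : Subgroup G) ⊓ centralizer ({M.el j} : Set G) = M.sub (cp j) := by
  refine le_antisymm (fun x hx => ?_) (le_inf (M.sub_le _) fun x hx => ?_)
  · obtain ⟨hxS, hxc⟩ := mem_inf.1 hx
    obtain ⟨i, hi, rfl⟩ := M.surj x hxS
    exact M.el_mem_sub hi (beq_iff_eq.2 ((M.el_comm hi hj).1 (mem_centralizer_singleton_iff.1 hxc)))
  · obtain ⟨i, hi, hp, rfl⟩ := (M.mem_sub hc).1 hx
    exact mem_centralizer_singleton_iff.2 ((M.el_comm hi hj).2 (beq_iff_eq.1 hp))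

end Model

namespace TFacts

variable (C : TFacts M)
include C

/-- The data in the Sylow subgroup. -/
theorem bdata {j w : ℕ} (hj : j < 64) (hA : inA j = true) (h0 : j ≠ 0) (h4 : j ≠ 4)
    (hw : w ∈ Us) (hwj : inU w j = true) (hcl : closedB (cp j) = true)
    (h32 : ((List.range 64).filter (cp j)).length = 32)
    (hle : all64 (fun i => !inU w i || cp j i) = true)
    (hout : all64 (fun i => !(cp j i && !inA i && mul i i == 0) || inU w i) = true)
    (hUA : all64 (fun i => !(inU w i && inA i) || (i == 0 || i == j || i == 4 || i == mul j 4)) = true)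
    (hz : ¬ IsConj M.z (M.el j)) : S2918Core.BData M.S M.A (M.U w) M.z (M.el j) := by
  have huf := List.all_eq_true.1 u_facts w hw
  simp only [Bool.and_eq_true] at huf
  obtain ⟨⟨hz4, hnorm⟩, hcen⟩ := huf
  refine { toBase := M.base, cardS := M.card_S, bA := M.el_mem_sub hj hA, b1 := fun h => h0 ((M.el_eq_one hj).1 h),
           nbz := hz, center := ?_, cardT := ?_, u2le := ?_, u2z := M.el_mem_sub (by norm_num) hz4,
           u2A := ?_, u2out := ?_, u2N := ?_, u2C := ?_, u2uniq := ?_ }
  · intro x hx h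
    obtain ⟨i, hi, rfl⟩ := M.surj x hx
    have h1 := all64_iff.1 center_dec i hi
    simp only [Bool.or_eq_true, beq_iff_eq, any64_iff, bne_iff_ne] at h1
    rcases h1 with (rfl | rfl) | ⟨k, hk, hne⟩
    · exact Or.inl M.el_zero
    · exact Or.inr rfl
    · exact absurd ((M.el_comm hi hk).1 (h _ (M.mem k hk))) hne
  · rw [M.cent_el hj hcl, M.card_sub hcl, h32]
  · rw [M.cent_el hj hcl]
    intro x hx
    obtain ⟨i, hi, hu, rfl⟩ := (M.mem_U hw).1 hx
    exact M.el_mem_sub hi (by simpa [hu] using all64_iff.1 hle i hi)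
  · intro x hx
    obtain ⟨hxU, hxA⟩ := mem_inf.1 hx
    obtain ⟨i, hi, hu, rfl⟩ := (M.mem_U hw).1 hxU
    have h1 := all64_iff.1 hUA i hi
    simp only [hu, (M.el_mem_sub_iff Model.closed_A hi).1 hxA, Bool.and_self, Bool.not_true, Bool.false_or,
      Bool.or_eq_true, beq_iff_eq] at h1
    rcases h1 with ((rfl | rfl) | rfl) | rfl
    · rw [M.el_zero]; exact one_mem _
    · exact mem_sup_left (mem_zpowers _)
    · exact mem_sup_right (mem_zpowers _)
    · rw [← M.hmul j hj 4 (by norm_num)]
      exact mul_mem (mem_sup_left (mem_zpowers _)) (mem_sup_right (mem_zpowers _))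
  · intro x hx hxA hxx
    rw [M.cent_el hj hcl] at hx
    obtain ⟨i, hi, hp, rfl⟩ := (M.mem_sub hcl).1 hx
    have hAi : inA i = false := Bool.eq_false_iff.2 fun h => hxA (M.el_mem_sub hi h)
    exact M.el_mem_sub hi (by simpa [hp, hAi, (M.el_sq hi).1 hxx] using all64_iff.1 hout i hi)
  · have key : ∀ s ∈ (M.S : Subgroup G), ∀ a ∈ M.U w, s * a * s⁻¹ ∈ M.U w := by
      intro s hs a ha
      obtain ⟨k, hk, rfl⟩ := M.surj s hs
      obtain ⟨i, hi, hpi, rfl⟩ := (M.mem_U hw).1 ha
      rw [M.el_conj hk hi]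
      exact M.el_mem_sub (cj_lt k i) (by simpa [hpi] using all64_iff.1 (all64_iff.1 hnorm k hk) i hi)
    refine fun s hs => mem_normalizer_iff.2 fun a => ⟨key s hs a, fun h => ?_⟩
    simpa [mul_assoc] using key s⁻¹ (inv_mem hs) _ h
  · intro x hx
    obtain ⟨hxS, hxc⟩ := mem_inf.1 hx
    obtain ⟨s, hs, rfl⟩ := M.surj x hxS
    have h1 := all64_iff.1 hcen s hs
    simp only [Bool.or_eq_true, any64_iff, Bool.and_eq_true, bne_iff_ne] at h1
    rcases h1 with h1 | ⟨i, hi, hu, hne⟩
    · exact M.el_mem_sub hs h1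
    · exact absurd ((M.el_comm hi hs).1 (mem_centralizer_iff.1 hxc _ (M.el_mem_sub hi hu))) hne
  · intro g hg
    obtain ⟨i, hi, hu, he⟩ := (M.mem_U hw).1 hg
    rcases eq_or_ne i 0 with rfl | hi0
    · exfalso
      rw [M.el_zero] at he
      exact M.z_ne (by simpa using he.symm)
    rcases eq_or_ne i 4 with rfl | hi4
    · exact he.symm
    exfalso
    obtain ⟨t, -, ht⟩ := C.orbU w hw i hi hu hi0 hi4
    obtain ⟨t', -, ht'⟩ := C.orbU w hw j hj hwj h0 h4
    refine hz ((isConj_iff.2 ⟨g, rfl⟩ : IsConj M.z (g * M.z * g⁻¹)).trans ?_)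
    rw [← he]
    exact (isConj_iff.2 ⟨t, ht⟩).trans (isConj_iff.2 ⟨t', ht'⟩).symm

/-- The subgroup of index at most two. -/
theorem exists_X0 {x : G} (hx : x ∈ M.A) (hx1 : x ≠ 1) (hz : ¬ IsConj M.z x) :
    ∃ X₀ D : Subgroup G, X₀ ≤ centralizer ({x} : Set G) ∧
      centralizer ({x} : Set G) ≤ normalizer (X₀ : Set G) ∧ M.A ≤ X₀ ∧ ¬ 2 ∣ M.A.relIndex X₀ ∧
      IsPGroup 2 ↥D ∧ D ≤ normalizer (M.A : Set G) ∧ D ≤ centralizer ({x} : Set G) ∧
      centralizer ({x} : Set G) ≤ X₀ ⊔ D := by
  haveI : Fact (Nat.Prime 2) := ⟨Nat.prime_two⟩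
  have hAC : M.A ≤ centralizer ({x} : Set G) := M.base.leC hx
  obtain ⟨P, hP⟩ := ((M.isPGroup_sub inA).comap_subtype (K := centralizer ({x} : Set G))).exists_le_sylow
  set P' := (P : Subgroup ↥(centralizer ({x} : Set G))).map (centralizer ({x} : Set G)).subtype with hP'
  have hAP : M.A ≤ P' := fun y hy => ⟨⟨y, hAC hy⟩, hP (show y ∈ M.A from hy), rfl⟩
  have hP2 : IsPGroup 2 ↥P' := P.2.map _
  obtain ⟨n, hn, hle⟩ := LESylow.exists_conj_le_of_le (M.le_normalizer_of_two hP2 hAP) hP2
    (M.S.subtype M.S_le_normalizer_A)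
  obtain ⟨j, hj, hjA, hje⟩ := M.mem_A.1 ((mem_normalizer_iff.1 hn x).1 hx)
  have hj0 : j ≠ 0 := fun h => hx1 (by
    rw [h, M.el_zero] at hje
    simpa using hje.symm)
  have hzj : ¬ IsConj M.z (M.el j) := fun h =>
    hz (h.trans (hje ▸ (isConj_iff.2 ⟨n, rfl⟩ : IsConj x (n * x * n⁻¹))).symm)
  have hj4 : j ≠ 4 := fun h => hzj (h ▸ IsConj.refl _)
  have hd := all64_iff.1 cjDec_eq j hj
  simp only [hjA, Bool.not_true, Bool.false_or, Bool.or_eq_true, beq_iff_eq, hj0, hj4, false_or,
    Bool.and_eq_true, List.any_eq_true] at hd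
  obtain ⟨hcl, hsmall | ⟨h32, w, hw, ⟨⟨hwj, hle'⟩, hout⟩, hUA⟩⟩ := hd
  · refine ⟨centralizer ({x} : Set G), M.A, le_rfl, Subgroup.le_normalizer, hAC, ?_,
      M.isPGroup_sub inA, Subgroup.le_normalizer, hAC, le_sup_left⟩
    have heq : M.A = P' := by
      refine eq_of_le_of_card_ge hAP ?_
      rw [M.card_A, ← LEBasic.card_map_conj P' n, ← M.card_A]
      refine card_le_of_le fun y hy => ?_
      obtain ⟨s, hs, hse⟩ := hle hy
      have hyS : y ∈ (M.S : Subgroup G) := hse ▸ hs
      have hyC : y ∈ centralizer ({M.el j} : Set G) := by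
        rw [hje, ← A8Type.map_centralizer_singleton]
        exact map_mono (map_subtype_le _) hy
      have h1 : y ∈ M.sub (cp j) := M.cent_el hj hcl ▸ mem_inf.2 ⟨hyS, hyC⟩
      obtain ⟨i, hi, hp, rfl⟩ := (M.mem_sub hcl).1 h1
      exact M.el_mem_sub hi (by simpa [hp] using all64_iff.1 hsmall i hi)
    have heq' : (P : Subgroup ↥(centralizer ({x} : Set G))) = M.A.subgroupOf (centralizer ({x} : Set G)) := by
      rw [heq, hP', subgroupOf, comap_map_eq_self_of_injective (Subgroup.subtype_injective _)]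
    rw [relIndex, ← heq']
    exact P.not_dvd_index
  · have B := C.bdata hj hjA hj0 hj4 hw hwj hcl h32 hle' hout hUA hzj
    obtain ⟨X₀, hb, hnm, hAX, hodd, htop⟩ := B.exists_X0
    set f := (MulAut.conj n⁻¹).toMonoidHom with hf
    have hAf : M.A.map f = M.A := LEBasic.map_conj_eq_iff_mem_normalizer.2 (inv_mem hn)
    have hC : (centralizer ({M.el j} : Set G)).map f = centralizer ({x} : Set G) := by
      rw [hf, A8Type.map_centralizer_singleton, hje]
      congr
      group
    refine ⟨X₀.map f, ((M.S : Subgroup G) ⊓ centralizer ({M.el j} : Set G)).map f, ?_, ?_, ?_, ?_,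
      (M.S.2.to_le inf_le_left).map f, ?_, ?_, ?_⟩
    · exact (map_mono hb).trans hC.le
    · exact hC.ge.trans ((map_mono hnm).trans (le_normalizer_map f))
    · exact hAf.ge.trans (map_mono hAX)
    · rw [← hAf, relIndex_map_map_of_injective _ _ (MulAut.conj n⁻¹).injective]
      exact hodd
    · refine (map_mono (inf_le_left.trans M.S_le_normalizer_A)).trans ?_
      exact (le_normalizer_map f).trans (by rw [hAf])
    · exact (map_mono inf_le_right).trans hC.le
    · rw [← hC, ← Subgroup.map_sup]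
      exact map_mono htop

end TFacts

end Cfsg.Agent.A8Rec
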