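import Cfsg.Agent.Lib.A8Rec.Iface

/-!
Consequences of a trivial odd core of the centralizer of the central involution.
-/

set_option autoImplicit false
set_option linter.style.haveILetI false
set_option maxRecDepth 20000

namespace Cfsg.Agent.A8Rec

open Subgroup

/-- The facts on the indices of `Q` and of `A`. -/
theorem q_facts :
    (all64 fun c => !inQ c || (c == 0 || c == 4 || any64 fun q => inQ q && mul q c != mul c q)) = true ∧
    (all64 fun q => !inQ q || (mul q q == 0 || mul q q == 4)) = true ∧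
    (all64 fun a => all64 fun b => !(inQ a && inQ b) || (mul a b == mul b a || mul a b == mul (mul b a) 4)) = true ∧
    (all64 fun q => !inQ q || mul q 4 == mul 4 q) = true ∧
    (all64 fun s => inQ s || any64 fun q => inQ q && mul q s != mul s q) = true ∧
    (all64 fun q => !inQ q || (!(cj 8 q == q || cj 8 q == mul q 4) || mul q q == 0)) = true ∧
    (all64 fun q => !inQ q || (mul q q != 0 || (q == 0 || q == 4 ||
      any64 fun r => inQ r && mul r r == 0 && !(r == 0 || r == 4) && mul q r != mul r q))) = true := by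
  decide +kernel

variable {G : Type*} [Group G] [Finite G] (M : Model G)

namespace TFacts

variable {M} (C : TFacts M) (hO : M.O = ⊥)
include C hO

/-- An element of `T` of odd order centralizing a noncentral involution of `Q` is trivial. -/
theorem eq_one {i : ℕ} (hi : i < 64) (hq : inQ i = true) (hsq : mul i i = 0) (h0 : i ≠ 0) (h4 : i ≠ 4) {x : G}
    (hx : x * M.z = M.z * x) (hodd : Odd (orderOf x)) (h : x * M.el i = M.el i * x) : x = 1 := by
  have := C.small i hi hq hsq h0 h4 x (mem_centralizer_singleton_iff.2 hx) hodd h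
  rwa [hO, mem_bot] at this

/-- `Q` is normal in `T`. -/
theorem norm {g : G} (hg : g * M.z = M.z * g) {q : G} (hq : q ∈ M.Q) : g * q * g⁻¹ ∈ M.Q := by
  obtain ⟨o, ho, n, -, hn, rfl⟩ := C.frat g (mem_centralizer_singleton_iff.2 hg)
  rw [hO, mem_bot] at ho
  subst ho
  rw [one_mul]
  exact (mem_normalizer_iff.1 hn q).1 hq

/-- `T` has no other elements centralizing `Q`. -/
theorem self {g : G} (hg : g * M.z = M.z * g) (h : ∀ q ∈ M.Q, g * q = q * g) : g ∈ M.Q := by
  classical
  haveI : Fact (Nat.Prime 2) := ⟨Nat.prime_two⟩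
  set H := M.T ⊓ centralizer (M.Q : Set G) with hH
  have hmem : g ∈ H := mem_inf.2 ⟨mem_centralizer_singleton_iff.2 hg, mem_centralizer_iff.2 fun q hq => (h q hq).symm⟩
  have hH2 : IsPGroup 2 H := by
    rintro ⟨y, hy⟩
    obtain ⟨hyT, hyQ⟩ := mem_inf.1 hy
    obtain ⟨k, m, hm, he⟩ := Nat.exists_eq_two_pow_mul_odd (orderOf_pos y).ne'
    refine ⟨k, Subtype.ext ?_⟩
    show y ^ 2 ^ k = 1
    refine C.eq_one hO (i := 2) (by norm_num) (by decide) (by decide) (by norm_num) (by norm_num) ?_ ?_ ?_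
    · exact ((show Commute y M.z from mem_centralizer_singleton_iff.1 hyT).pow_left _).eq
    · have hd : orderOf (y ^ 2 ^ k) ∣ m := orderOf_dvd_of_pow_eq_one (by rw [← pow_mul, ← he, pow_orderOf_eq_one])
      exact hm.of_dvd_nat hd
    · exact ((show Commute y (M.el 2) from
        (mem_centralizer_iff.1 hyQ _ (M.el_mem_sub (by norm_num) (by decide))).symm).pow_left _).eq
  -- a normal 2-subgroup of `T` lies in `S`
  have hHn : M.T ≤ normalizer (H : Set G) := by
    intro t ht
    have key : ∀ {s : G}, s ∈ M.T → ∀ y ∈ H, s * y * s⁻¹ ∈ H := by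
      intro s hs y hy
      obtain ⟨hyT, hyQ⟩ := mem_inf.1 hy
      refine mem_inf.2 ⟨mul_mem (mul_mem hs hyT) (inv_mem hs), mem_centralizer_iff.2 fun q hq => ?_⟩
      have hq' := C.norm hO (mem_centralizer_singleton_iff.1 (inv_mem hs)) hq
      rw [inv_inv] at hq'
      have := mem_centralizer_iff.1 hyQ _ hq'
      calc q * (s * y * s⁻¹) = s * (s⁻¹ * q * s * y) * s⁻¹ := by group
        _ = s * (y * (s⁻¹ * q * s)) * s⁻¹ := by rw [this]
        _ = _ := by group
    exact mem_normalizer_iff.2 fun y => ⟨key ht y, fun hy => by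
      have := key (inv_mem ht) _ hy
      simpa [mul_assoc] using this⟩
  have hHS : H ≤ (M.S : Subgroup G) := by
    have hS : (M.S : Subgroup G) ≤ normalizer (H : Set G) := M.S_le_T.trans hHn
    have hp : IsPGroup 2 ↥((M.S : Subgroup G) ⊔ H) := IsPGroup.to_sup_of_normal_right' M.S.isPGroup' hH2 hS
    exact le_sup_right.trans (M.S.is_maximal' hp le_sup_left).le
  obtain ⟨i, hi, rfl⟩ := M.surj g (hHS hmem)
  by_contra hnot
  have hq : inQ i = false := Bool.eq_false_iff.2 fun hq => hnot (M.el_mem_sub hi hq)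
  have h5 := all64_iff.1 q_facts.2.2.2.2.1 i hi
  simp only [hq, Bool.false_or, any64_iff, Bool.and_eq_true, bne_iff_ne] at h5
  obtain ⟨q, hq', hqQ, hne⟩ := h5
  exact hne ((M.el_comm hq' hi).1 (h _ (M.el_mem_sub hq' hqQ)).symm)

end TFacts

namespace Model

theorem Q_center {c : G} (hc : c ∈ M.Q) (h : ∀ q ∈ M.Q, q * c = c * q) : c = 1 ∨ c = M.z := by
  obtain ⟨i, hi, hiq, rfl⟩ := M.mem_Q.1 hc
  have h1 := all64_iff.1 q_facts.1 i hi
  simp only [hiq, Bool.not_true, Bool.false_or, Bool.or_eq_true, beq_iff_eq, any64_iff, Bool.and_eq_true,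
    bne_iff_ne] at h1
  rcases h1 with (rfl | rfl) | ⟨q, hq, hqQ, hne⟩
  · exact Or.inl M.el_zero
  · exact Or.inr rfl
  · exact absurd ((M.el_comm hq hi).1 (h _ (M.el_mem_sub hq hqQ))) hne

theorem Q_sq {q : G} (hq : q ∈ M.Q) : q * q = 1 ∨ q * q = M.z := by
  obtain ⟨i, hi, hiq, rfl⟩ := M.mem_Q.1 hq
  have h1 := all64_iff.1 q_facts.2.1 i hi
  simp only [hiq, Bool.not_true, Bool.false_or, Bool.or_eq_true, beq_iff_eq] at h1
  rw [M.hmul i hi i hi]
  rcases h1 with h | h <;> rw [h]
  exacts [Or.inl M.el_zero, Or.inr rfl]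

theorem Q_comm {a b : G} (ha : a ∈ M.Q) (hb : b ∈ M.Q) : a * b = b * a ∨ a * b = b * a * M.z := by
  obtain ⟨i, hi, hiq, rfl⟩ := M.mem_Q.1 ha
  obtain ⟨j, hj, hjq, rfl⟩ := M.mem_Q.1 hb
  have h1 := all64_iff.1 (all64_iff.1 q_facts.2.2.1 i hi) j hj
  simp only [hiq, hjq, Bool.and_self, Bool.not_true, Bool.false_or, Bool.or_eq_true, beq_iff_eq] at h1
  rw [z, M.hmul i hi j hj, M.hmul j hj i hi, M.hmul _ (mul_lt j i) 4 (by norm_num)]
  rcases h1 with h | h <;> rw [h]
  exacts [Or.inl rfl, Or.inr rfl]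

theorem Q_comm_z {q : G} (hq : q ∈ M.Q) : q * M.z = M.z * q :=
  mem_centralizer_singleton_iff.1 (M.Q_le_T hq)

theorem z_mem_Q : M.z ∈ M.Q := M.el_mem_sub (by norm_num) (by decide)

theorem orderOf_z : orderOf M.z = 2 := orderOf_eq_prime (by rw [pow_two]; exact M.z_sq) M.z_ne

theorem card_T {n : ℕ} (hO : M.O = ⊥) (h : Nat.card M.T = Nat.card M.O * n) :
    Nat.card (centralizer ({M.z} : Set G)) = n := by
  rw [hO, card_bot, one_mul] at h
  exact h

end Model

end Cfsg.Agent.A8Rec
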