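import Cfsg.Agent.Lib.A8Rec.EndCommon
import Cfsg.Agent.Lib.S2918Id.PspSwap
import Cfsg.Prelude.Def_Transfer

/-!
The shape `Q.(3² : 2)` gives `PSp₄(3)`.
-/

set_option autoImplicit false
set_option linter.style.haveILetI false

namespace Cfsg.Agent.A8Rec

open Subgroup

variable {G : Type*} [Group G] [Finite G]

theorem index_ne_two_of_residual (h : Cfsg.pResidual 2 G = ⊤) (K : Subgroup G) : K.index ≠ 2 := by
  intro hK
  haveI := Subgroup.normal_of_index_eq_two hK
  have hle : Cfsg.pResidual 2 G ≤ K := (closure_le _).2 fun g hg => by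
    obtain ⟨m, hm⟩ := Nat.coprime_two_right.1 hg
    have h1 : g ^ (2 * m + 1) = 1 := by rw [← hm, pow_orderOf_eq_one]
    have h2 : g ^ 2 ∈ K := Subgroup.sq_mem_of_index_two hK g
    have h3 : g * (g ^ 2) ^ m = 1 := by rw [← pow_mul, ← pow_succ', h1]
    rw [show g = ((g ^ 2) ^ m)⁻¹ from eq_inv_of_mul_eq_one_left h3]
    exact inv_mem (pow_mem h2 m)
  rw [h, top_le_iff] at hle
  rw [hle, index_top] at hK
  norm_num at hK

/-- The shape `Q.(3² : 2)` gives `PSp₄(3)`. -/
theorem endP (M : Model G) (C : CaseP M) (hO : M.O = ⊥) (hres : Cfsg.pResidual 2 G = ⊤) :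
    ∃ (F : Type) (_ : Field F) (_ : Fintype F), Fintype.card F = 3 ∧ Nonempty (G ≃* Cfsg.PSp 2 F) := by
  haveI : Fact (Nat.Prime 3) := ⟨Nat.prime_three⟩
  have T := C.toTFacts
  have S : S2918Id.Swap M.z M.Q (M.el 8) :=
    { z_two := M.orderOf_z
      comm_z := fun q hq => M.Q_comm_z hq
      norm := fun g hg q hq => T.norm hO hg hq
      card_Q := M.card_Q
      z_mem := M.z_mem_Q
      center := fun c hc h => M.Q_center hc h
      sq := fun q hq => M.Q_sq hq
      comm := fun a ha b hb => M.Q_comm ha hb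
      card_cent := M.card_T hO C.card
      self := fun g hg h => T.self hO hg h
      u_two := (M.el_sq (by norm_num)).2 (by decide)
      u_comm := (M.el_comm (by norm_num) (by norm_num)).2 (by decide)
      u_notin := fun h => absurd ((M.el_mem_sub_iff Model.closed_Q (by norm_num)).1 h) (by decide)
      sing := fun q hq h => by
        obtain ⟨i, hi, hiq, rfl⟩ := M.mem_Q.1 hq
        have h1 := all64_iff.1 q_facts.2.2.2.2.2.1 i hi
        rw [M.el_conj (by norm_num) hi, Model.z, M.hmul i hi 4 (by norm_num),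
          M.el_eq_iff (cj_lt _ _) hi, M.el_eq_iff (cj_lt _ _) (mul_lt _ _)] at h
        have hb : (cj 8 i == i || cj 8 i == mul i 4) = true := by
          rcases h with h | h <;> simp [h]
        simp only [hiq, hb, Bool.not_true, Bool.false_or, beq_iff_eq] at h1
        exact (M.el_sq hi).2 h1 }
  exact ⟨ZMod 3, inferInstance, inferInstance, ZMod.card 3,
    S.nonempty_iso (index_ne_two_of_residual hres)⟩

end Cfsg.Agent.A8Rec
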