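import Cfsg.Agent.Lib.A8Rec.Base
import Cfsg.Agent.Lib.A8Rec.Linear

/-!
The facts on the centralizer `T` of the central involution and on the fusion of involutions, from
which the odd core of `T` is shown trivial and the group is identified.
-/

set_option autoImplicit false

namespace Cfsg.Agent.A8Rec

open Subgroup ClosedAbelian

/-- The possible sets of conjugates of `z` in `A` with three elements. -/
def lines : List (List ℕ) := [[2, 4, 6], [4, 16, 20], [4, 18, 22]]

/-- The possible sets with nine elements. -/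
def grids : List (List ℕ) :=
  [[2, 4, 6, 8, 10, 16, 20, 24, 30], [2, 4, 6, 8, 10, 18, 22, 24, 30],
    [4, 8, 10, 16, 18, 20, 22, 24, 30], [2, 4, 6, 12, 14, 16, 20, 26, 28],
    [2, 4, 6, 12, 14, 18, 22, 26, 28], [4, 12, 14, 16, 18, 20, 22, 26, 28]]

/-- The possible sets with five elements. -/
def frames : List (List ℕ) := [[4, 8, 10, 24, 30], [4, 12, 14, 26, 28]]

variable {G : Type*} [Group G]

/-- What is common to the two possible shapes of the centralizer of the central involution. -/
structure TFacts (M : Model G) : Prop where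
  /-- `T` is solvable. -/
  sol : Group.IsSolvable ↥M.T
  /-- `T = O N_T(Q)`. -/
  frat : ∀ t ∈ M.T, ∃ o ∈ M.O, ∃ n ∈ M.T, n ∈ normalizer (M.Q : Set G) ∧ t = o * n
  /-- Odd elements of `T` centralizing a noncentral involution of `Q` lie in the odd core. -/
  small : ∀ i < 64, inQ i = true → mul i i = 0 → i ≠ 0 → i ≠ 4 →
    ∀ x ∈ M.T, Odd (orderOf x) → x * M.el i = M.el i * x → x ∈ M.O
  /-- The centralizers in `T` of the normal eights have Sylow 2-subgroups of order 8. -/
  centU : ∀ u ∈ Us, ∀ P : Subgroup G, IsPGroup 2 ↥P → P ≤ M.T →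
    P ≤ centralizer (M.U u : Set G) → Nat.card ↥P ≤ 8
  /-- The noncentral involutions of each normal eight are fused in `T`. -/
  orbU : ∀ u ∈ Us, ∀ i < 64, inU u i = true → i ≠ 0 → i ≠ 4 →
    ∃ t ∈ M.T, t * M.el i * t⁻¹ = M.el (pu u)

/-- The shape `Q.S₃`. -/
structure CaseS (M : Model G) : Prop extends TFacts M where
  card : Nat.card ↥M.T = Nat.card ↥M.O * 192
  /-- The three eights are normal modulo the odd core. -/
  normU : ∀ u ∈ Us, M.T ≤ normalizer ((M.U u ⊔ M.O : Subgroup G) : Set G)
  /-- `T ∩ N(A)` acts on `A` as `S` does. -/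
  stab : ∀ n ∈ M.T ⊓ normalizer (M.A : Set G), ∃ s ∈ (M.S : Subgroup G), ∀ a ∈ M.A,
    n * a * n⁻¹ = s * a * s⁻¹

/-- The shape `Q.(3² : 2)`. -/
structure CaseP (M : Model G) : Prop extends TFacts M where
  card : Nat.card ↥M.T = Nat.card ↥M.O * 576
  /-- The noncentral involutions of the three eights are fused in `T`. -/
  orbP : ∀ u ∈ Us, ∃ t ∈ M.T, t * M.el (pu u) * t⁻¹ = M.el 2
  /-- `T ∩ N(A)` acts on `A` by the twelve maps. -/
  stab : ∀ n ∈ M.T ⊓ normalizer (M.A : Set G), ∃ p ∈ Linear.twelve,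
    ∀ a < 16, Linear.app p a < 16 ∧ n * M.el (2 * a) * n⁻¹ = M.el (2 * Linear.app p a)
  /-- All twelve maps occur. -/
  real : ∀ p ∈ Linear.twelve, ∃ n ∈ M.T ⊓ normalizer (M.A : Set G),
    ∀ a < 16, Linear.app p a < 16 ∧ n * M.el (2 * a) * n⁻¹ = M.el (2 * Linear.app p a)

/-- The shape with `A` normal modulo the odd core, to be excluded. -/
structure CaseN (M : Model G) : Prop where
  sol : Group.IsSolvable ↥M.T
  normA : M.T ≤ normalizer ((M.A ⊔ M.O : Subgroup G) : Set G)

/-- The facts used to show that the odd core of `T` is trivial. -/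
structure Facts (M : Model G) (L : List ℕ) : Prop extends TFacts M where
  mem_L : L ∈ lines ++ grids ++ frames
  /-- `L` lists the conjugates of `z` in `A`. -/
  orb : ∀ i < 64, inA i = true → (IsConj M.z (M.el i) ↔ i ∈ L)
  /-- Outside the frames the eights are normal modulo the odd core. -/
  normU : L ∉ frames → ∀ u ∈ Us, M.T ≤ normalizer ((M.U u ⊔ M.O : Subgroup G) : Set G)

end Cfsg.Agent.A8Rec
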