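import Cfsg.Agent.Lib.A8Rec.Rulings
import Cfsg.Agent.Lib.Transfer.Basic

/-!
The shapes of the centralizer of the central involution, lifted from its quotient by the odd core.
-/

set_option autoImplicit false
set_option maxRecDepth 20000
set_option linter.unusedSectionVars false

namespace Cfsg.Agent.A8Rec

open Subgroup ClosedAbelian Linear
open scoped Pointwise

variable {G : Type*} [Group G] [Finite G]

/-- Two involutions congruent modulo a normalized odd subgroup are conjugate by it. -/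
theorem conj_of_congr {O : Subgroup G} (hO : ¬ 2 ∣ Nat.card ↥O) {a b : G} (ha : a * a = 1) (hb : b * b = 1)
    (h : a * b ∈ O) : ∃ e ∈ O, e * b * e⁻¹ = a := by
  have hd : a * (a * b) * a = (a * b)⁻¹ := by
    rw [mul_inv_rev, inv_eq_of_mul_eq_one_right ha, inv_eq_of_mul_eq_one_right hb, ← mul_assoc a a, ha, one_mul]
  set d := a * b with hdd
  obtain ⟨k, hk⟩ := odd_orderOf_of_mem hO h
  refine ⟨d ^ (k + 1), pow_mem h _, ?_⟩
  have he : d ^ (k + 1) * d ^ (k + 1) = d := by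
    rw [← pow_add, show k + 1 + (k + 1) = orderOf d + 1 by omega, pow_add, pow_orderOf_eq_one, one_mul, pow_one]
  have hb' : b = a * d := by rw [hdd, ← mul_assoc, ha, one_mul]
  have hinv : a * d ^ (k + 1) * a = (d ^ (k + 1))⁻¹ := by
    have : ∀ n : ℕ, a * d ^ n * a = (d ^ n)⁻¹ := by
      intro n
      induction n with
      | zero => simp [ha]
      | succ n ih =>
        rw [pow_succ, show a * (d ^ n * d) * a = a * d ^ n * (a * a) * d * a by rw [ha, mul_one]; group,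
          show a * d ^ n * (a * a) * d * a = a * d ^ n * a * (a * d * a) by group, ih, hd,
          ← mul_inv_rev, ← pow_succ', pow_succ]
    exact this _
  have e1 : d ^ (k + 1) * a = a * (d ^ (k + 1))⁻¹ := by
    rw [← hinv, ← mul_assoc, ← mul_assoc, ha, one_mul]
  rw [hb', ← mul_assoc, e1, show a * (d ^ (k + 1))⁻¹ * d * (d ^ (k + 1))⁻¹ =
    a * ((d ^ (k + 1))⁻¹ * (d ^ (k + 1) * d ^ (k + 1)) * (d ^ (k + 1))⁻¹) by rw [he]; group,
    show (d ^ (k + 1))⁻¹ * (d ^ (k + 1) * d ^ (k + 1)) * (d ^ (k + 1))⁻¹ = 1 by group, mul_one]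

/-- A 2-subgroup normalized modulo an odd subgroup: the Frattini argument. -/
theorem exists_normalizing {O P X : Subgroup G} (hO : ¬ 2 ∣ Nat.card ↥O) (hP : IsPGroup 2 ↥P)
    (hOX : O ≤ X) (hPX : P ≤ X) (hn : X ≤ normalizer (O : Set G)) {t : G} (ht : t ∈ X)
    (h : ∀ x ∈ P, t * x * t⁻¹ ∈ P ⊔ O) : ∃ o ∈ O, o * t ∈ normalizer (P : Set G) := by
  haveI : Fact (Nat.Prime 2) := ⟨Nat.prime_two⟩
  set Y := P ⊔ O with hY
  have hdisj : ∀ x ∈ P, x ∈ O → x = 1 := fun x hx hx' =>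
    (TwoEl.of_group hP hx).eq_one_of_odd (odd_orderOf_of_mem hO hx')
  have hcard : Nat.card ↥Y = Nat.card ↥P * Nat.card ↥O := by
    rw [← SetLike.coe_sort_coe, hY, Subgroup.coe_mul_of_left_le_normalizer_right P O (hPX.trans hn)]
    refine (Nat.card_eq_of_bijective (fun w : ↥P × ↥O => (⟨(w.1 : G) * w.2, w.1, w.1.2, w.2, w.2.2, rfl⟩ :
      ((P : Set G) * (O : Set G) : Set G))) ⟨?_, ?_⟩).symm.trans (Nat.card_prod _ _)
    · rintro ⟨a, b⟩ ⟨c, d⟩ e
      have e' : (a : G) * b = c * d := congrArg Subtype.val e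
      have h1 : (c : G)⁻¹ * a = d * (b : G)⁻¹ := by
        calc (c : G)⁻¹ * a = (c : G)⁻¹ * ((a : G) * b) * (b : G)⁻¹ := by group
          _ = (c : G)⁻¹ * ((c : G) * d) * (b : G)⁻¹ := by rw [e']
          _ = _ := by group
      have h2 := hdisj _ (mul_mem (inv_mem c.2) a.2) (h1 ▸ mul_mem d.2 (inv_mem b.2))
      have h3 : (a : G) = c := by
        calc (a : G) = c * ((c : G)⁻¹ * a) := by group
          _ = c := by rw [h2, mul_one]
      rw [h3] at e'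
      exact Prod.ext (Subtype.ext h3) (Subtype.ext (mul_left_cancel e'))
    · rintro ⟨x, a, ha, b, hb, rfl⟩
      exact ⟨(⟨a, ha⟩, ⟨b, hb⟩), rfl⟩
  let R : Sylow 2 ↥Y := (hP.comap_subtype (K := Y)).toSylow (by
    intro h2
    have hc := Subgroup.card_mul_index (P.subgroupOf Y)
    rw [Nat.card_congr (subgroupOfEquivOfLe (le_sup_left : P ≤ Y)).toEquiv, hcard] at hc
    exact hO (Nat.eq_of_mul_eq_mul_left Nat.card_pos hc ▸ h2))
  have hR : (R : Subgroup ↥Y).map Y.subtype = P := by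
    show (P.subgroupOf Y).map Y.subtype = P
    rw [subgroupOf_map_subtype, inf_eq_left.2 le_sup_left]
  obtain ⟨m, hm, hle⟩ := LESylow.exists_conj_le_of_le (M := Y)
    (A := P.map (MulAut.conj t).toMonoidHom) (by rintro _ ⟨x, hx, rfl⟩; exact h x hx)
    (LEBasic.isPGroup_map_conj hP t) R
  rw [hR] at hle
  have hm' : m ∈ ((O ⊔ P : Subgroup G) : Set G) := by rw [sup_comm]; exact hm
  rw [Subgroup.coe_mul_of_right_le_normalizer_left O P (hPX.trans hn)] at hm'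
  obtain ⟨o, ho, q, hq, rfl⟩ := hm'
  refine ⟨q⁻¹ * o * q, ?_, ?_⟩
  · have h2 := (mem_normalizer_iff.1 (hn (hPX (inv_mem hq))) o).1 ho
    rwa [inv_inv] at h2
  · rw [← LEBasic.map_conj_eq_iff_mem_normalizer]
    refine eq_of_le_of_card_ge ?_ (LEBasic.card_map_conj _ _).ge
    rintro _ ⟨x, hx, rfl⟩
    have h1 := hle ⟨_, ⟨x, hx, rfl⟩, rfl⟩
    simp only [MulEquiv.coe_toMonoidHom, MulAut.conj_apply] at h1 ⊢
    have h2 := mul_mem (mul_mem (inv_mem hq) h1) hq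
    convert h2 using 1
    group

namespace Model

variable (M : Model G)

/-- The map onto `T` modulo its odd core. -/
def proj : ↥M.T →* ↥M.T ⧸ Cfsg.oddCore ↥M.T := QuotientGroup.mk' _

theorem proj_surj : Function.Surjective M.proj := QuotientGroup.mk'_surjective _

theorem proj_eq_one {t : ↥M.T} : M.proj t = 1 ↔ (t : G) ∈ M.O := by
  rw [proj, QuotientGroup.mk'_apply, QuotientGroup.eq_one_iff]
  exact ⟨fun h => ⟨t, h, rfl⟩, fun ⟨y, hy, e⟩ => Subtype.ext e ▸ hy⟩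

theorem O_le_T : M.O ≤ M.T := core_le _

theorem T_norm_O : M.T ≤ normalizer (M.O : Set G) := core_normalized _

theorem proj_inj_two {x y : ↥M.T} {P : Subgroup G} (hP : IsPGroup 2 ↥P) (hx : (x : G) ∈ P) (hy : (y : G) ∈ P)
    (h : M.proj x = M.proj y) : (x : G) = y := by
  have h1 : ((x⁻¹ * y : ↥M.T) : G) ∈ M.O := M.proj_eq_one.1 (by rw [map_mul, map_inv, h, inv_mul_cancel])
  rw [coe_mul, coe_inv] at h1
  exact inv_mul_eq_one.1 ((TwoEl.of_group hP (mul_mem (inv_mem hx) hy)).eq_one_of_odd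
    (odd_orderOf_of_mem (core_odd _) h1))

theorem mem_T {i : ℕ} (hi : i < 64) : M.el i ∈ M.T := M.S_le_T (M.mem i hi)

/-- The elements of `S` in the quotient. -/
noncomputable def barEl (i : ℕ) : ↥M.T ⧸ Cfsg.oddCore ↥M.T :=
  if h : i < 64 then M.proj ⟨M.el i, M.mem_T h⟩ else 1

theorem barEl_eq {i : ℕ} (hi : i < 64) : M.barEl i = M.proj ⟨M.el i, M.mem_T hi⟩ := dif_pos hi

/-- The model in the quotient. -/
noncomputable def bar [Fact (Nat.Prime 2)] : Model (↥M.T ⧸ Cfsg.oddCore ↥M.T) where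
  el := M.barEl
  S := (M.S.subtype M.S_le_T).mapSurjective M.proj_surj
  mem i hi := by
    rw [M.barEl_eq hi, Sylow.coe_mapSurjective]
    exact ⟨_, M.mem i hi, rfl⟩
  surj x hx := by
    rw [Sylow.coe_mapSurjective] at hx
    obtain ⟨y, hy, rfl⟩ := hx
    obtain ⟨i, hi, e⟩ := M.surj (y : G) hy
    exact ⟨i, hi, by rw [M.barEl_eq hi]; exact congrArg M.proj (Subtype.ext e)⟩
  inj i hi j hj h := by
    rw [M.barEl_eq hi, M.barEl_eq hj] at h
    exact M.inj i hi j hj (M.proj_inj_two M.S.isPGroup' (M.mem i hi) (M.mem j hj) h)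
  hmul i hi j hj := by
    rw [M.barEl_eq hi, M.barEl_eq hj, M.barEl_eq (mul_lt i j), ← map_mul]
    exact congrArg M.proj (Subtype.ext (M.hmul i hi j hj))

variable [Fact (Nat.Prime 2)]

theorem proj_el {i : ℕ} (hi : i < 64) (t : ↥M.T) (ht : (t : G) = M.el i) : M.proj t = M.bar.el i :=
  (congrArg M.proj (Subtype.ext ht)).trans (M.barEl_eq hi).symm

theorem bar_top (hsol : Group.IsSolvable ↥M.T) : Top M.bar := by
  haveI := hsol
  refine ⟨Group.isSolvable_of_surjective M.proj_surj, PBasic.pPrimeCore_quotient_pPrimeCore 2 _, fun h => ?_⟩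
  obtain ⟨t, rfl⟩ := M.proj_surj h
  show M.proj t * M.barEl 4 = M.barEl 4 * M.proj t
  rw [M.barEl_eq (by norm_num), ← map_mul, ← map_mul]
  exact congrArg M.proj (Subtype.ext (mem_centralizer_singleton_iff.1 t.2))

theorem proj_mem_sub {p : ℕ → Bool} (hp : closedB p = true) (t : ↥M.T) :
    M.proj t ∈ M.bar.sub p ↔ (t : G) ∈ M.sub p ⊔ M.O := by
  rw [M.bar.mem_sub hp]
  constructor
  · rintro ⟨i, hi, hpi, e⟩
    have h1 : (((⟨M.el i, M.mem_T hi⟩ : ↥M.T)⁻¹ * t : ↥M.T) : G) ∈ M.O := M.proj_eq_one.1 (by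
      rw [map_mul, map_inv, ← e, ← M.proj_el hi ⟨M.el i, M.mem_T hi⟩ rfl, inv_mul_cancel])
    rw [coe_mul, coe_inv] at h1
    have := mul_mem (mem_sup_left (T := M.O) (M.el_mem_sub hi hpi)) (mem_sup_right h1)
    simpa using this
  · intro h
    rw [← SetLike.mem_coe, Subgroup.coe_mul_of_left_le_normalizer_right _ _
      (((M.sub_le p).trans M.S_le_T).trans M.T_norm_O)] at h
    obtain ⟨a, ha, o, ho, e⟩ := h
    obtain ⟨i, hi, hpi, rfl⟩ := (M.mem_sub hp).1 ha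
    refine ⟨i, hi, hpi, ?_⟩
    have ho' : M.proj ⟨o, M.O_le_T ho⟩ = 1 := M.proj_eq_one.2 ho
    rw [← M.proj_el hi ⟨M.el i, M.mem_T hi⟩ rfl, ← mul_one (M.proj _), ← ho', ← map_mul]
    exact congrArg M.proj (Subtype.ext e)

/-- Normalizing a subgroup of `S` modulo the odd core. -/
theorem conj_mem_sup {p : ℕ → Bool} (hp : closedB p = true) {t : ↥M.T}
    (h : M.proj t ∈ normalizer (M.bar.sub p : Set (↥M.T ⧸ Cfsg.oddCore ↥M.T))) :
    ∀ x ∈ M.sub p, (t : G) * x * (t : G)⁻¹ ∈ M.sub p ⊔ M.O := by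
  intro x hx
  have hxT : x ∈ M.T := ((M.sub_le p).trans M.S_le_T) hx
  refine (M.proj_mem_sub hp (t * ⟨x, hxT⟩ * t⁻¹)).1 ?_
  rw [map_mul, map_mul, map_inv]
  exact (mem_normalizer_iff.1 h _).1 ((M.proj_mem_sub hp ⟨x, hxT⟩).2 (mem_sup_left hx))

theorem le_normalizer_sup {p : ℕ → Bool} (hp : closedB p = true)
    (h : ∀ y, y ∈ normalizer (M.bar.sub p : Set (↥M.T ⧸ Cfsg.oddCore ↥M.T))) :
    M.T ≤ normalizer ((M.sub p ⊔ M.O : Subgroup G) : Set G) := by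
  intro t ht
  rw [← LEBasic.map_conj_eq_iff_mem_normalizer]
  refine eq_of_le_of_card_ge ?_ (LEBasic.card_map_conj _ _).ge
  rw [Subgroup.map_sup]
  refine sup_le ?_ ?_
  · rintro _ ⟨x, hx, rfl⟩
    exact M.conj_mem_sup hp (t := ⟨t, ht⟩) (h _) x hx
  · rw [LEBasic.map_conj_eq_iff_mem_normalizer.2 (M.T_norm_O ht)]
    exact le_sup_right

/-- Lifting a normalizing element of the quotient. -/
theorem lift_normalizer {p : ℕ → Bool} (hp : closedB p = true) (t : ↥M.T)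
    (h : M.proj t ∈ normalizer (M.bar.sub p : Set (↥M.T ⧸ Cfsg.oddCore ↥M.T))) :
    ∃ o ∈ M.O, ∃ n : ↥M.T, (n : G) ∈ normalizer (M.sub p : Set G) ∧ (t : G) = o * n ∧ M.proj n = M.proj t := by
  obtain ⟨o, ho, hn⟩ := exists_normalizing (core_odd M.T) (M.isPGroup_sub p) M.O_le_T
    ((M.sub_le p).trans M.S_le_T) M.T_norm_O t.2 (M.conj_mem_sup hp h)
  refine ⟨o⁻¹, inv_mem ho, ⟨o, M.O_le_T ho⟩ * t, hn, by simp, ?_⟩
  rw [map_mul, M.proj_eq_one (t := ⟨o, M.O_le_T ho⟩) |>.2 ho, one_mul]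

theorem normalizer_proj {n : ↥M.T} (hn : (n : G) ∈ normalizer (M.A : Set G)) :
    M.proj n ∈ normalizer (M.bar.A : Set (↥M.T ⧸ Cfsg.oddCore ↥M.T)) := by
  rw [← LEBasic.map_conj_eq_iff_mem_normalizer]
  refine eq_of_le_of_card_ge ?_ (LEBasic.card_map_conj _ _).ge
  rintro _ ⟨x, hx, rfl⟩
  obtain ⟨i, hi, hiA, rfl⟩ := M.bar.mem_A.1 hx
  obtain ⟨j, hj, hjA, e⟩ := M.mem_A.1 ((mem_normalizer_iff.1 hn _).1 (M.el_mem_sub hi hiA : M.el i ∈ M.A))
  refine M.bar.mem_A.2 ⟨j, hj, hjA, ?_⟩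
  show M.bar.el j = M.proj n * M.bar.el i * (M.proj n)⁻¹
  rw [← M.proj_el hi ⟨M.el i, M.mem_T hi⟩ rfl, ← map_inv, ← map_mul, ← map_mul]
  exact (M.proj_el hj _ e.symm).symm

/-- Exact lifting of a conjugation between involutions. -/
theorem lift_conj {i j : ℕ} (hi : i < 64) (hj : j < 64) (hi2 : mul i i = 0) (hj2 : mul j j = 0)
    (h : ∃ y : ↥M.T ⧸ Cfsg.oddCore ↥M.T, y * M.bar.el i * y⁻¹ = M.bar.el j) :
    ∃ t ∈ M.T, t * M.el i * t⁻¹ = M.el j := by
  obtain ⟨y, hy⟩ := h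
  obtain ⟨t, rfl⟩ := M.proj_surj y
  have h1 : (((⟨M.el j, M.mem_T hj⟩ : ↥M.T) * (t * ⟨M.el i, M.mem_T hi⟩ * t⁻¹) : ↥M.T) : G) ∈ M.O := by
    refine M.proj_eq_one.1 ?_
    rw [map_mul, map_mul, map_mul, map_inv, M.proj_el hi ⟨M.el i, M.mem_T hi⟩ rfl,
      M.proj_el hj ⟨M.el j, M.mem_T hj⟩ rfl, hy, M.bar.el_sq hj]
    exact hj2
  rw [coe_mul, coe_mul, coe_mul, coe_inv] at h1
  obtain ⟨e, he, hee⟩ := conj_of_congr (core_odd M.T) ((M.el_sq hj).2 hj2)
    (by rw [show (t : G) * M.el i * (t : G)⁻¹ * ((t : G) * M.el i * (t : G)⁻¹) =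
      (t : G) * (M.el i * M.el i) * (t : G)⁻¹ by group, (M.el_sq hi).2 hi2]; simp) h1
  exact ⟨e * t, mul_mem (M.O_le_T he) t.2, by rw [← hee]; group⟩

theorem card_T_bar : Nat.card ↥M.T = Nat.card ↥M.O * Nat.card (↥M.T ⧸ Cfsg.oddCore ↥M.T) := by
  rw [Subgroup.card_eq_card_quotient_mul_card_subgroup (Cfsg.oddCore ↥M.T), mul_comm]
  congr 1
  exact Nat.card_congr ((Cfsg.oddCore ↥M.T).equivMapOfInjective _ M.T.subtype_injective).toEquiv

/-- The common facts. -/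
theorem tfacts (hsol : Group.IsSolvable ↥M.T) (Y : QShape M.bar) : TFacts M := by
  refine ⟨hsol, fun t ht => ?_, fun i hi h1 h2 h3 h4 x hx ho hc => ?_, fun u hu P hP hPT hPU => ?_,
    fun u hu i hi hiu h0 h4 => ?_⟩
  · obtain ⟨o, ho, n, hn, e, -⟩ := M.lift_normalizer closed_Q ⟨t, ht⟩ (Y.norm _)
    exact ⟨o, ho, n, n.2, hn, e⟩
  · refine (M.proj_eq_one (t := ⟨x, hx⟩)).1 (Y.small i hi h1 h2 h3 h4 _ ?_ ?_)
    · exact ho.of_dvd_nat ((orderOf_map_dvd M.proj _).trans (by rw [Subgroup.orderOf_mk]))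
    · rw [← M.proj_el hi ⟨M.el i, M.mem_T hi⟩ rfl, ← map_mul, ← map_mul]
      exact congrArg M.proj (Subtype.ext hc)
  · have key : ∀ x : ↥P, ∃ i < 64, inU u i = true ∧ M.bar.el i = M.proj ⟨x, hPT x.2⟩ := fun x => by
      refine (M.bar.mem_U hu).1 (Y.centU u hu (mem_centralizer_iff.2 fun y hy => ?_))
      obtain ⟨i, hi, hiu, rfl⟩ := (M.bar.mem_U hu).1 hy
      rw [← M.proj_el hi ⟨M.el i, M.mem_T hi⟩ rfl, ← map_mul, ← map_mul]
      exact congrArg M.proj (Subtype.ext (mem_centralizer_iff.1 (hPU x.2) _ (M.el_mem_sub hi hiu)))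
    choose f hf hfu hfe using key
    refine (Nat.card_le_card_of_injective (fun x => (⟨M.el (f x), M.el_mem_sub (hf x) (hfu x)⟩ : ↥(M.U u)))
      fun x y e => ?_).trans (M.card_U hu).le
    refine Subtype.ext (M.proj_inj_two (x := ⟨x, hPT x.2⟩) (y := ⟨y, hPT y.2⟩) hP x.2 y.2 ?_)
    rw [← hfe, ← hfe, M.inj _ (hf x) _ (hf y) (congrArg Subtype.val e)]
  · have hd : (Us.all fun u => decide (pu u < 64) && mul (pu u) (pu u) == 0 &&
        all64 fun i => !inU u i || mul i i == 0) = true := by decide +kernel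
    have h := List.all_eq_true.1 hd u hu
    simp only [Bool.and_eq_true, decide_eq_true_eq, beq_iff_eq, all64_iff, Bool.or_eq_true,
      Bool.not_eq_true'] at h
    exact M.lift_conj hi h.1.1 ((h.2 i hi).resolve_left (by simp [hiu])) h.1.2 (Y.orbU u hu i hi hiu h0 h4)

/-- The action lifted. -/
theorem lift_acts {n : ↥M.T} (hn : (n : G) ∈ normalizer (M.A : Set G)) {p : ℕ}
    (h : M.bar.Acts (M.proj n) p) : M.Acts (n : G) p := by
  intro a ha
  obtain ⟨h1, h2⟩ := h a ha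
  refine ⟨h1, ?_⟩
  have hd : ∀ b < 16, 2 * b < 64 := fun b hb => by omega
  refine M.proj_inj_two (x := n * ⟨M.el (2 * a), M.mem_T (hd a ha)⟩ * n⁻¹)
    (y := ⟨M.el (2 * app p a), M.mem_T (hd _ h1)⟩) (M.isPGroup_sub inA)
    ((mem_normalizer_iff.1 hn _).1 (M.double_mem ha)) (M.double_mem h1) ?_
  rw [map_mul, map_mul, map_inv, M.proj_el (hd a ha) ⟨M.el (2 * a), M.mem_T (hd a ha)⟩ rfl,
    M.proj_el (hd _ h1) ⟨M.el (2 * app p a), M.mem_T (hd _ h1)⟩ rfl]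
  exact h2

/-- The three possible shapes. -/
theorem split (hsol : Group.IsSolvable ↥M.T) : CaseN M ∨ CaseS M ∨ CaseP M := by
  rcases (M.bar_top hsol).shape with hA | Y | Y
  · exact Or.inl ⟨hsol, M.le_normalizer_sup closed_A hA⟩
  · refine Or.inr (Or.inl ⟨M.tfacts hsol Y.toQShape, ?_, fun u hu =>
      M.le_normalizer_sup (closed_U hu) (Y.normU u hu), fun n hn => ?_⟩)
    · rw [M.card_T_bar, Y.card]
    · obtain ⟨i, hi, he⟩ := M.bar.surj _ (Y.stab (M.normalizer_proj (n := ⟨n, hn.1⟩) hn.2))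
      refine ⟨M.el i, M.mem i hi, fun a ha => ?_⟩
      obtain ⟨b, hb, hbA, rfl⟩ := M.mem_A.1 ha
      refine M.proj_inj_two
        (x := (⟨n, hn.1⟩ : ↥M.T) * (⟨M.el b, M.mem_T hb⟩ : ↥M.T) * (⟨n, hn.1⟩ : ↥M.T)⁻¹)
        (y := (⟨M.el i, M.mem_T hi⟩ : ↥M.T) * (⟨M.el b, M.mem_T hb⟩ : ↥M.T) * (⟨M.el i, M.mem_T hi⟩ : ↥M.T)⁻¹) (M.isPGroup_sub inA)
        ((mem_normalizer_iff.1 hn.2 _).1 ha) ((mem_normalizer_iff.1 (M.S_le_normalizer_A (M.mem i hi)) _).1 ha) ?_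
      rw [map_mul, map_mul, map_inv, map_mul, map_mul, map_inv, M.proj_el hi ⟨M.el i, M.mem_T hi⟩ rfl, he]
  · refine Or.inr (Or.inr ⟨M.tfacts hsol Y.toQShape, ?_, fun u hu => ?_, fun n hn => ?_, fun q hq => ?_⟩)
    · rw [M.card_T_bar, Y.card]
    · have hd : (Us.all fun u => decide (pu u < 64) && mul (pu u) (pu u) == 0) = true := by decide +kernel
      have h := List.all_eq_true.1 hd u hu
      simp only [Bool.and_eq_true, decide_eq_true_eq, beq_iff_eq] at h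
      exact M.lift_conj h.1 (by norm_num) h.2 (by decide) (Y.orbP u hu)
    · obtain ⟨p, hp, hpa⟩ := Y.stab _ (M.normalizer_proj (n := ⟨n, hn.1⟩) hn.2)
      exact ⟨p, hp, M.lift_acts (n := ⟨n, hn.1⟩) hn.2 hpa⟩
    · obtain ⟨y, hy, hya⟩ := Y.real q hq
      obtain ⟨t, rfl⟩ := M.proj_surj y
      obtain ⟨-, -, n, hn, -, he⟩ := M.lift_normalizer closed_A t hy
      exact ⟨n, ⟨n.2, hn⟩, M.lift_acts hn (by rw [he]; exact hya)⟩

end Model

end Cfsg.Agent.A8Rec
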