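import Mathlib.GroupTheory.Sylow
import Mathlib.GroupTheory.SpecificGroups.Alternating

/-!
The Sylow 2-subgroups of the alternating group of degree eight: the unitriangular group of degree
four over two elements, on the indices below 64 with bits 1, 2, 4, 8, 16, 32 for the entries
12, 13, 14, 23, 24, 34.
-/

set_option autoImplicit false
set_option maxRecDepth 20000

namespace Cfsg.Agent.A8Rec

/-- The `k`-th bit. -/
def bit (i k : ℕ) : ℕ := i / 2 ^ k % 2

/-- The product of two indices. -/
def mul (i j : ℕ) : ℕ :=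
  (bit i 0 + bit j 0) % 2 + 2 * ((bit i 1 + bit j 1 + bit i 0 * bit j 3) % 2) +
    4 * ((bit i 2 + bit j 2 + bit i 0 * bit j 4 + bit i 1 * bit j 5) % 2) + 8 * ((bit i 3 + bit j 3) % 2) +
    16 * ((bit i 4 + bit j 4 + bit i 3 * bit j 5) % 2) + 32 * ((bit i 5 + bit j 5) % 2)

/-- The inverse. -/
def inv (i : ℕ) : ℕ := mul i (mul i i)

/-- Conjugation: `cj s i = s * i * s⁻¹`. -/
def cj (s i : ℕ) : ℕ := mul (mul s i) (inv s)

/-- All indices below 64 satisfy a test. -/
def all64 (f : ℕ → Bool) : Bool := (List.range 64).all f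

/-- Some index below 64 satisfies a test. -/
def any64 (f : ℕ → Bool) : Bool := (List.range 64).any f

theorem all64_iff {f : ℕ → Bool} : all64 f = true ↔ ∀ i < 64, f i = true := by simp [all64]

theorem any64_iff {f : ℕ → Bool} : any64 f = true ↔ ∃ i < 64, f i = true := by simp [any64]

/-- The elementary abelian subgroup of order 16. -/
def inA (i : ℕ) : Bool := bit i 0 == 0 && bit i 5 == 0

/-- The extraspecial subgroup of order 32. -/
def inQ (i : ℕ) : Bool := bit i 3 == 0

/-- The three normal subgroups of order 8 in the extraspecial one, labelled by 1, 32, 33. -/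
def inU (u i : ℕ) : Bool :=
  if u == 1 then i % 8 == i else if u == 32 then [0, 4, 16, 20, 32, 36, 48, 52].contains i
  else [0, 4, 18, 22, 33, 37, 51, 55].contains i

/-- The element of `A` in the subgroup labelled by `u`. -/
def pu (u : ℕ) : ℕ := if u == 1 then 2 else if u == 32 then 16 else 18

/-- The labels. -/
def Us : List ℕ := [1, 32, 33]

theorem mul_lt (i j : ℕ) : mul i j < 64 := by
  unfold mul
  omega

theorem inv_lt (i : ℕ) : inv i < 64 := mul_lt _ _

theorem cj_lt (s i : ℕ) : cj s i < 64 := mul_lt _ _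

theorem mul_inv {i : ℕ} (hi : i < 64) : mul i (inv i) = 0 ∧ mul (inv i) i = 0 := by
  revert i
  decide +kernel

/-- An embedding in the alternating group of degree eight, packed in base eight. -/
def tab (i : ℕ) : ℕ := [
    16434824, 14599368, 14571144, 16405704, 14570689, 16406145, 16434369, 14599809,
    11789960, 9954504, 9926280, 11760840, 9925825, 11761281, 11789505, 9954945,
    11788826, 9953370, 9925146, 11759706, 9924691, 11760147, 11788371, 9953811,
    16433690, 14598234, 14570010, 16404570, 14569555, 16405011, 16433235, 14598675,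
    6852524, 5017068, 4988844, 6823404, 4988389, 6823845, 6852069, 5017509,
    2207660, 372204, 343980, 2178540, 343525, 2178981, 2207205, 372645,
    2206526, 371070, 342846, 2177406, 342391, 2177847, 2206071, 371511,
    6851390, 5015934, 4987710, 6822270, 4987255, 6822711, 6850935, 5016375].getD i 16434824

/-- The image of a point. -/
def pt (i k : ℕ) : Fin 8 := ⟨tab i / 8 ^ k % 8, Nat.mod_lt _ (by norm_num)⟩

theorem tab_mul : all64 (fun i => all64 fun j => (List.range 8).all fun k =>
    pt (mul i j) k == pt i (pt j k : ℕ)) = true := by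
  decide +kernel

theorem tab_zero : (List.range 8).all (fun k => (pt 0 k : ℕ) == k) = true := by
  decide +kernel

theorem pt_mul {i j : ℕ} (hi : i < 64) (hj : j < 64) (k : Fin 8) :
    pt i (pt j k : ℕ) = pt (mul i j) k := by
  have h := List.all_eq_true.1 (all64_iff.1 (all64_iff.1 tab_mul i hi) j hj) k (List.mem_range.2 k.2)
  exact (beq_iff_eq.1 h).symm

theorem pt_zero (k : Fin 8) : pt 0 k = k :=
  Fin.ext (beq_iff_eq.1 (List.all_eq_true.1 tab_zero k (List.mem_range.2 k.2)))

/-- The permutation of an index. -/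
def perm (i : ℕ) : Equiv.Perm (Fin 8) :=
  if h : i < 64 then
    { toFun := fun k => pt i k
      invFun := fun k => pt (inv i) k
      left_inv := fun k => by dsimp only; rw [pt_mul (inv_lt i) h, (mul_inv h).2, pt_zero]
      right_inv := fun k => by dsimp only; rw [pt_mul h (inv_lt i), (mul_inv h).1, pt_zero] }
  else 1

theorem perm_mul {i j : ℕ} (hi : i < 64) (hj : j < 64) : perm i * perm j = perm (mul i j) := by
  ext k
  simp only [perm, dif_pos hi, dif_pos hj, dif_pos (mul_lt i j), Equiv.Perm.mul_apply]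
  exact congrArg Fin.val (pt_mul hi hj k)

theorem perm_sign : ∀ i < 64, Equiv.Perm.sign (perm i) = 1 := by
  decide +kernel

theorem perm_inj : all64 (fun i => i == 0 || (List.range 8).any fun k => (pt i k : ℕ) != k) = true := by
  decide +kernel

/-- The indices as a subgroup of the alternating group of degree eight. -/
def emb : Subgroup (alternatingGroup (Fin 8)) where
  carrier := {x | ∃ i < 64, (x : Equiv.Perm (Fin 8)) = perm i}
  one_mem' := ⟨0, by norm_num, by
    ext k
    simp only [perm, dif_pos (show 0 < 64 by norm_num)]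
    exact (congrArg Fin.val (pt_zero k)).symm⟩
  mul_mem' := by
    rintro a b ⟨i, hi, ha⟩ ⟨j, hj, hb⟩
    exact ⟨_, mul_lt i j, by rw [Subgroup.coe_mul, ha, hb, perm_mul hi hj]⟩
  inv_mem' := by
    rintro a ⟨i, hi, ha⟩
    refine ⟨_, inv_lt i, ?_⟩
    rw [Subgroup.coe_inv, ha, inv_eq_iff_mul_eq_one, perm_mul hi (inv_lt i), (mul_inv hi).1]
    ext k
    simp only [perm, dif_pos (show 0 < 64 by norm_num)]
    exact congrArg Fin.val (pt_zero k)

/-- A Sylow 2-subgroup given on the indices. -/
structure Model (G : Type*) [Group G] where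
  el : ℕ → G
  S : Sylow 2 G
  mem : ∀ i, i < 64 → el i ∈ (S : Subgroup G)
  surj : ∀ x ∈ (S : Subgroup G), ∃ i < 64, el i = x
  inj : ∀ i < 64, ∀ j < 64, el i = el j → i = j
  hmul : ∀ i < 64, ∀ j < 64, el i * el j = el (mul i j)

theorem eq_of_mul_inv_aux : all64 (fun i => all64 fun j => mul i (inv j) != 0 || i == j) = true := by
  decide +kernel

theorem eq_of_mul_inv {i j : ℕ} (hi : i < 64) (hj : j < 64) (h : mul i (inv j) = 0) : i = j := by
  simpa [h] using all64_iff.1 (all64_iff.1 eq_of_mul_inv_aux i hi) j hj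

theorem emb_card : Nat.card emb = 64 := by
  have hf : ∀ i : Fin 64, (⟨perm i, Equiv.Perm.mem_alternatingGroup.2 (perm_sign i i.2)⟩ :
      alternatingGroup (Fin 8)) ∈ emb := fun i => ⟨i, i.2, rfl⟩
  rw [← Nat.card_fin 64]
  refine (Nat.card_eq_of_bijective (fun i : Fin 64 => (⟨_, hf i⟩ : emb)) ⟨fun i j h => ?_, ?_⟩).symm
  · have h' : perm i = perm j := congrArg (fun x : emb => ((x : alternatingGroup (Fin 8)) : Equiv.Perm (Fin 8))) h
    have h1 : perm (mul i (inv j)) = 1 := by
      rw [← perm_mul i.2 (inv_lt j), h', perm_mul j.2 (inv_lt j), (mul_inv j.2).1]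
      ext k
      simp only [perm, dif_pos (show 0 < 64 by norm_num)]
      exact congrArg Fin.val (pt_zero k)
    have h2 := all64_iff.1 perm_inj _ (mul_lt i (inv j))
    simp only [Bool.or_eq_true, beq_iff_eq, List.any_eq_true, List.mem_range, bne_iff_ne] at h2
    rcases h2 with h2 | ⟨k, hk, hne⟩
    · exact Fin.ext (eq_of_mul_inv i.2 j.2 h2)
    · have := congrArg (fun p : Equiv.Perm (Fin 8) => (p ⟨k, hk⟩ : ℕ)) h1
      simp only [perm, dif_pos (mul_lt i (inv j)), Equiv.Perm.coe_one, id] at this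
      exact absurd this hne
  · rintro ⟨⟨x, hx⟩, i, hi, h⟩
    exact ⟨⟨i, hi⟩, Subtype.ext (Subtype.ext h.symm)⟩

/-- A Sylow 2-subgroup of the type of the alternating group of degree eight has a model. -/
theorem exists_model {G : Type*} [Group G] [Finite G] (S : Sylow 2 G)
    (hS : ∀ P : Sylow 2 ↥(alternatingGroup (Fin 8)),
      Nonempty (↥(S : Subgroup G) ≃* ↥(P : Subgroup ↥(alternatingGroup (Fin 8))))) :
    ∃ M : Model G, M.S = S := by
  have : Fact (Nat.Prime 2) := ⟨Nat.prime_two⟩
  have hp : IsPGroup 2 emb := IsPGroup.of_card (n := 6) (by rw [emb_card]; norm_num)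
  obtain ⟨P, hP⟩ := hp.exists_le_sylow
  have h20160 : Nat.card (alternatingGroup (Fin 8)) = 20160 := by
    rw [nat_card_alternatingGroup]
    simp [Nat.factorial]
  have hcard : Nat.card (P : Subgroup (alternatingGroup (Fin 8))) = 64 := by
    rw [Sylow.card_eq_multiplicity, h20160]
    have h6 : Nat.factorization 20160 2 = 6 := by
      rw [show 20160 = 2 ^ 6 * 315 by norm_num, Nat.factorization_mul (pow_ne_zero _ two_ne_zero) (by norm_num),
        Nat.prime_two.factorization_pow, Finsupp.add_apply, Finsupp.single_eq_same,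
        Nat.factorization_eq_zero_of_not_dvd (show ¬ 2 ∣ 315 by norm_num)]
    rw [h6]
    norm_num
  have hPE : (P : Subgroup (alternatingGroup (Fin 8))) = emb :=
    (Subgroup.eq_of_le_of_card_ge hP (by rw [hcard, emb_card])).symm
  obtain ⟨e⟩ := hS P
  let f : ℕ → (P : Subgroup (alternatingGroup (Fin 8))) := fun i =>
    if h : i < 64 then ⟨⟨perm i, Equiv.Perm.mem_alternatingGroup.2 (perm_sign i h)⟩,
      hPE ▸ ⟨i, h, rfl⟩⟩ else 1
  have hf : ∀ i, (hi : i < 64) → ((f i : alternatingGroup (Fin 8)) : Equiv.Perm (Fin 8)) = perm i :=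
    fun i hi => by simp [f, dif_pos hi]
  refine ⟨⟨fun i => (e.symm (f i) : G), S, fun i _ => (e.symm (f i)).2, ?_, ?_, ?_⟩, rfl⟩
  · intro x hx
    obtain ⟨i, hi, h⟩ := (hPE ▸ (e ⟨x, hx⟩).2 :
      ((e ⟨x, hx⟩ : (P : Subgroup (alternatingGroup (Fin 8)))) : alternatingGroup (Fin 8)) ∈ emb)
    refine ⟨i, hi, ?_⟩
    have : f i = e ⟨x, hx⟩ := Subtype.ext (Subtype.ext (by rw [hf i hi, h]))
    simp [this]
  · intro i hi j hj h
    have h' : f i = f j := e.symm.injective (Subtype.ext h)
    have h2 := congrArg (fun y : (P : Subgroup (alternatingGroup (Fin 8))) =>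
      ((y : alternatingGroup (Fin 8)) : Equiv.Perm (Fin 8))) h'
    simp only [hf i hi, hf j hj] at h2
    have hb : (fun i : Fin 64 => (⟨⟨perm i, Equiv.Perm.mem_alternatingGroup.2 (perm_sign i i.2)⟩,
        ⟨i, i.2, rfl⟩⟩ : emb)).Bijective :=
      (Nat.bijective_iff_surjective_and_card _).2 ⟨by
        rintro ⟨⟨x, hx⟩, k, hk, h⟩
        exact ⟨⟨k, hk⟩, Subtype.ext (Subtype.ext h.symm)⟩, by rw [emb_card, Nat.card_fin]⟩
    exact congrArg Fin.val (hb.1 (a₁ := ⟨i, hi⟩) (a₂ := ⟨j, hj⟩) (Subtype.ext (Subtype.ext h2)))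
  · intro i hi j hj
    rw [← Subgroup.coe_mul, ← map_mul]
    congr 2
    apply Subtype.ext
    apply Subtype.ext
    rw [Subgroup.coe_mul, Subgroup.coe_mul, hf i hi, hf j hj, hf _ (mul_lt i j), perm_mul hi hj]

end Cfsg.Agent.A8Rec
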