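import Cfsg.Agent.Lib.A8Rec.Base

/-!
The normal subgroups of the model Sylow group, as bit masks, and a criterion for automorphisms of odd
order of such a subgroup to be trivial.
-/

set_option autoImplicit false
set_option maxRecDepth 20000
set_option linter.unusedSectionVars false

namespace Cfsg.Agent.A8Rec

open Subgroup ClosedAbelian

/-- Membership in a mask. -/
def tb (m i : ℕ) : Bool := Nat.testBit m i

/-- The indices of a mask. -/
def els (m : ℕ) : List ℕ := (List.range 64).filter (tb m)

/-- Adjoin the right translate by `c`. -/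
def addC (cur c : ℕ) : ℕ := (els cur).foldl (fun acc a => acc ||| 2 ^ mul a c) cur

/-- Adjoin a new element. -/
def step (cur c : ℕ) : ℕ := if tb cur c then cur else addC (addC (addC cur c) c) c

/-- The class of an index. -/
def clsL (k : ℕ) : List ℕ := (List.range 64).map fun s => cj s k

/-- Adjoin a class. -/
def reach (m k : ℕ) : ℕ := (clsL k).foldl step ((clsL k).foldl step m)

/-- The masks of the normal subgroups. -/
def normals : List ℕ :=
  [1, 17, 85, 255, 1114129, 4456465, 5570645, 11141205, 16711935, 1431655765, 2857740885, 4294967295, 4785147619639313, 9570733328171025, 19140590475214865, 23925738098196565, 38280742865993745, 47851476190822485, 71777214294589695, 6124988951717806165, 6148914691236517205, 6172840430755228245, 12249977903430041685, 12273903644374837845, 12297829381041378645, 18374966855153418495, 18446744073709551615]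

theorem normals_normal : (normals.all fun m => all64 fun s => all64 fun i => !tb m i || tb m (cj s i)) = true := by
  decide +kernel

theorem normals_reach : (normals.all fun m => all64 fun k =>
    tb m k || any64 (fun s => decide (cj s k < k)) || normals.contains (reach m k)) = true := by
  decide +kernel

theorem cj_back : (all64 fun s => all64 fun i => cj (inv s) (cj s i) == i) = true := by decide +kernel

theorem triv_ops : (all64 fun c => mul 0 c == c && cj 0 c == c) = true := by decide +kernel

theorem mem_els {m i : ℕ} : i ∈ els m ↔ i < 64 ∧ tb m i = true := by simp [els]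

theorem mem_or {m i j : ℕ} : tb (m ||| 2 ^ j) i = true ↔ tb m i = true ∨ i = j := by
  simp only [tb, Nat.testBit_or, Nat.testBit_two_pow, Bool.or_eq_true, decide_eq_true_eq]
  exact or_congr_right eq_comm

/-- Every closed normal set of indices is one of the masks. -/
theorem exists_mask {p : ℕ → Bool} (h0 : p 0 = true)
    (hmul : ∀ i < 64, ∀ j < 64, p i = true → p j = true → p (mul i j) = true)
    (hcj : ∀ s < 64, ∀ i < 64, p i = true → p (cj s i) = true) :
    ∃ m ∈ normals, ∀ i < 64, tb m i = p i := by
  have hsub_add : ∀ {cur c : ℕ}, c < 64 → p c = true → (∀ i < 64, tb cur i = true → p i = true) →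
      ∀ i < 64, tb (addC cur c) i = true → p i = true := by
    intro cur c hc hpc hcur
    suffices ∀ l : List ℕ, (∀ a ∈ l, a < 64 ∧ tb cur a = true) → ∀ acc : ℕ,
        (∀ i < 64, tb acc i = true → p i = true) →
        ∀ i < 64, tb (l.foldl (fun acc a => acc ||| 2 ^ mul a c) acc) i = true → p i = true from
      this _ (fun a ha => mem_els.1 ha) _ hcur
    intro l hl
    induction l with
    | nil => exact fun acc hacc => hacc
    | cons a l ih =>
      intro acc hacc
      refine ih (fun b hb => hl b (List.mem_cons_of_mem _ hb)) _ fun i hi h => ?_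
      rcases mem_or.1 h with h | rfl
      · exact hacc i hi h
      · obtain ⟨ha, hma⟩ := hl a List.mem_cons_self
        exact hmul a ha c hc (hcur a ha hma) hpc
  have hsub_fold : ∀ (l : List ℕ), (∀ c ∈ l, c < 64 ∧ p c = true) → ∀ acc : ℕ,
      (∀ i < 64, tb acc i = true → p i = true) → ∀ i < 64, tb (l.foldl step acc) i = true → p i = true := by
    intro l hl
    induction l with
    | nil => exact fun acc hacc => hacc
    | cons c l ih =>
      intro acc hacc
      refine ih (fun b hb => hl b (List.mem_cons_of_mem _ hb)) _ ?_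
      obtain ⟨hc, hpc⟩ := hl c List.mem_cons_self
      unfold step
      split
      · exact hacc
      · exact hsub_add hc hpc (hsub_add hc hpc (hsub_add hc hpc hacc))
  have hmono_add : ∀ {cur c i : ℕ}, tb cur i = true → tb (addC cur c) i = true := by
    intro cur c i h
    unfold addC
    generalize els cur = l
    suffices ∀ acc, tb acc i = true → tb (l.foldl (fun acc a => acc ||| 2 ^ mul a c) acc) i = true from
      this cur h
    induction l with
    | nil => exact fun acc h => h
    | cons a l ih => exact fun acc h => ih _ (mem_or.2 (Or.inl h))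
  have hmono : ∀ (l : List ℕ) {cur i : ℕ}, tb cur i = true → tb (l.foldl step cur) i = true := by
    intro l
    induction l with
    | nil => exact fun h => h
    | cons c l ih =>
      intro cur i h
      refine ih ?_
      unfold step
      split
      · exact h
      · exact hmono_add (hmono_add (hmono_add h))
  have hin : ∀ (l : List ℕ) {cur c : ℕ}, tb cur 0 = true → c < 64 → c ∈ l →
      tb (l.foldl step cur) c = true := by
    intro l
    induction l with
    | nil => exact fun _ _ h => absurd h List.not_mem_nil
    | cons d l ih =>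
      intro cur c h0' hc hcl
      rcases List.mem_cons.1 hcl with rfl | hcl
      · refine hmono l ?_
        unfold step
        split
        · assumption
        · refine hmono_add (hmono_add ?_)
          unfold addC
          have h00 : 0 ∈ els cur := mem_els.2 ⟨by norm_num, h0'⟩
          generalize els cur = l' at h00
          suffices ∀ acc, tb (l'.foldl (fun acc a => acc ||| 2 ^ mul a c) acc) c = true from this cur
          intro acc
          induction l' generalizing acc with
          | nil => exact absurd h00 List.not_mem_nil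
          | cons a l' ih' =>
            rcases List.mem_cons.1 h00 with rfl | h00
            · rw [List.foldl_cons]
              have hz : mul 0 c = c := by
                have := all64_iff.1 triv_ops c hc
                simp only [Bool.and_eq_true, beq_iff_eq] at this
                exact this.1
              generalize hb : acc ||| 2 ^ mul 0 c = b
              have hb' : tb b c = true := hb ▸ mem_or.2 (Or.inr hz.symm)
              clear hb ih' h00
              induction l' generalizing b with
              | nil => exact hb'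
              | cons a l' ih'' => exact ih'' _ (mem_or.2 (Or.inl hb'))
            · exact ih' h00 _
      · refine ih ?_ hc hcl
        unfold step
        split
        · exact h0'
        · exact hmono_add (hmono_add (hmono_add h0'))
  have main : ∀ k ≤ 64, ∃ m ∈ normals, (∀ i < 64, tb m i = true → p i = true) ∧
      ∀ i < k, p i = true → tb m i = true := by
    intro k
    induction k with
    | zero =>
      refine fun _ => ⟨1, by decide, fun i _ hm => ?_, fun i hi => absurd hi (Nat.not_lt_zero i)⟩
      have : i = 0 := by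
        by_contra hne
        simp [tb, Nat.testBit_one_eq_true_iff_self_eq_zero, hne] at hm
      exact this ▸ h0
    | succ k ih =>
      intro hk
      obtain ⟨m, hm, hsub, hall⟩ := ih (by omega)
      have hk64 : k < 64 := by omega
      by_cases hpk : p k = true
      swap
      · exact ⟨m, hm, hsub, fun i hi hp => hall i (by
          rcases Nat.lt_succ_iff_lt_or_eq.1 hi with h | h
          · exact h
          · exact absurd (h ▸ hp) hpk) hp⟩
      have hr := all64_iff.1 (List.all_eq_true.1 normals_reach m hm) k hk64
      simp only [Bool.or_eq_true, any64_iff, decide_eq_true_eq, List.contains_iff_mem] at hr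
      rcases hr with (hmk | ⟨s, hs, hlt⟩) | hr
      · exact ⟨m, hm, hsub, fun i hi hp => by
          rcases Nat.lt_succ_iff_lt_or_eq.1 hi with h | h
          · exact hall i h hp
          · exact h ▸ hmk⟩
      · refine ⟨m, hm, hsub, fun i hi hp => ?_⟩
        rcases Nat.lt_succ_iff_lt_or_eq.1 hi with h | h
        · exact hall i h hp
        · have h1 := hall _ hlt (hcj s hs k hk64 hpk)
          have h2 := all64_iff.1 (all64_iff.1 (List.all_eq_true.1 normals_normal m hm) _ (inv_lt s)) _ (cj_lt s k)
          rw [h1, beq_iff_eq.1 (all64_iff.1 (all64_iff.1 cj_back s hs) k hk64)] at h2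
          simpa [h] using h2
      · have hcl : ∀ c ∈ clsL k, c < 64 ∧ p c = true := by
          intro c hc
          simp only [clsL, List.mem_map, List.mem_range] at hc
          obtain ⟨s, hs, rfl⟩ := hc
          exact ⟨cj_lt s k, hcj s hs k hk64 hpk⟩
        refine ⟨reach m k, hr, hsub_fold _ hcl _ (hsub_fold _ hcl _ hsub), fun i hi hp => ?_⟩
        rcases Nat.lt_succ_iff_lt_or_eq.1 hi with h | h
        · exact hmono _ (hmono _ (hall i h hp))
        · rw [h]
          refine hmono _ (hin _ ?_ hk64 ?_)
          · exact (by decide +kernel : ∀ m ∈ normals, tb m 0 = true) m hm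
          · simp only [clsL, List.mem_map, List.mem_range]
            refine ⟨0, by norm_num, ?_⟩
            have := all64_iff.1 triv_ops k hk64
            simp only [Bool.and_eq_true, beq_iff_eq] at this
            exact this.2
  obtain ⟨m, hm, hsub, hall⟩ := main 64 le_rfl
  exact ⟨m, hm, fun i hi => Bool.eq_iff_iff.2 ⟨hsub i hi, hall i hi⟩⟩

/-- An invariant of the elements of a mask. -/
def key (m i : ℕ) : Bool × ℕ × ℕ :=
  (mul i i == 0, ((els m).filter fun j => mul i j == mul j i).length,
    ((els m).filter fun j => mul j j == i).length)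

/-- The elements with the same invariant. -/
def sameKey (m i : ℕ) : List ℕ := (els m).filter fun j => key m j == key m i

/-- The unfixed elements with the same invariant. -/
def outside (m : ℕ) (F : List ℕ) (i : ℕ) : List ℕ := (sameKey m i).filter fun j => decide (j ∉ F)

/-- Elements fixed when those of `F` are. -/
def grow (m : ℕ) (F : List ℕ) : List ℕ :=
  (els m).filter fun i => F.contains i || decide ((outside m F i).length ≤ 2) ||
    (outside m F i).all fun j => F.any fun f => mul i f == j

/-- Products of two elements. -/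
def prods (m : ℕ) (F : List ℕ) : List ℕ := (els m).filter fun i => F.any fun a => F.any fun b => mul a b == i

/-- Automorphisms of odd order of such a subgroup are trivial. -/
def rigid (m : ℕ) : Bool :=
  let r := fun F => prods m (prods m (grow m F))
  (els m).all fun i => (r (r (r [0]))).contains i

namespace Model

variable {G : Type*} [Group G] [Finite G] (M : Model G)

/-- An element of odd order normalising a rigid subgroup centralises it. -/
theorem rigid_cent {m : ℕ} (hm : rigid m = true) {g : G} (hodd : Odd (orderOf g))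
    (hn : ∀ x, (∃ i < 64, tb m i = true ∧ M.el i = x) ↔ ∃ i < 64, tb m i = true ∧ M.el i = g * x * g⁻¹) :
    ∀ i < 64, tb m i = true → g * M.el i * g⁻¹ = M.el i := by
  classical
  have hσ : ∀ i < 64, tb m i = true → ∃ j < 64, tb m j = true ∧ M.el j = g * M.el i * g⁻¹ :=
    fun i hi hmi => (hn _).1 ⟨i, hi, hmi, rfl⟩
  have hcount : ∀ (P P' : ℕ → Bool), (∀ i < 64, tb m i = true → ∀ j < 64, tb m j = true →
      M.el j = g * M.el i * g⁻¹ → P i = P' j) → ((els m).filter P).length = ((els m).filter P').length := by
    intro P P' hPP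
    have hnd : (els m).Nodup := List.nodup_range.filter _
    rw [← List.toFinset_card_of_nodup (hnd.filter P), ← List.toFinset_card_of_nodup (hnd.filter P')]
    refine Finset.card_bij
      (fun i hi => (hσ i (mem_els.1 (List.mem_filter.1 (List.mem_toFinset.1 hi)).1).1
        (mem_els.1 (List.mem_filter.1 (List.mem_toFinset.1 hi)).1).2).choose) ?_ ?_ ?_
    · intro i hi
      obtain ⟨h1, h2⟩ := List.mem_filter.1 (List.mem_toFinset.1 hi)
      obtain ⟨hi64, hmi⟩ := mem_els.1 h1
      have hj := (hσ i hi64 hmi).choose_spec
      exact List.mem_toFinset.2 (List.mem_filter.2 ⟨mem_els.2 ⟨hj.1, hj.2.1⟩,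
        (hPP i hi64 hmi _ hj.1 hj.2.1 hj.2.2) ▸ h2⟩)
    · intro i hi j hj h
      obtain ⟨hi64, hmi⟩ := mem_els.1 (List.mem_filter.1 (List.mem_toFinset.1 hi)).1
      obtain ⟨hj64, hmj⟩ := mem_els.1 (List.mem_filter.1 (List.mem_toFinset.1 hj)).1
      refine M.inj i hi64 j hj64 (mul_left_cancel (a := g) (mul_right_cancel (b := g⁻¹) ?_))
      rw [← (hσ i hi64 hmi).choose_spec.2.2, ← (hσ j hj64 hmj).choose_spec.2.2]
      exact congrArg M.el h
    · intro j hj
      obtain ⟨h1, h2⟩ := List.mem_filter.1 (List.mem_toFinset.1 hj)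
      obtain ⟨hj64, hmj⟩ := mem_els.1 h1
      obtain ⟨i, hi64, hmi, he⟩ := (hn (g⁻¹ * M.el j * g)).2 ⟨j, hj64, hmj, by group⟩
      have hje : M.el j = g * M.el i * g⁻¹ := by rw [he]; group
      refine ⟨i, List.mem_toFinset.2 (List.mem_filter.2 ⟨mem_els.2 ⟨hi64, hmi⟩,
        (hPP i hi64 hmi j hj64 hmj hje) ▸ h2⟩), ?_⟩
      have hc := (hσ i hi64 hmi).choose_spec
      exact M.inj _ hc.1 j hj64 (hc.2.2.trans hje.symm)
  have hkey : ∀ i < 64, tb m i = true → ∀ j < 64, tb m j = true → M.el j = g * M.el i * g⁻¹ →
      key m j = key m i := by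
    intro i hi _ j hj _ he
    have hc : ∀ a < 64, ∀ b < 64, ∀ a' < 64, ∀ b' < 64, M.el a' = g * M.el a * g⁻¹ →
        M.el b' = g * M.el b * g⁻¹ → (mul a b = mul b a ↔ mul a' b' = mul b' a') := by
      intro a ha b hb a' ha' b' hb' ea eb
      rw [← M.el_comm ha hb, ← M.el_comm ha' hb', ea, eb]
      constructor
      · intro h
        calc g * M.el a * g⁻¹ * (g * M.el b * g⁻¹) = g * (M.el a * M.el b) * g⁻¹ := by group
          _ = g * (M.el b * M.el a) * g⁻¹ := by rw [h]
          _ = _ := by group
      · intro h
        calc M.el a * M.el b = g⁻¹ * (g * M.el a * g⁻¹ * (g * M.el b * g⁻¹)) * g := by group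
          _ = g⁻¹ * (g * M.el b * g⁻¹ * (g * M.el a * g⁻¹)) * g := by rw [h]
          _ = _ := by group
    have hs : ∀ a < 64, ∀ b < 64, ∀ a' < 64, ∀ b' < 64, M.el a' = g * M.el a * g⁻¹ →
        M.el b' = g * M.el b * g⁻¹ → (mul a a = b ↔ mul a' a' = b') := by
      intro a ha b hb a' ha' b' hb' ea eb
      rw [← M.el_eq_iff (mul_lt a a) hb, ← M.el_eq_iff (mul_lt a' a') hb', ← M.hmul a ha a ha,
        ← M.hmul a' ha' a' ha', ea, eb, show g * M.el a * g⁻¹ * (g * M.el a * g⁻¹) =
          g * (M.el a * M.el a) * g⁻¹ by group, mul_left_inj, mul_right_inj]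
    simp only [key, Prod.mk.injEq]
    refine ⟨?_, (hcount _ _ fun a ha _ b hb _ hab => ?_).symm, (hcount _ _ fun a ha _ b hb _ hab => ?_).symm⟩
    · rw [Bool.eq_iff_iff, beq_iff_eq, beq_iff_eq]
      exact (hs i hi 0 (by norm_num) j hj 0 (by norm_num) he (by simp [M.el_zero])).symm
    · rw [Bool.eq_iff_iff, beq_iff_eq, beq_iff_eq]
      exact hc i hi a ha j hj b hb he hab
    · rw [Bool.eq_iff_iff, beq_iff_eq, beq_iff_eq]
      exact hs a ha i hi b hb j hj hab he
  have hprod : ∀ F : List ℕ, (∀ f ∈ F, f < 64 ∧ g * M.el f * g⁻¹ = M.el f) →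
      ∀ f ∈ prods m F, f < 64 ∧ g * M.el f * g⁻¹ = M.el f := by
    intro F hF f hf
    simp only [prods, List.mem_filter, List.any_eq_true, beq_iff_eq] at hf
    obtain ⟨-, a, ha, b, hb, rfl⟩ := hf
    refine ⟨mul_lt a b, ?_⟩
    rw [← M.hmul a (hF a ha).1 b (hF b hb).1, show g * (M.el a * M.el b) * g⁻¹ =
      g * M.el a * g⁻¹ * (g * M.el b * g⁻¹) by group, (hF a ha).2, (hF b hb).2]
  have hgrow : ∀ F : List ℕ, (∀ f ∈ F, f < 64 ∧ g * M.el f * g⁻¹ = M.el f) →
      ∀ f ∈ grow m F, f < 64 ∧ g * M.el f * g⁻¹ = M.el f := by
    intro F hF i hf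
    simp only [grow, List.mem_filter, mem_els, Bool.or_eq_true, decide_eq_true_eq, List.all_eq_true,
      List.any_eq_true, beq_iff_eq, List.contains_iff_mem, or_assoc] at hf
    obtain ⟨⟨hi, hmi⟩, hF' | hf⟩ := hf
    · exact hF i hF'
    refine ⟨hi, ?_⟩
    by_cases hiF : i ∈ F
    · exact (hF i hiF).2
    obtain ⟨j, hj, hmj, he⟩ := hσ i hi hmi
    have hout : ∀ {a b : ℕ}, a < 64 → b < 64 → M.el b = g * M.el a * g⁻¹ → a ∉ F → b ∉ F := by
      intro a b ha hb hab haF hbF
      refine haF ?_
      have h := (hF b hbF).2
      rw [show a = b from M.inj a ha b hb (mul_left_cancel (a := g) (mul_right_cancel (b := g⁻¹)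
        (by rw [← hab, h])))]
      exact hbF
    have hjF : j ∉ F := hout hi hj he hiF
    have hjs' : j ∈ sameKey m i := List.mem_filter.2 ⟨mem_els.2 ⟨hj, hmj⟩, beq_iff_eq.2 (hkey i hi hmi j hj hmj he)⟩
    have hjs : j ∈ sameKey m i ∧ ¬ j ∈ F := ⟨hjs', hjF⟩
    rcases hf with hf | hf
    · obtain ⟨k, hk, hmk, he'⟩ := hσ j hj hmj
      have hks : k ∈ sameKey m i ∧ ¬ k ∈ F := ⟨List.mem_filter.2 ⟨mem_els.2 ⟨hk, hmk⟩,
        beq_iff_eq.2 ((hkey j hj hmj k hk hmk he').trans (hkey i hi hmi j hj hmj he))⟩, hout hj hk he' hjF⟩
      have his : i ∈ sameKey m i ∧ ¬ i ∈ F := ⟨List.mem_filter.2 ⟨mem_els.2 ⟨hi, hmi⟩, beq_self_eq_true _⟩, hiF⟩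
      have h3 : i = j ∨ i = k ∨ j = k := by
        by_contra hne
        simp only [not_or] at hne
        have hnd : [i, j, k].Nodup := by simp [hne.1, hne.2.1, hne.2.2]
        have := (hnd.subperm (l₂ := outside m F i)
          (by simp [outside, his, hjs, hks])).length_le
        simp at this
        omega
      have hback : ∀ {a b : G}, g * a * g⁻¹ = g * b * g⁻¹ → a = b := fun h =>
        mul_left_cancel (a := g) (mul_right_cancel (b := g⁻¹) h)
      rcases h3 with h | h | h
      · rw [← he, ← h]
      · have hg2 : g * g ∈ centralizer ({M.el i} : Set G) := mem_centralizer_singleton_iff.2 (by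
          have h2 : g * (g * M.el i * g⁻¹) * g⁻¹ = M.el i := by rw [← he, ← he', ← h]
          calc g * g * M.el i = g * (g * M.el i * g⁻¹) * g⁻¹ * (g * g) := by group
            _ = _ := by rw [h2])
        exact mul_inv_eq_iff_eq_mul.2 (mem_centralizer_singleton_iff.1 (mem_of_sq_mem hg2 hodd))
      · rw [← h] at he'
        rw [← he]
        exact hback (he'.symm.trans he)
    · obtain ⟨f, hfF, hif⟩ := hf j (List.mem_filter.2 ⟨hjs.1, decide_eq_true hjs.2⟩)
      obtain ⟨hf64, hfix⟩ := hF f hfF
      rw [← hif, ← M.hmul i hi f hf64] at he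
      have hpow : ∀ n : ℕ, g ^ n * M.el i * (g ^ n)⁻¹ = M.el i * M.el f ^ n := by
        intro n
        induction n with
        | zero => simp
        | succ n ih =>
          rw [pow_succ', show g * g ^ n * M.el i * (g * g ^ n)⁻¹ = g * (g ^ n * M.el i * (g ^ n)⁻¹) * g⁻¹ by
            group, ih, show g * (M.el i * M.el f ^ n) * g⁻¹ =
            g * M.el i * g⁻¹ * (g * M.el f ^ n * g⁻¹) by group, ← he, ← conj_pow, hfix, mul_assoc, ← pow_succ']
      have h1 := hpow (orderOf g)
      rw [pow_orderOf_eq_one, one_mul, inv_one, mul_one, left_eq_mul] at h1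
      have h2 : orderOf (M.el f) = 1 := by
        obtain ⟨k, hk⟩ := IsPGroup.iff_orderOf.1 M.S.isPGroup' ⟨_, M.mem f hf64⟩
        rw [orderOf_mk] at hk
        exact Nat.eq_one_of_dvd_coprimes
          (a := 2 ^ k) (b := orderOf g) ((Nat.coprime_two_left.2 hodd).pow_left k) (hk ▸ dvd_rfl)
          (orderOf_dvd_of_pow_eq_one h1)
      rw [← he, orderOf_eq_one_iff.1 h2, mul_one]
  have h0 : ∀ f ∈ [0], f < 64 ∧ g * M.el f * g⁻¹ = M.el f := by
    intro f hf
    rw [List.mem_singleton] at hf
    subst hf
    exact ⟨by norm_num, by simp [M.el_zero]⟩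
  intro i hi hmi
  simp only [rigid, List.all_eq_true, List.contains_iff_mem] at hm
  refine (?_ : ∀ f ∈ _, f < 64 ∧ g * M.el f * g⁻¹ = M.el f) i (hm i (mem_els.2 ⟨hi, hmi⟩)) |>.2
  exact hprod _ (hprod _ (hgrow _ (hprod _ (hprod _ (hgrow _ (hprod _ (hprod _ (hgrow _ h0))))))))

end Model

end Cfsg.Agent.A8Rec
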