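import Cfsg.Agent.Lib.A8Rec.Shape

/-!
The two shapes of the centralizer modulo its odd core when the extraspecial group is the 2-core.
-/

set_option autoImplicit false
set_option maxRecDepth 20000
set_option linter.unusedSectionVars false

namespace Cfsg.Agent.A8Rec

open Subgroup ClosedAbelian Linear

/-- The iterates of a map. -/
def it (p : ℕ) : ℕ → ℕ → ℕ
  | 0, a => a
  | n + 1, a => app p (it p n a)

/-- Noncentral involutions of `Q`. -/
def point (i : ℕ) : Bool := inQ i && mul i i == 0 && i != 0 && i != 4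

theorem point_facts : (all64 fun i => !point i || ((List.range 3).all fun k => (List.range 3).all fun l =>
    (!(inU (uk k) i && inU (uk l) i) || k == l) && (!(inV k i && inV l i) || k == l) &&
    (!(inU (uk k) i && inV l i) || all64 fun j => !(inU (uk k) j && inV l j) ||
      j == 0 || j == 4 || j == i || j == mul i 4))) = true := by
  decide +kernel

theorem point_pair {i : ℕ} (hi : i < 64) (hp : point i = true) {k l : ℕ} (hk : k < 3) (hl : l < 3) :
    (inU (uk k) i = true → inU (uk l) i = true → k = l) ∧ (inV k i = true → inV l i = true → k = l) ∧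
    (inU (uk k) i = true → inV l i = true → ∀ j < 64, inU (uk k) j = true → inV l j = true →
      j = 0 ∨ j = 4 ∨ j = i ∨ j = mul i 4) := by
  have h := all64_iff.1 point_facts i hi
  simp only [hp, Bool.not_true, Bool.false_or, List.all_eq_true, List.mem_range] at h
  have h' := h k hk l hl
  simp only [Bool.and_eq_true, Bool.or_eq_true, Bool.not_eq_true', Bool.and_eq_false_iff, beq_iff_eq,
    all64_iff] at h'
  refine ⟨fun a b => ?_, fun a b => ?_, fun a b j hj c d => ?_⟩
  · simpa [a, b] using h'.1.1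
  · simpa [a, b] using h'.1.2
  · simpa [a, b, c, d, or_assoc] using (h'.2.resolve_left (by simp [a, b])) j hj

theorem point_meet : ((List.range 3).all fun k => (List.range 3).all fun l =>
    any64 fun i => point i && inU (uk k) i && inV l i) = true := by
  decide +kernel

theorem point_gen : (all64 fun i => !inQ i || any64 fun a => (point a || a == 0 || a == 4) &&
    any64 fun b => (point b || b == 0 || b == 4) && mul a b == i) = true := by
  decide +kernel

theorem point_pu : ((List.range 3).all fun k => all64 fun i =>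
    !(point i && inU (uk k) i && inV 0 i) || any64 fun s => cj s i == pu (uk k)) = true := by
  decide +kernel

theorem uk_Us : (Us.all fun u => (List.range 3).any fun k => uk k == u) = true := by decide +kernel

theorem Us_uk : ((List.range 3).all fun k => Us.contains (uk k)) = true := by decide +kernel

theorem inV_zero : (all64 fun i => inV 0 i == (inA i && inQ i)) = true := by decide +kernel

theorem inU_props : (Us.all fun u => all64 fun i => !inU u i || (inQ i && mul i i == 0)) = true := by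
  decide +kernel

theorem perm_fix : ∀ σ : Equiv.Perm (Fin 3), Equiv.Perm.sign σ = 1 → ∀ j, σ j = j → σ = 1 := by decide

theorem perm_zero : ∀ σ : Equiv.Perm (Fin 3), σ 0 = 0 → σ = 1 ∨ σ = Equiv.swap 1 2 := by decide

theorem perm_gen : ∀ x : Equiv.Perm (Fin 3), x ≠ 1 → x ≠ Equiv.swap 1 2 → ∀ y : Equiv.Perm (Fin 3),
    y = 1 ∨ y = Equiv.swap 1 2 ∨ y = x ∨ y = x * x ∨ y = Equiv.swap 1 2 * x ∨ y = x * Equiv.swap 1 2 ∨
      y = Equiv.swap 1 2 * x * Equiv.swap 1 2 ∨ y = Equiv.swap 1 2 * x * x := by decide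

theorem perm_comm : ∀ x : Equiv.Perm (Fin 3), x ≠ 1 → x ≠ Equiv.swap 1 2 →
    Equiv.swap 1 2 * x * (Equiv.swap 1 2)⁻¹ * x⁻¹ ≠ 1 ∧
      Equiv.Perm.sign (Equiv.swap 1 2 * x * (Equiv.swap 1 2)⁻¹ * x⁻¹) = 1 := by decide

theorem perm_cancel : ∀ c : Equiv.Perm (Fin 3), c ≠ 1 → Equiv.Perm.sign c = 1 → ∀ b : Equiv.Perm (Fin 3),
    b = 1 ∨ b * c = 1 ∨ b * (c * c) = 1 ∨ b * Equiv.swap 1 2 = 1 ∨ b * (Equiv.swap 1 2 * c) = 1 ∨
      b * (Equiv.swap 1 2 * (c * c)) = 1 := by decide

theorem perm_three : ∀ c : Equiv.Perm (Fin 3), c ≠ 1 → Equiv.Perm.sign c = 1 →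
    c ^ 64 = c ∧ (∀ j k, ∃ e : Fin 3, (c ^ (e : ℕ)) j = k) ∧
    ∀ a, Equiv.Perm.sign a = 1 → ∃ k : Fin 3, c ^ (k : ℕ) = a := by decide

theorem twelve_odd : ((List.range 16).all fun i => (List.range 16).all fun j => (List.range 16).all fun l =>
    let p := i + 16 * 2 + 256 * j + 4096 * l
    !inj p || !(vier.all fun v => vier.any fun w => (List.range 16).all fun a =>
      app p (app v a) == app w (app p a)) || !((List.range 16).all fun a => it p 9 a == a) ||
    twelve.contains p) = true := by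
  decide +kernel

theorem vier_odd : (vier.all fun p => !((List.range 16).all fun a => it p 9 a == a) || app p 1 == 1) = true := by
  decide +kernel

theorem twelve_prod : (twelve.all fun p => vier.all fun v => (List.range 3).all fun k =>
    twelve.any fun q => (List.range 16).all fun a => app q a == app v (it p k a)) = true := by
  decide +kernel

theorem twelve_split : (twelve.all fun p => vier.contains p || (twelve.all fun q => vier.any fun v =>
    (List.range 3).any fun k => (List.range 16).all fun a => app q a == app v (it p k a))) = true := by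
  decide +kernel

variable {H : Type*} [Group H]

theorem Model.Acts.pow {M : Model H} {n : H} {p : ℕ} (h : M.Acts n p) (k : ℕ) :
    ∀ a < 16, it p k a < 16 ∧ n ^ k * M.el (2 * a) * (n ^ k)⁻¹ = M.el (2 * it p k a) := by
  induction k with
  | zero => exact fun a ha => ⟨ha, by simp [it]⟩
  | succ k ih =>
    intro a ha
    obtain ⟨h1, h2⟩ := ih a ha
    obtain ⟨h3, h4⟩ := h _ h1
    refine ⟨h3, ?_⟩
    show n ^ (k + 1) * _ * (n ^ (k + 1))⁻¹ = M.el (2 * app p (it p k a))
    rw [pow_succ', show n * n ^ k * M.el (2 * a) * (n * n ^ k)⁻¹ =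
      n * (n ^ k * M.el (2 * a) * (n ^ k)⁻¹) * n⁻¹ by group, h2, h4]

namespace Model

variable (M : Model H)

/-- The common facts in the quotient. -/
structure QShape : Prop where
  norm : ∀ h : H, h ∈ normalizer (M.Q : Set H)
  small : ∀ i < 64, inQ i = true → mul i i = 0 → i ≠ 0 → i ≠ 4 →
    ∀ x : H, Odd (orderOf x) → x * M.el i = M.el i * x → x = 1
  centU : ∀ u ∈ Us, centralizer (M.U u : Set H) ≤ M.U u
  orbU : ∀ u ∈ Us, ∀ i < 64, inU u i = true → i ≠ 0 → i ≠ 4 → ∃ h : H, h * M.el i * h⁻¹ = M.el (pu u)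

/-- The quotient `Q.S₃`. -/
structure QShapeS : Prop extends QShape M where
  card : Nat.card H = 192
  normU : ∀ u ∈ Us, ∀ h : H, h ∈ normalizer (M.U u : Set H)
  stab : normalizer (M.A : Set H) ≤ (M.S : Subgroup H)

/-- The quotient `Q.(3² : 2)`. -/
structure QShapeP : Prop extends QShape M where
  card : Nat.card H = 576
  orbP : ∀ u ∈ Us, ∃ h : H, h * M.el (pu u) * h⁻¹ = M.el 2
  stab : ∀ n ∈ normalizer (M.A : Set H), ∃ p ∈ twelve, M.Acts n p
  real : ∀ p ∈ twelve, ∃ n ∈ normalizer (M.A : Set H), M.Acts n p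

theorem el_point {i : ℕ} (h : point i = true) : inQ i = true ∧ mul i i = 0 ∧ i ≠ 0 ∧ i ≠ 4 := by
  simp only [point, Bool.and_eq_true, beq_iff_eq, bne_iff_ne] at h
  exact ⟨h.1.1.1, h.1.1.2, h.1.2, h.2⟩

variable [Finite H] {M} (X : Top M)
include X

namespace Top

set_option maxHeartbeats 2000000 in
/-- The possible shapes. -/
theorem shape : (∀ h : H, h ∈ normalizer (M.A : Set H)) ∨ QShapeS M ∨ QShapeP M := by
  classical
  haveI : Fact (Nat.Prime 2) := ⟨Nat.prime_two⟩
  rcases X.core_cases with hA | hQ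
  · exact Or.inl hA
  refine Or.inr ?_
  obtain ⟨φU, φV, hU, hV⟩ := X.exists_homs hQ
  haveI hQn : M.Q.Normal := hQ ▸ Cfsg.pCore_normal 2 _
  have hz : ∀ g : H, g * M.z * g⁻¹ = M.z := fun g => by rw [X.cen g, mul_inv_cancel_right]
  have mU : ∀ (g : H) k i, i < 64 → inU (uk (k : Fin 3)) i = true → g * M.el i * g⁻¹ ∈ M.U3 (φU g k) :=
    fun g k i hi h => by rw [← hU]; exact ⟨_, (M.mem_U3 hi).2 h, rfl⟩
  have mV : ∀ (g : H) k i, i < 64 → inV (k : Fin 3) i = true → g * M.el i * g⁻¹ ∈ M.V3 (φV g k) :=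
    fun g k i hi h => by rw [← hV]; exact ⟨_, (M.mem_V3 hi).2 h, rfl⟩
  have huniqU : ∀ i < 64, point i = true → ∀ k l : Fin 3, inU (uk k) i = true → inU (uk l) i = true → k = l := by
    intro i hi hp k l h1 h2
    exact Fin.ext ((point_pair hi hp k.2 l.2).1 h1 h2)
  have huniqV : ∀ i < 64, point i = true → ∀ k l : Fin 3, inV k i = true → inV l i = true → k = l := by
    intro i hi hp k l h1 h2
    exact Fin.ext ((point_pair hi hp k.2 l.2).2.1 h1 h2)
  -- an element fixing a point fixes its two lines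
  have hfix : ∀ (g : H), ∀ i < 64, point i = true → g * M.el i * g⁻¹ = M.el i → ∀ k : Fin 3,
      (inU (uk k) i = true → φU g k = k) ∧ (inV k i = true → φV g k = k) := by
    intro g i hi hp hg k
    constructor <;> intro h
    · have h1 := mU g k i hi h
      rw [hg, M.mem_U3 hi] at h1
      exact huniqU i hi hp _ _ h1 h
    · have h1 := mV g k i hi h
      rw [hg, M.mem_V3 hi] at h1
      exact huniqV i hi hp _ _ h1 h
  -- the kernel
  have hker : ∀ g : H, φU g = 1 → φV g = 1 → g ∈ M.Q := by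
    intro g gU gV
    rw [← hQ]
    refine X.mem_of_mod_z fun x hx => ?_
    rw [hQ, M.mem_Q] at hx
    obtain ⟨i, hi, hiQ, rfl⟩ := hx
    have hP : ∀ a < 64, (point a || a == 0 || a == 4) = true →
        g * M.el a * g⁻¹ = M.el a ∨ g * M.el a * g⁻¹ = M.el a * M.z := by
      intro a ha hpa
      simp only [Bool.or_eq_true, beq_iff_eq] at hpa
      rcases hpa with (hp | rfl) | rfl
      · have hp' := all64_iff.1 noncentral_point a ha
        have hp'' : point a = true := hp
        simp only [point] at hp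
        simp only [hp, Bool.not_true, Bool.false_or, Bool.and_eq_true, List.any_eq_true, List.mem_range] at hp'
        obtain ⟨⟨k, hk, hka⟩, ⟨l, hl, hla⟩⟩ := hp'
        have h1 := mU g ⟨k, hk⟩ a ha hka
        have h2 := mV g ⟨l, hl⟩ a ha hla
        rw [gU, Equiv.Perm.one_apply] at h1
        rw [gV, Equiv.Perm.one_apply] at h2
        obtain ⟨j, hj, hjk, e⟩ := (M.mem_sub (closed_inU3 ⟨k, hk⟩)).1 h1
        rw [← e] at h2 ⊢
        have hjl := (M.mem_V3 hj).1 h2
        have hj4 := (point_pair ha hp'' hk hl).2.2 hka hla j hj hjk hjl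
        obtain ⟨-, -, ha0, ha4⟩ := el_point hp''
        rcases hj4 with rfl | rfl | rfl | rfl
        · rw [M.el_zero, eq_comm, conj_eq_one_iff, M.el_eq_one ha] at e
          exact absurd e ha0
        · exfalso
          refine ha4 (M.inj a ha 4 (by norm_num) (mul_left_cancel (a := g) (mul_right_cancel (b := g⁻¹) ?_)))
          rw [← e]
          exact (hz g).symm
        · exact Or.inl rfl
        · exact Or.inr (M.hmul a ha 4 (by norm_num)).symm
      · exact Or.inl (by simp [M.el_zero])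
      · exact Or.inl (hz g)
    have h := all64_iff.1 point_gen i hi
    simp only [hiQ, Bool.not_true, Bool.false_or, any64_iff, Bool.and_eq_true, beq_iff_eq] at h
    obtain ⟨a, ha, hpa, b, hb, hpb, rfl⟩ := h
    rw [← M.hmul a ha b hb, show g * (M.el a * M.el b) * g⁻¹ = g * M.el a * g⁻¹ * (g * M.el b * g⁻¹) by group]
    have hzb : M.z * M.el b = M.el b * M.z := (X.cen _).symm
    rcases hP a ha hpa with e | e <;> rcases hP b hb hpb with e' | e' <;> rw [e, e']
    · exact Or.inl rfl
    · exact Or.inr (by rw [mul_assoc])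
    · exact Or.inr (by rw [mul_assoc, hzb, ← mul_assoc])
    · exact Or.inl (by rw [mul_assoc, ← mul_assoc M.z, hzb, mul_assoc, M.z_sq, mul_one])
  -- the action of `S`
  have hS : ∀ i < 64, φU (M.el i) = 1 ∧ φV (M.el i) 0 = 0 ∧
      (inQ i = true → φV (M.el i) = 1) ∧ (inQ i = false → φV (M.el i) = Equiv.swap 1 2) := by
    intro i hi
    have keyU : ∀ k, φU (M.el i) k = k := fun k => by
      refine M.U3_inj ?_
      rw [← hU]
      refine eq_of_le_of_card_ge ?_ (LEBasic.card_map_conj _ _).ge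
      rintro _ ⟨x, hx, rfl⟩
      obtain ⟨l, hl, hpl, rfl⟩ := (M.mem_sub (closed_inU3 k)).1 hx
      show M.el i * M.el l * (M.el i)⁻¹ ∈ _
      rw [M.el_conj hi hl]
      refine M.el_mem_sub (cj_lt i l) ?_
      have h := List.all_eq_true.1 (all64_iff.1 (all64_iff.1 six_norm i hi) l hl) k (List.mem_range.2 k.2)
      simp only [Bool.and_eq_true, Bool.or_eq_true, Bool.not_eq_true'] at h
      exact (h.1.1.1.1).resolve_left (by simp [hpl])
    have keyV : ∀ k k' : Fin 3, (∀ l < 64, inV k l = true → inV k' (cj i l) = true) → φV (M.el i) k = k' :=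
      fun k k' h => by
      refine M.V3_inj ?_
      rw [← hV]
      refine eq_of_le_of_card_ge ?_ ?_
      · rintro _ ⟨x, hx, rfl⟩
        obtain ⟨l, hl, hpl, rfl⟩ := (M.mem_sub (closed_inV k)).1 hx
        show M.el i * M.el l * (M.el i)⁻¹ ∈ _
        rw [M.el_conj hi hl]
        exact M.el_mem_sub (cj_lt i l) (h l hl hpl)
      · rw [LEBasic.card_map_conj]
        have h1 := (M.card_six k k).1
        have h2 := (M.card_six k' k').1
        rw [inf_idem, if_pos rfl] at h1 h2
        rw [h1, h2]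
    have hn : ∀ l < 64, ∀ k < 3, (inV 0 l = true → inV 0 (cj i l) = true) ∧
        (inQ i = true → inV k l = true → inV k (cj i l) = true) ∧
        (inQ i = false → inV 1 l = true → inV 2 (cj i l) = true) ∧
        (inQ i = false → inV 2 l = true → inV 1 (cj i l) = true) := by
      intro l hl k hk
      have h := List.all_eq_true.1 (all64_iff.1 (all64_iff.1 six_norm i hi) l hl) k (List.mem_range.2 hk)
      simp only [Bool.and_eq_true, Bool.or_eq_true, Bool.not_eq_true'] at h
      refine ⟨fun e => h.1.1.1.2.resolve_left (by simp [e]), fun e1 e2 => ?_, fun e1 e2 => ?_, fun e1 e2 => ?_⟩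
      · simpa [e1, e2] using h.1.1.2
      · simpa [e1, e2] using h.1.2
      · simpa [e1, e2] using h.2
    refine ⟨Equiv.ext keyU, keyV 0 0 fun l hl h => (hn l hl 0 (by norm_num)).1 h,
      fun hq => Equiv.ext fun k => keyV k k fun l hl h => (hn l hl k k.2).2.1 hq h, fun hq => Equiv.ext fun k => ?_⟩
    fin_cases k
    · exact keyV 0 0 fun l hl h => (hn l hl 0 (by norm_num)).1 h
    · exact keyV 1 2 fun l hl h => (hn l hl 0 (by norm_num)).2.2.1 hq h
    · exact keyV 2 1 fun l hl h => (hn l hl 0 (by norm_num)).2.2.2 hq h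
  have hvv : φU (M.el 8) = 1 ∧ φV (M.el 8) = Equiv.swap 1 2 :=
    ⟨(hS 8 (by norm_num)).1, (hS 8 (by norm_num)).2.2.2 (by decide)⟩
  have h8S : M.el 8 ∈ (M.S : Subgroup H) := M.mem 8 (by norm_num)
  -- recognising elements of `S`
  have hinS : ∀ g : H, φU g = 1 → (φV g = 1 ∨ φV g = Equiv.swap 1 2) → g ∈ (M.S : Subgroup H) := by
    intro g gU gV
    rcases gV with gV | gV
    · exact M.Q_le (hker g gU gV)
    · have h := M.Q_le (hker (g * M.el 8) (by rw [map_mul, gU, hvv.1, mul_one])
        (by rw [map_mul, gV, hvv.2]; exact Equiv.swap_mul_self 1 2))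
      simpa [mul_assoc] using mul_mem h (inv_mem h8S)
  -- the image in the first ruling is even
  have heven : ∀ g : H, Equiv.Perm.sign (φU g) = 1 := by
    intro g
    have hle : (M.S : Subgroup H) ≤ φU.ker := fun x hx => by
      obtain ⟨i, hi, rfl⟩ := M.surj x hx
      exact (hS i hi).1
    have hodd : Odd (Nat.card φU.range) := by
      rw [← Subgroup.index_ker]
      exact Odd.of_dvd_nat (Nat.not_even_iff_odd.1 fun h => M.S.not_dvd_index (even_iff_two_dvd.1 h))
        (Subgroup.index_dvd_of_le hle)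
    have h1 : (φU g) ^ Nat.card φU.range = 1 := congrArg Subtype.val (pow_card_eq_one' (x := (⟨φU g, g, rfl⟩ : φU.range)))
    have h2 := congrArg Equiv.Perm.sign h1
    rw [map_pow, map_one] at h2
    obtain ⟨m, hm⟩ := hodd
    rcases Int.units_eq_one_or (Equiv.Perm.sign (φU g)) with h | h
    · exact h
    · rw [h, hm, pow_succ, pow_mul] at h2
      simp at h2
  -- the second ruling is moved
  obtain ⟨g0, hg0⟩ : ∃ g : H, φV g ≠ 1 ∧ φV g ≠ Equiv.swap 1 2 := by
    by_contra hno
    simp only [not_exists, not_and_or, not_not] at hno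
    have hcomm : ∀ g : H, g ∈ normalizer ((M.S : Subgroup H) : Set H) := by
      intro g
      have key : ∀ g : H, ∀ s ∈ (M.S : Subgroup H), g * s * g⁻¹ ∈ (M.S : Subgroup H) := by
        intro g s hs
        obtain ⟨i, hi, rfl⟩ := M.surj s hs
        refine hinS _ ?_ ?_
        · rw [map_mul, map_mul, (hS i hi).1, mul_one, map_inv, mul_inv_cancel]
        · rw [map_mul, map_mul, map_inv]
          rcases hno g with e | e <;> rcases hno (M.el i) with e' | e' <;> rw [e, e'] <;> decide
      refine mem_normalizer_iff.2 fun s => ⟨key g s, fun h => ?_⟩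
      simpa [mul_assoc] using key g⁻¹ _ h
    have h8 : M.el 8 ∈ M.Q := hQ ▸ LEBasic.le_pCore (N := (M.S : Subgroup H))
      (normalizer_eq_top_iff.1 (top_le_iff.1 fun g _ => hcomm g)) M.S.isPGroup' h8S
    exact absurd ((M.el_mem_sub_iff closed_Q (by norm_num)).1 h8) (by decide)
  -- an element of order three in the second ruling
  obtain ⟨w, hwU, hwV, hwe⟩ : ∃ w : H, φU w = 1 ∧ φV w ≠ 1 ∧ Equiv.Perm.sign (φV w) = 1 := by
    obtain ⟨h1, h2⟩ := perm_comm _ hg0.1 hg0.2
    refine ⟨M.el 8 * g0 * (M.el 8)⁻¹ * g0⁻¹, ?_, ?_, ?_⟩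
    · simp only [map_mul, map_inv, hvv.1, one_mul, inv_one, mul_one, mul_inv_cancel]
    · simp only [map_mul, map_inv, hvv.2]
      exact h1
    · rw [show φV (M.el 8 * g0 * (M.el 8)⁻¹ * g0⁻¹) =
          Equiv.swap 1 2 * φV g0 * (Equiv.swap 1 2)⁻¹ * (φV g0)⁻¹ by simp only [map_mul, map_inv, hvv.2]]
      exact h2
  -- everything on the second ruling with the first fixed
  have honto : ∀ b : Equiv.Perm (Fin 3), ∃ g : H, φU g = 1 ∧ φV g = b := by
    intro b
    have hw2 : φV w ≠ Equiv.swap 1 2 := fun e => by rw [e] at hwe; exact absurd hwe (by decide)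
    rcases perm_gen (φV w) hwV hw2 b with e | e | e | e | e | e | e | e
    · exact ⟨1, map_one _, e ▸ map_one _⟩
    · exact ⟨_, hvv.1, e ▸ hvv.2⟩
    · exact ⟨w, hwU, e.symm⟩
    · exact ⟨w * w, by rw [map_mul, hwU, mul_one], by rw [map_mul, e]⟩
    · exact ⟨M.el 8 * w, by rw [map_mul, hwU, hvv.1, mul_one], by rw [map_mul, hvv.2, e]⟩
    · exact ⟨w * M.el 8, by rw [map_mul, hwU, hvv.1, mul_one], by rw [map_mul, hvv.2, e]⟩
    · exact ⟨M.el 8 * w * M.el 8, by rw [map_mul, map_mul, hwU, hvv.1, mul_one, mul_one],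
        by rw [map_mul, map_mul, hvv.2, e]⟩
    · exact ⟨M.el 8 * w * w, by rw [map_mul, map_mul, hwU, hvv.1, mul_one, mul_one],
        by rw [map_mul, map_mul, hvv.2, e]⟩
  have hptn : ∀ i < 64, inQ i = true → mul i i = 0 → i ≠ 0 → i ≠ 4 → point i = true := by
    intro i _ h1 h2 h3 h4
    simp [point, h1, h2, h3, h4]
  have hline : ∀ i < 64, point i = true → ∃ k l : Fin 3, inU (uk k) i = true ∧ inV l i = true := by
    intro i hi hp
    have hp' := all64_iff.1 noncentral_point i hi
    simp only [point] at hp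
    simp only [hp, Bool.not_true, Bool.false_or, Bool.and_eq_true, List.any_eq_true, List.mem_range] at hp'
    obtain ⟨⟨k, hk, hka⟩, ⟨l, hl, hla⟩⟩ := hp'
    exact ⟨⟨k, hk⟩, ⟨l, hl⟩, hka, hla⟩
  have hUk : ∀ u ∈ Us, ∃ k : Fin 3, uk k = u := fun u hu => by
    obtain ⟨k, hk, e⟩ := List.any_eq_true.1 (List.all_eq_true.1 uk_Us u hu)
    exact ⟨⟨k, List.mem_range.1 hk⟩, beq_iff_eq.1 e⟩
  have hsmall : ∀ i < 64, inQ i = true → mul i i = 0 → i ≠ 0 → i ≠ 4 →
      ∀ x : H, Odd (orderOf x) → x * M.el i = M.el i * x → x = 1 := by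
    intro i hi h1 h2 h3 h4 x hx hc
    obtain ⟨k, l, hk, hl⟩ := hline i hi (hptn i hi h1 h2 h3 h4)
    have hf := hfix x i hi (hptn i hi h1 h2 h3 h4) (mul_inv_eq_iff_eq_mul.2 hc)
    have hsV : Equiv.Perm.sign (φV x) = 1 := by
      obtain ⟨m, hm⟩ := hx
      have h := congrArg (fun y => Equiv.Perm.sign (φV y)) (pow_orderOf_eq_one x)
      simp only [map_pow, map_one] at h
      rcases Int.units_eq_one_or (Equiv.Perm.sign (φV x)) with e | e
      · exact e
      · rw [e, hm, pow_succ, pow_mul] at h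
        simp at h
    exact (TwoEl.of_group (M.isPGroup_sub inQ) (hker x (perm_fix _ (heven x) k ((hf k).1 hk))
      (perm_fix _ hsV l ((hf l).2 hl)))).eq_one_of_odd hx
  have hcentU : ∀ u ∈ Us, centralizer (M.U u : Set H) ≤ M.U u := by
    intro u hu x hx
    obtain ⟨k, rfl⟩ := hUk u hu
    have hk : ∀ i < 64, inU (uk k) i = true → x * M.el i * x⁻¹ = M.el i := fun i hi h =>
      mul_inv_eq_iff_eq_mul.2 (mem_centralizer_iff.1 hx _ (M.el_mem_sub hi h)).symm
    have hV1 : φV x = 1 := by
      ext l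
      obtain ⟨i, hi, h⟩ := any64_iff.1 (List.all_eq_true.1 (List.all_eq_true.1 point_meet k
        (List.mem_range.2 k.2)) l (List.mem_range.2 l.2))
      simp only [Bool.and_eq_true] at h
      exact congrArg Fin.val ((hfix x i hi h.1.1 (hk i hi h.1.2) l).2 h.2)
    have hU1 : φU x = 1 := by
      obtain ⟨i, hi, h⟩ := any64_iff.1 (List.all_eq_true.1 (List.all_eq_true.1 point_meet k
        (List.mem_range.2 k.2)) 0 (by decide))
      simp only [Bool.and_eq_true] at h
      exact perm_fix _ (heven x) k ((hfix x i hi h.1.1 (hk i hi h.1.2) k).1 h.1.2)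
    obtain ⟨i, hi, hiQ, rfl⟩ := M.mem_Q.1 (hker x hU1 hV1)
    have h := all64_iff.1 (List.all_eq_true.1 cent_U_Q (uk k) hu) i hi
    simp only [hiQ, Bool.not_true, Bool.false_or, Bool.or_eq_true, any64_iff, Bool.and_eq_true, bne_iff_ne] at h
    rcases h with h | ⟨j, hj, hju, hne⟩
    · exact M.el_mem_sub hi h
    · exact absurd ((M.el_comm hi hj).1 (mem_centralizer_iff.1 hx _ (M.el_mem_sub hj hju)).symm) hne
  have horbU : ∀ u ∈ Us, ∀ i < 64, inU u i = true → i ≠ 0 → i ≠ 4 → ∃ h : H, h * M.el i * h⁻¹ = M.el (pu u) := by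
    intro u hu i hi hiu h0 h4
    have h := all64_iff.1 (List.all_eq_true.1 inU_props u hu) i hi
    simp only [hiu, Bool.not_true, Bool.false_or, Bool.and_eq_true, beq_iff_eq] at h
    have hp := hptn i hi h.1 h.2 h0 h4
    obtain ⟨k, rfl⟩ := hUk u hu
    obtain ⟨-, l, -, hl⟩ := hline i hi hp
    obtain ⟨g, gU, gV⟩ := honto (Equiv.swap l 0)
    have h1 := mU g k i hi hiu
    have h2 := mV g l i hi hl
    rw [gU, Equiv.Perm.one_apply] at h1
    rw [gV, Equiv.swap_apply_left] at h2
    obtain ⟨j, hj, hjk, e⟩ := (M.mem_sub (closed_inU3 k)).1 h1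
    rw [← e] at h2
    have hjl := (M.mem_V3 hj).1 h2
    have hjp : point j = true := by
      have h := all64_iff.1 (List.all_eq_true.1 inU_props (uk k) hu) j hj
      simp only [hjk, Bool.not_true, Bool.false_or, Bool.and_eq_true, beq_iff_eq] at h
      refine hptn j hj h.1 h.2 (fun e0 => h0 ?_) (fun e0 => h4 ?_)
      · rw [e0, M.el_zero, eq_comm, conj_eq_one_iff, M.el_eq_one hi] at e
        exact e
      · refine M.inj i hi 4 (by norm_num) (mul_left_cancel (a := g) (mul_right_cancel (b := g⁻¹) ?_))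
        rw [← e, e0]
        exact (hz g).symm
    have hs := all64_iff.1 (List.all_eq_true.1 point_pu k (List.mem_range.2 k.2)) j hj
    simp only [hjp, hjk, show inV 0 j = true from hjl, Bool.and_self, Bool.not_true, Bool.false_or, any64_iff,
      beq_iff_eq] at hs
    obtain ⟨s, hs, hse⟩ := hs
    exact ⟨M.el s * g, by rw [show M.el s * g * M.el i * (M.el s * g)⁻¹ = M.el s * (g * M.el i * g⁻¹) * (M.el s)⁻¹ by group,
      ← e, M.el_conj hs hj, hse]⟩
  have hbase : QShape M := ⟨fun h => by rw [normalizer_eq_top]; exact mem_top h, hsmall, hcentU, horbU⟩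
  -- the elements of `N(A)`
  have hNA : ∀ n ∈ normalizer (M.A : Set H), φV n = 1 ∨ φV n = Equiv.swap 1 2 := by
    intro n hn
    refine perm_zero _ (M.V3_inj ?_)
    rw [← hV]
    refine eq_of_le_of_card_ge ?_ (LEBasic.card_map_conj _ _).ge
    rintro _ ⟨x, hx, rfl⟩
    obtain ⟨l, hl, hpl, rfl⟩ := (M.mem_sub (closed_inV 0)).1 hx
    have h0 := beq_iff_eq.1 (all64_iff.1 inV_zero l hl)
    rw [show ((0 : Fin 3) : ℕ) = 0 from rfl] at hpl
    rw [hpl] at h0
    obtain ⟨hlA, hlQ⟩ : inA l = true ∧ inQ l = true := by simpa using h0.symm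
    obtain ⟨j, hj, hjA, e⟩ := M.mem_A.1 ((mem_normalizer_iff.1 hn _).1 (M.el_mem_sub hl hlA : M.el l ∈ M.A))
    refine (show n * M.el l * n⁻¹ ∈ M.V3 0 from ?_)
    have hjQ : M.el j ∈ M.Q := e ▸ (inferInstance : M.Q.Normal).conj_mem _ (M.el_mem_sub hl hlQ) n
    rw [← e, M.mem_V3 hj, show ((0 : Fin 3) : ℕ) = 0 from rfl, beq_iff_eq.1 (all64_iff.1 inV_zero j hj), hjA,
      (M.el_mem_sub_iff closed_Q hj).1 hjQ]
    rfl
  have hψQ : ∀ x ∈ M.Q, φU x = 1 ∧ φV x = 1 := fun x hx => by
    obtain ⟨i, hi, hiQ, rfl⟩ := M.mem_Q.1 hx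
    exact ⟨(hS i hi).1, (hS i hi).2.2.1 hiQ⟩
  have hcard : Nat.card H = 32 * Nat.card (φU.prod φV).range := by
    have hk : (φU.prod φV).ker = M.Q := by
      ext x
      rw [MonoidHom.mem_ker, MonoidHom.prod_apply, Prod.mk_eq_one]
      exact ⟨fun h => hker x h.1 h.2, hψQ x⟩
    rw [← Subgroup.card_mul_index (φU.prod φV).ker, Subgroup.index_ker, hk, M.card_Q]
  by_cases hUt : ∀ g, φU g = 1
  · -- the first ruling is fixed
    refine Or.inl ⟨hbase, ?_, fun u hu h => ?_, fun n hn => hinS n (hUt n) (hNA n hn)⟩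
    · rw [hcard]
      have hr : (φU.prod φV).range = (⊥ : Subgroup (Equiv.Perm (Fin 3))).prod ⊤ := by
        ext ⟨a, b⟩
        constructor
        · rintro ⟨g, hg⟩
          rw [MonoidHom.prod_apply, Prod.mk.injEq] at hg
          exact ⟨mem_bot.2 (hg.1 ▸ hUt g), mem_top _⟩
        · rintro ⟨ha, -⟩
          obtain ⟨g, gU, gV⟩ := honto b
          exact ⟨g, Prod.ext (gU.trans (mem_bot.1 ha).symm) gV⟩
      rw [hr, Nat.card_congr (Subgroup.prodEquiv _ _).toEquiv, Nat.card_prod, Subgroup.card_bot,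
        Subgroup.card_top, Nat.card_perm, Nat.card_fin]
      rfl
    · obtain ⟨k, rfl⟩ := hUk u hu
      rw [← LEBasic.map_conj_eq_iff_mem_normalizer, ← M.U3_eq, hU, hUt h, Equiv.Perm.one_apply]
  · -- the first ruling is moved
    simp only [not_forall] at hUt
    obtain ⟨g1, hg1⟩ := hUt
    obtain ⟨g2, gU2, gV2⟩ := honto (φV g1)⁻¹
    set c := φU g1 with hc
    obtain ⟨hc64, hctr, hcgen⟩ := perm_three c hg1 (heven g1)
    set e0 := g1 * g2
    have he0U : φU e0 = c := by rw [map_mul, gU2, mul_one]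
    have he0V : φV e0 = 1 := by rw [map_mul, gV2, mul_inv_cancel]
    have hrng : (φU.prod φV).range = (alternatingGroup (Fin 3)).prod ⊤ := by
      ext ⟨a, b⟩
      constructor
      · rintro ⟨g, hg⟩
        rw [MonoidHom.prod_apply, Prod.mk.injEq] at hg
        exact ⟨Equiv.Perm.mem_alternatingGroup.2 (hg.1 ▸ heven g), mem_top _⟩
      · rintro ⟨ha, -⟩
        obtain ⟨k, hk⟩ := hcgen a (Equiv.Perm.mem_alternatingGroup.1 ha)
        obtain ⟨g, gU, gV⟩ := honto b
        refine ⟨e0 ^ (k : ℕ) * g, Prod.ext ?_ ?_⟩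
        · show φU (e0 ^ (k : ℕ) * g) = a
          rw [map_mul, map_pow, he0U, gU, mul_one, hk]
        · show φV (e0 ^ (k : ℕ) * g) = b
          rw [map_mul, map_pow, he0V, gV, one_pow, one_mul]
    have h576 : Nat.card H = 576 := by
      rw [hcard, hrng, Nat.card_congr (Subgroup.prodEquiv _ _).toEquiv, Nat.card_prod, Subgroup.card_top,
        Nat.card_perm, Nat.card_fin, nat_card_alternatingGroup, Nat.card_fin]
      rfl
    set d := e0 ^ 64 with hd
    have hdU : φU d = c := by rw [map_pow, he0U, hc64]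
    have hdV : φV d = 1 := by rw [map_pow, he0V, one_pow]
    have hd9 : d ^ 9 = 1 := by
      rw [hd, ← pow_mul, show 64 * 9 = Nat.card H by rw [h576], pow_card_eq_one']
    have hdodd : Odd (orderOf d) :=
      Odd.of_dvd_nat (by decide : Odd 9) (orderOf_dvd_of_pow_eq_one hd9)
    have hdS : ∀ s ∈ (M.S : Subgroup H), d * s * d⁻¹ ∈ (M.S : Subgroup H) := by
      intro s hs
      obtain ⟨i, hi, rfl⟩ := M.surj s hs
      refine hinS _ ?_ ?_
      · rw [map_mul, map_mul, (hS i hi).1, mul_one, map_inv, mul_inv_cancel]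
      · rw [map_mul, map_mul, map_inv, hdV, one_mul, inv_one, mul_one]
        cases hq : inQ i
        · exact Or.inr ((hS i hi).2.2.2 hq)
        · exact Or.inl ((hS i hi).2.2.1 hq)
    have hdA : d ∈ normalizer (M.A : Set H) := by
      refine M.conj_eq_A M.S.isPGroup' M.A_le ?_
      rintro _ ⟨x, hx, rfl⟩
      exact hdS x (M.A_le hx)
    obtain ⟨i, hi, j, hj, k', hk', l, hl, hact⟩ := M.exists_acts hdA
    set p := i + 16 * j + 256 * k' + 4096 * l with hp
    have hb := List.all_eq_true.1 (List.all_eq_true.1 (List.all_eq_true.1 (List.all_eq_true.1 app_pack_aux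
      _ (List.mem_range.2 hi)) _ (List.mem_range.2 hj)) _ (List.mem_range.2 hk')) _ (List.mem_range.2 hl)
    simp only [Bool.and_eq_true, beq_iff_eq] at hb
    obtain ⟨⟨⟨-, e2⟩, -⟩, -⟩ := hb
    have hj2 : j = 2 := M.double_inj hj (by norm_num) (by
      rw [← e2, ← (hact 2 (by norm_num)).2]
      exact hz d)
    have hit9 : ((List.range 16).all fun a => it p 9 a == a) = true := by
      simp only [List.all_eq_true, List.mem_range, beq_iff_eq]
      intro a ha
      obtain ⟨h1, h2⟩ := hact.pow 9 a ha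
      rw [hd9, one_mul, inv_one, mul_one] at h2
      exact (M.double_inj ha h1 h2).symm
    have hp12 : p ∈ twelve := by
      have h := List.all_eq_true.1 (List.all_eq_true.1 (List.all_eq_true.1 twelve_odd i (List.mem_range.2 hi))
        k' (List.mem_range.2 hk')) l (List.mem_range.2 hl)
      rw [← hj2] at h
      simp only [← hp, hit9, Bool.not_true, Bool.or_false, Bool.or_eq_true, Bool.not_eq_true',
        List.contains_iff_mem] at h
      rcases h with (h | h) | h
      · exfalso
        rw [Linear.inj, List.all_eq_false] at h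
        obtain ⟨a, ha, hne⟩ := h
        simp only [pts, List.mem_map, List.mem_range] at ha
        obtain ⟨b, hb, rfl⟩ := ha
        simp only [bne_iff_ne, ne_eq, not_not] at hne
        have h2 := (hact (b + 1) (by omega)).2
        rw [hne, mul_zero, M.el_zero, conj_eq_one_iff, M.el_eq_one (by omega)] at h2
        omega
      · exfalso
        rw [← Bool.not_eq_true, List.all_eq_true] at h
        refine h fun v hv => ?_
        obtain ⟨n, hn, hna⟩ := M.vier_real v hv
        have hd' : ∀ v' ∈ vier, ∀ a < 16, app v' a < 16 := by decide +kernel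
        obtain ⟨s, hs, hse⟩ : ∃ s, s < 64 ∧ ∀ a < 16, M.el s * M.el (2 * a) * (M.el s)⁻¹ = M.el (2 * app v a) := by
          have hd : (vier.all fun p => any64 fun i => (List.range 16).all fun a =>
              cj i (2 * a) == 2 * app p a) = true := by decide +kernel
          obtain ⟨s, hs, h⟩ := any64_iff.1 (List.all_eq_true.1 hd v hv)
          simp only [List.all_eq_true, List.mem_range, beq_iff_eq] at h
          exact ⟨s, hs, fun a ha => by rw [M.el_conj hs (by omega), h a ha]⟩
        obtain ⟨w, hw, hwa⟩ := M.acts_S (hdS _ (M.mem s hs))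
        refine List.any_eq_true.2 ⟨w, hw, List.all_eq_true.2 fun a ha => beq_iff_eq.2 ?_⟩
        rw [List.mem_range] at ha
        obtain ⟨h1, h2⟩ := hact a ha
        obtain ⟨h3, h4⟩ := hwa _ h1
        obtain ⟨h5, h6⟩ := hact _ (hd' v hv a ha)
        refine M.double_inj h5 h3 ?_
        rw [← h6, ← hse a ha, ← h4, ← h2]
        group
      · exact h
    have hpv : p ∉ vier := fun hv => by
      have h := List.all_eq_true.1 vier_odd p hv
      simp only [hit9, Bool.not_true, Bool.false_or, beq_iff_eq] at h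
      have h2 := (hact 1 (by norm_num)).2
      rw [h] at h2
      have := hsmall 2 (by norm_num) (by decide) (by decide) (by norm_num) (by norm_num) d hdodd
        (mul_inv_eq_iff_eq_mul.1 h2)
      rw [this, map_one] at hdU
      exact hg1 hdU.symm
    refine Or.inr ⟨hbase, h576, fun u hu => ?_, fun n hn => ?_, fun q hq => ?_⟩
    · obtain ⟨k, rfl⟩ := hUk u hu
      obtain ⟨e, he⟩ := hctr k 0
      have hpk : (List.range 3).all (fun k => pu (uk k) < 64 && point (pu (uk k)) && inU (uk k) (pu (uk k)) &&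
          inV 0 (pu (uk k)) && pu (uk 0) == 2) = true := by decide +kernel
      have hh := List.all_eq_true.1 hpk k (List.mem_range.2 k.2)
      simp only [Bool.and_eq_true, decide_eq_true_eq, beq_iff_eq] at hh
      obtain ⟨⟨⟨⟨hlt, hpt⟩, hiu⟩, hiv⟩, h02⟩ := hh
      set g := d ^ (e : ℕ)
      have h1 := mU g k _ hlt hiu
      have h2 := mV g 0 _ hlt hiv
      rw [map_pow, hdU, he] at h1
      rw [map_pow, hdV, one_pow, Equiv.Perm.one_apply] at h2
      obtain ⟨j, hj, hjk, ej⟩ := (M.mem_sub (closed_inU3 0)).1 h1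
      rw [← ej] at h2
      have hjl := (M.mem_V3 hj).1 h2
      have hjp : point j = true := by
        have h := all64_iff.1 (List.all_eq_true.1 inU_props (uk 0) (by decide)) j hj
        simp only [show inU (uk 0) j = true from hjk, Bool.not_true, Bool.false_or, Bool.and_eq_true, beq_iff_eq] at h
        obtain ⟨-, -, h0, h4⟩ := el_point hpt
        refine hptn j hj h.1 h.2 (fun e0 => h0 ?_) (fun e0 => h4 ?_)
        · rw [e0, M.el_zero, eq_comm, conj_eq_one_iff, M.el_eq_one hlt] at ej
          exact ej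
        · refine M.inj _ hlt 4 (by norm_num) (mul_left_cancel (a := g) (mul_right_cancel (b := g⁻¹) ?_))
          rw [← ej, e0]
          exact (hz g).symm
      have hs := all64_iff.1 (List.all_eq_true.1 point_pu 0 (by decide)) j hj
      simp only [hjp, show inU (uk 0) j = true from hjk, show inV 0 j = true from hjl, Bool.and_self, Bool.not_true,
        Bool.false_or, any64_iff, beq_iff_eq] at hs
      obtain ⟨s, hs, hse⟩ := hs
      refine ⟨M.el s * g, ?_⟩
      rw [show M.el s * g * M.el (pu (uk k)) * (M.el s * g)⁻¹ = M.el s * (g * M.el (pu (uk k)) * g⁻¹) * (M.el s)⁻¹ by group,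
        ← ej, M.el_conj hs hj, hse, h02]
    · obtain ⟨k, hk⟩ := hcgen (φU n) (heven n)
      have hs : n * (d ^ (k : ℕ))⁻¹ ∈ (M.S : Subgroup H) := by
        refine hinS _ (by rw [map_mul, map_inv, map_pow, hdU, hk, mul_inv_cancel]) ?_
        rw [map_mul, map_inv, map_pow, hdV, one_pow, inv_one, mul_one]
        exact hNA n hn
      obtain ⟨v, hv, hva⟩ := M.acts_S hs
      obtain ⟨q, hq, hqa⟩ := List.any_eq_true.1 (List.all_eq_true.1 (List.all_eq_true.1
        (List.all_eq_true.1 twelve_prod p hp12) v hv) k (List.mem_range.2 k.2))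
      refine ⟨q, hq, fun a ha => ?_⟩
      rw [beq_iff_eq.1 (List.all_eq_true.1 hqa a (List.mem_range.2 ha))]
      obtain ⟨h1, h2⟩ := hact.pow k a ha
      obtain ⟨h3, h4⟩ := hva _ h1
      refine ⟨h3, ?_⟩
      rw [← h4, ← h2]
      group
    · have h := List.all_eq_true.1 twelve_split p hp12
      simp only [Bool.or_eq_true, List.contains_iff_mem, hpv, false_or, List.all_eq_true, List.any_eq_true,
        List.mem_range, beq_iff_eq] at h
      obtain ⟨v, hv, k, hk, hqa⟩ := h q hq
      obtain ⟨n, hn, hna⟩ := M.vier_real v hv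
      refine ⟨n * d ^ k, mul_mem hn (pow_mem hdA k), fun a ha => ?_⟩
      rw [hqa a ha]
      obtain ⟨h1, h2⟩ := hact.pow k a ha
      obtain ⟨h3, h4⟩ := hna _ h1
      refine ⟨h3, ?_⟩
      rw [show n * d ^ k * M.el (2 * a) * (n * d ^ k)⁻¹ = n * (d ^ k * M.el (2 * a) * (d ^ k)⁻¹) * n⁻¹ by group, h2, h4]

end Top

end Model

end Cfsg.Agent.A8Rec
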