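import Cfsg.Agent.Lib.A8Rec.Auto
import Cfsg.Agent.Lib.A8Rec.Norm
import Cfsg.Agent.Lib.Solvable.Fitting
import Cfsg.Agent.Lib.LocalEven.Basic

/-!
A solvable group without odd core whose central involution is the centre of a Sylow subgroup of the
model type: either the elementary abelian group of order sixteen is normal, or the extraspecial group
is the 2-core, with quotient `S₃` or `3 × S₃`.
-/

set_option autoImplicit false
set_option maxRecDepth 20000
set_option linter.unusedSectionVars false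

namespace Cfsg.Agent.A8Rec

open Subgroup ClosedAbelian Linear

/-- The six elementary abelian subgroups of order eight of `Q`: two rulings. -/
def inV (k i : ℕ) : Bool :=
  if k == 0 then inA i && inQ i else if k == 1 then [0, 1, 4, 5, 32, 33, 36, 37].contains i
  else [0, 3, 4, 7, 48, 51, 52, 55].contains i

/-- The label of the `k`-th normal eight. -/
def uk (k : ℕ) : ℕ := if k == 0 then 1 else if k == 1 then 32 else 33

/-- The masks needed. -/
def maskOf (p : ℕ → Bool) : ℕ := ((List.range 64).filter p).foldl (fun acc i => acc ||| 2 ^ i) 0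

theorem normals_cases : (normals.all fun m =>
    (all64 fun i => !inA i || tb m i) ||
    any64 (fun i => !tb m i && (els m).all fun j => mul i j == mul j i) ||
    (all64 fun i => tb m i == inQ i) || Us.any (fun u => all64 fun i => tb m i == inU u i) ||
    rigid m) = true := by
  decide +kernel

theorem eight_move : (Us.all fun u => any64 fun s => !inU u s && all64 fun i => !inU u i ||
    (cj s i == i || cj s i == mul i 4)) = true := by
  decide +kernel

theorem six_closed : ((List.range 3).all fun k => closedB (inV k) && closedB (inU (uk k))) = true := by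
  decide +kernel

theorem six_cover : (all64 fun i => all64 fun j =>
    !(inQ i && inQ j && mul i i == 0 && mul j j == 0 && mul i j == mul j i) ||
    ((List.range 3).any fun k => (inV k i && inV k j) || (inU (uk k) i && inU (uk k) j))) = true := by
  decide +kernel

theorem six_gen : ((List.range 3).all fun k =>
    (any64 fun a => any64 fun b => inV k a && inV k b && a != 0 && b != 0 &&
      all64 fun i => !inV k i || [0, 4, a, b, mul 4 a, mul 4 b, mul a b, mul 4 (mul a b)].contains i) &&
    (any64 fun a => any64 fun b => inU (uk k) a && inU (uk k) b && a != 0 && b != 0 &&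
      all64 fun i => !inU (uk k) i || [0, 4, a, b, mul 4 a, mul 4 b, mul a b, mul 4 (mul a b)].contains i)) = true := by
  decide +kernel

theorem six_meet : ((List.range 3).all fun k => (List.range 3).all fun l =>
    ((List.range 64).filter fun i => inV k i && inV l i).length == (if k == l then 8 else 2) &&
    ((List.range 64).filter fun i => inU (uk k) i && inU (uk l) i).length == (if k == l then 8 else 2) &&
    ((List.range 64).filter fun i => inU (uk k) i && inV l i).length == 4) = true := by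
  decide +kernel

theorem six_props : ((List.range 3).all fun k => all64 fun i =>
    (!inV k i || (inQ i && mul i i == 0)) && (!inU (uk k) i || (inQ i && mul i i == 0)) &&
    inV k 4 && inU (uk k) 4) = true := by
  decide +kernel

theorem six_norm : (all64 fun s => all64 fun i => (List.range 3).all fun k =>
    (!inU (uk k) i || inU (uk k) (cj s i)) && (!inV 0 i || inV 0 (cj s i)) &&
    (!inQ s || !inV k i || inV k (cj s i)) &&
    (inQ s || !inV 1 i || inV 2 (cj s i)) && (inQ s || !inV 2 i || inV 1 (cj s i))) = true := by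
  decide +kernel

theorem noncentral_point : (all64 fun i => !(inQ i && mul i i == 0 && i != 0 && i != 4) ||
    (((List.range 3).any fun k => inU (uk k) i) && ((List.range 3).any fun k => inV k i))) = true := by
  decide +kernel

theorem cent_U_Q : (Us.all fun u => all64 fun i => !inQ i || inU u i ||
    any64 fun j => inU u j && mul i j != mul j i) = true := by
  decide +kernel

theorem cent_Q : (all64 fun i => inQ i || any64 fun j => inQ j && mul i j != mul j i) = true := by
  decide +kernel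

variable {H : Type*} [Group H]

/-- A family of three subgroups permuted by conjugation. -/
theorem exists_permHom (W : Fin 3 → Subgroup H) (hinj : Function.Injective W)
    (h : ∀ (g : H) (j : Fin 3), ∃ k, (W j).map (MulAut.conj g).toMonoidHom = W k) :
    ∃ φ : H →* Equiv.Perm (Fin 3), ∀ g j, (W j).map (MulAut.conj g).toMonoidHom = W (φ g j) := by
  choose f hf using h
  have hmul : ∀ g g' j, f (g * g') j = f g (f g' j) := fun g g' j => hinj (by
    rw [← hf, ← hf, ← hf, LEBasic.map_conj_map_conj])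
  have hone : ∀ j, f 1 j = j := fun j => hinj (by rw [← hf, LEBasic.map_conj_one])
  refine ⟨MonoidHom.mk' (fun g => ⟨f g, f g⁻¹, fun j => by rw [← hmul, inv_mul_cancel, hone],
    fun j => by rw [← hmul, mul_inv_cancel, hone]⟩) (fun g g' => Equiv.ext fun j => hmul g g' j), hf⟩

namespace Model

variable (M : Model H)

/-- The three normal eights. -/
def U3 (k : Fin 3) : Subgroup H := M.sub (inU (uk k))

/-- The other ruling. -/
def V3 (k : Fin 3) : Subgroup H := M.sub (inV k)

theorem mem_U3 {k : Fin 3} {i : ℕ} (hi : i < 64) : M.el i ∈ M.U3 k ↔ inU (uk k) i = true := by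
  have h := List.all_eq_true.1 six_closed k (List.mem_range.2 k.2)
  rw [Bool.and_eq_true] at h
  exact M.el_mem_sub_iff h.2 hi

theorem mem_V3 {k : Fin 3} {i : ℕ} (hi : i < 64) : M.el i ∈ M.V3 k ↔ inV k i = true := by
  have h := List.all_eq_true.1 six_closed k (List.mem_range.2 k.2)
  rw [Bool.and_eq_true] at h
  exact M.el_mem_sub_iff h.1 hi

theorem U3_eq (k : Fin 3) : M.U3 k = M.U (uk k) := rfl

theorem closed_inV (k : Fin 3) : closedB (inV k) = true := by
  have h := List.all_eq_true.1 six_closed k (List.mem_range.2 k.2)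
  rw [Bool.and_eq_true] at h
  exact h.1

theorem closed_inU3 (k : Fin 3) : closedB (inU (uk k)) = true := by
  have h := List.all_eq_true.1 six_closed k (List.mem_range.2 k.2)
  rw [Bool.and_eq_true] at h
  exact h.2

theorem closed_and {p q : ℕ → Bool} (hp : closedB p = true) (hq : closedB q = true) :
    closedB (fun i => p i && q i) = true := by
  simp only [closedB, Bool.and_eq_true, all64_iff] at *
  refine ⟨⟨hp.1, hq.1⟩, fun i hi j hj => ?_⟩
  have h1 := hp.2 i hi j hj
  have h2 := hq.2 i hi j hj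
  revert h1 h2
  cases p i <;> cases q i <;> cases p j <;> cases q j <;> simp_all

theorem sub_inf {p q : ℕ → Bool} (hp : closedB p = true) (hq : closedB q = true) :
    M.sub p ⊓ M.sub q = M.sub fun i => p i && q i := by
  ext x
  rw [mem_inf, M.mem_sub hp, M.mem_sub hq, M.mem_sub (closed_and hp hq)]
  constructor
  · rintro ⟨⟨i, hi, hpi, rfl⟩, ⟨j, hj, hqj, e⟩⟩
    rw [M.inj j hj i hi e] at hqj
    exact ⟨i, hi, by simp [hpi, hqj], rfl⟩
  · rintro ⟨i, hi, h, rfl⟩
    rw [Bool.and_eq_true] at h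
    exact ⟨⟨i, hi, h.1, rfl⟩, ⟨i, hi, h.2, rfl⟩⟩

theorem card_six (k l : Fin 3) :
    Nat.card ↥(M.V3 k ⊓ M.V3 l) = (if k = l then 8 else 2) ∧
    Nat.card ↥(M.U3 k ⊓ M.U3 l) = (if k = l then 8 else 2) ∧
    Nat.card ↥(M.U3 k ⊓ M.V3 l) = 4 := by
  have h := List.all_eq_true.1 (List.all_eq_true.1 six_meet k (List.mem_range.2 k.2)) l (List.mem_range.2 l.2)
  simp only [Bool.and_eq_true, beq_iff_eq, Fin.val_inj] at h
  simp only [U3, V3]
  rw [M.sub_inf (closed_inV k) (closed_inV l), M.sub_inf (closed_inU3 k) (closed_inU3 l),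
    M.sub_inf (closed_inU3 k) (closed_inV l), M.card_sub (closed_and (closed_inV k) (closed_inV l)),
    M.card_sub (closed_and (closed_inU3 k) (closed_inU3 l)),
    M.card_sub (closed_and (closed_inU3 k) (closed_inV l))]
  exact ⟨h.1.1, h.1.2, h.2⟩

theorem U3_inj : Function.Injective M.U3 := fun k l e => by
  by_contra hne
  have h1 := (M.card_six k l).2.1
  have h2 := (M.card_six k k).2.1
  rw [← e, h2, if_pos rfl, if_neg hne] at h1
  omega

theorem V3_inj : Function.Injective M.V3 := fun k l e => by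
  by_contra hne
  have h1 := (M.card_six k l).1
  have h2 := (M.card_six k k).1
  rw [← e, h2, if_pos rfl, if_neg hne] at h1
  omega

variable [Finite H]

/-- The hypotheses on the quotient of `C(z)` by its odd core. -/
structure Top (M : Model H) : Prop where
  sol : Group.IsSolvable H
  core : Cfsg.oddCore H = ⊥
  cen : ∀ h : H, h * M.z = M.z * h

variable {M} (X : Top M)
include X

namespace Top

theorem cent_core : centralizer (Cfsg.pCore 2 H : Set H) ≤ Cfsg.pCore 2 H :=
  haveI := X.sol
  FittingCores.centralizer_pCore_le Nat.prime_two X.core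

/-- Elements acting trivially on the 2-core modulo `z` lie in it. -/
theorem mem_of_mod_z {h : H}
    (hh : ∀ x ∈ Cfsg.pCore 2 H, h * x * h⁻¹ = x ∨ h * x * h⁻¹ = x * M.z) : h ∈ Cfsg.pCore 2 H := by
  haveI : Fact (Nat.Prime 2) := ⟨Nat.prime_two⟩
  haveI : (Cfsg.pCore 2 H).Normal := Cfsg.pCore_normal 2 _
  let K : Subgroup H :=
    { carrier := {h | ∀ x ∈ Cfsg.pCore 2 H, h * x * h⁻¹ = x ∨ h * x * h⁻¹ = x * M.z}
      one_mem' := fun x _ => Or.inl (by simp)
      mul_mem' := fun {a b} ha hb x hx => by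
        have hz : a * M.z * a⁻¹ = M.z := by rw [X.cen a, mul_inv_cancel_right]
        rcases hb x hx with e | e <;>
          rw [show a * b * x * (a * b)⁻¹ = a * (b * x * b⁻¹) * a⁻¹ by group, e]
        · exact ha x hx
        · rw [show a * (x * M.z) * a⁻¹ = a * x * a⁻¹ * (a * M.z * a⁻¹) by group, hz]
          rcases ha x hx with e' | e' <;> rw [e']
          · exact Or.inr rfl
          · exact Or.inl (by rw [mul_assoc, M.z_sq, mul_one])
      inv_mem' := fun {a} ha x hx => by
        have hy : a⁻¹ * x * a⁻¹⁻¹ ∈ Cfsg.pCore 2 H := Subgroup.Normal.conj_mem inferInstance x hx a⁻¹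
        rcases ha _ hy with e | e
        · left
          rw [show a * (a⁻¹ * x * a⁻¹⁻¹) * a⁻¹ = x by group] at e
          exact e.symm
        · right
          rw [show a * (a⁻¹ * x * a⁻¹⁻¹) * a⁻¹ = x by group] at e
          calc a⁻¹ * x * a⁻¹⁻¹ = a⁻¹ * x * a⁻¹⁻¹ * (M.z * M.z) := by rw [M.z_sq, mul_one]
            _ = _ := by rw [← mul_assoc, ← e] }
  have hKn : K.Normal := ⟨fun k hk g x hx => by
    have hy : g⁻¹ * x * g⁻¹⁻¹ ∈ Cfsg.pCore 2 H := Subgroup.Normal.conj_mem inferInstance x hx g⁻¹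
    rw [show g * k * g⁻¹ * x * (g * k * g⁻¹)⁻¹ = g * (k * (g⁻¹ * x * g⁻¹⁻¹) * k⁻¹) * g⁻¹ by group]
    rcases hk _ hy with e | e <;> rw [e]
    · exact Or.inl (by group)
    · right
      rw [show g * (g⁻¹ * x * g⁻¹⁻¹ * M.z) * g⁻¹ = x * (g * M.z * g⁻¹) by group, X.cen g, mul_inv_cancel_right]⟩
  refine LEBasic.le_pCore hKn ?_ hh
  intro k
  have h2 : ((k : H) * k) ∈ Cfsg.pCore 2 H := X.cent_core (mem_centralizer_iff.2 fun x hx => by
    have hz : (k : H) * M.z * (k : H)⁻¹ = M.z := by rw [X.cen k, mul_inv_cancel_right]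
    have he : (k : H) * k * x * ((k : H) * k)⁻¹ = x := by
      rcases k.2 x hx with e | e <;>
        rw [show (k : H) * k * x * ((k : H) * k)⁻¹ = k * (k * x * (k : H)⁻¹) * (k : H)⁻¹ by group, e]
      · exact e
      · rw [show (k : H) * (x * M.z) * (k : H)⁻¹ = k * x * (k : H)⁻¹ * (k * M.z * (k : H)⁻¹) by group, hz, e,
          mul_assoc, M.z_sq, mul_one]
    exact (mul_inv_eq_iff_eq_mul.1 he).symm)
  obtain ⟨e, he⟩ := LEBasic.pCore_isPGroup (p := 2) (G := H) ⟨_, h2⟩
  refine ⟨e + 1, Subtype.ext ?_⟩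
  rw [pow_succ', pow_mul, SubgroupClass.coe_pow, SubgroupClass.coe_pow, pow_two]
  exact congrArg Subtype.val he

/-- Either `A` is normal or `Q` is the 2-core. -/
theorem core_cases : (∀ h : H, h ∈ normalizer (M.A : Set H)) ∨ Cfsg.pCore 2 H = M.Q := by
  classical
  haveI : Fact (Nat.Prime 2) := ⟨Nat.prime_two⟩
  haveI hRn : (Cfsg.pCore 2 H).Normal := Cfsg.pCore_normal 2 _
  set R := Cfsg.pCore 2 H with hR
  have hRS : R ≤ (M.S : Subgroup H) := LEBasic.pCore_le_sylow M.S
  obtain ⟨m, hm, hmp⟩ := exists_mask (p := fun i => decide (M.el i ∈ R))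
    (by simp [M.el_zero, one_mem])
    (fun i hi j hj h1 h2 => by
      simp only [decide_eq_true_eq] at h1 h2 ⊢
      rw [← M.hmul i hi j hj]
      exact mul_mem h1 h2)
    (fun s hs i hi h1 => by
      simp only [decide_eq_true_eq] at h1 ⊢
      rw [← M.el_conj hs hi]
      exact hRn.conj_mem _ h1 _)
  have hmem : ∀ i < 64, (tb m i = true ↔ M.el i ∈ R) := fun i hi => by rw [hmp i hi, decide_eq_true_eq]
  have hsub : ∀ p : ℕ → Bool, closedB p = true → (all64 fun i => tb m i == p i) = true → R = M.sub p := by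
    intro p hp he
    ext x
    rw [M.mem_sub hp]
    constructor
    · intro hx
      obtain ⟨i, hi, rfl⟩ := M.surj x (hRS hx)
      exact ⟨i, hi, by rw [← beq_iff_eq.1 (all64_iff.1 he i hi)]; exact (hmem i hi).2 hx, rfl⟩
    · rintro ⟨i, hi, hpi, rfl⟩
      exact (hmem i hi).1 (by rw [beq_iff_eq.1 (all64_iff.1 he i hi)]; exact hpi)
  by_cases hA : M.A ≤ R
  · refine Or.inl fun h => M.conj_eq_A (LEBasic.pCore_isPGroup) hA (?_)
    rintro _ ⟨a, ha, rfl⟩
    exact hRn.conj_mem a (hA ha) h
  have hc := List.all_eq_true.1 normals_cases m hm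
  simp only [Bool.or_eq_true] at hc
  rcases hc with (((hc | hc) | hc) | hc) | hc
  · refine absurd (fun x hx => ?_) hA
    obtain ⟨i, hi, hiA, rfl⟩ := M.mem_A.1 hx
    have := all64_iff.1 hc i hi
    simp only [hiA, Bool.not_true, Bool.false_or] at this
    exact (hmem i hi).1 this
  · rw [any64_iff] at hc
    obtain ⟨i, hi, hc⟩ := hc
    simp only [Bool.and_eq_true, Bool.not_eq_true', List.all_eq_true, mem_els, beq_iff_eq] at hc
    have := (hmem i hi).2 (X.cent_core (mem_centralizer_iff.2 fun x hx => by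
      obtain ⟨j, hj, rfl⟩ := M.surj x (hRS hx)
      exact (M.el_comm hj hi).2 (hc.2 j ⟨hj, (hmem j hj).2 hx⟩).symm))
    rw [hc.1] at this
    exact absurd this Bool.false_ne_true
  · exact Or.inr (hsub _ closed_Q hc)
  · exfalso
    obtain ⟨u, hu, hc⟩ := List.any_eq_true.1 hc
    have hRU := hsub _ (closed_U hu) hc
    have hs := List.all_eq_true.1 eight_move u hu
    rw [any64_iff] at hs
    obtain ⟨s, hs, hs'⟩ := hs
    simp only [Bool.and_eq_true, Bool.not_eq_true', all64_iff] at hs'
    have h1 : M.el s ∈ R := X.mem_of_mod_z fun x hx => by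
      rw [← hR, hRU, M.mem_sub (closed_U hu)] at hx
      obtain ⟨i, hi, hiU, rfl⟩ := hx
      have h := hs'.2 i hi
      simp only [hiU, Bool.not_true, Bool.false_or, Bool.or_eq_true, beq_iff_eq] at h
      rw [M.el_conj hs hi, show M.z = M.el 4 from rfl, M.hmul i hi 4 (by norm_num)]
      rcases h with e | e <;> rw [e]
      · exact Or.inl rfl
      · exact Or.inr rfl
    rw [hRU, M.el_mem_sub_iff (closed_U hu) hs, hs'.1] at h1
    exact Bool.false_ne_true h1
  · exfalso
    refine hA fun x hx => ?_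
    have hall : ∀ g : H, Odd (orderOf g) → g = 1 := by
      intro g hg
      have hfix := M.rigid_cent hc hg fun x => by
        constructor <;> rintro ⟨i, hi, hmi, hx⟩
        · subst hx
          obtain ⟨j, hj, e⟩ := M.surj _ (hRS (hRn.conj_mem _ ((hmem i hi).1 hmi) g))
          exact ⟨j, hj, (hmem j hj).2 (e ▸ hRn.conj_mem _ ((hmem i hi).1 hmi) g), e⟩
        · have h1 : x ∈ R := by
            have := hRn.conj_mem _ (hx ▸ (hmem i hi).1 hmi) g⁻¹
            simpa [mul_assoc] using this
          obtain ⟨j, hj, e⟩ := M.surj _ (hRS h1)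
          exact ⟨j, hj, (hmem j hj).2 (e ▸ h1), e⟩
      have hgR : g ∈ R := X.cent_core (mem_centralizer_iff.2 fun y hy => by
        obtain ⟨j, hj, rfl⟩ := M.surj y (hRS hy)
        exact (mul_inv_eq_iff_eq_mul.1 (hfix j hj ((hmem j hj).2 hy))).symm)
      exact (TwoEl.of_group (LEBasic.pCore_isPGroup) hgR).eq_one_of_odd hg
    refine LEBasic.le_pCore (N := (⊤ : Subgroup H)) inferInstance ?_ (mem_top x)
    intro y
    obtain ⟨u, v, huv, -, -, hu, hv⟩ := exists_parts (y : H)
    rw [hall v hv, mul_one] at huv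
    obtain ⟨k, hk⟩ := hu
    exact ⟨k, Subtype.ext (by rw [SubgroupClass.coe_pow, ← huv]; exact hk)⟩

set_option maxHeartbeats 1000000 in
/-- In the second case there are the two actions on the rulings. -/
theorem exists_homs (hQ : Cfsg.pCore 2 H = M.Q) :
    ∃ φU φV : H →* Equiv.Perm (Fin 3),
      (∀ g j, (M.U3 j).map (MulAut.conj g).toMonoidHom = M.U3 (φU g j)) ∧
      (∀ g j, (M.V3 j).map (MulAut.conj g).toMonoidHom = M.V3 (φV g j)) := by
  classical
  haveI hRn : (Cfsg.pCore 2 H).Normal := Cfsg.pCore_normal 2 _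
  haveI : M.Q.Normal := hQ ▸ hRn
  have hz : ∀ g : H, g * M.z * g⁻¹ = M.z := fun g => by rw [X.cen g, mul_inv_cancel_right]
  have himage : ∀ (g : H) (p : ℕ → Bool), closedB p = true →
      (∀ i < 64, p i = true → inQ i = true ∧ mul i i = 0) →
      (∀ i < 64, ∀ j < 64, p i = true → p j = true → mul i j = mul j i) →
      (∃ a < 64, ∃ b < 64, p a = true ∧ p b = true ∧
        ∀ i < 64, p i = true → i ∈ [0, 4, a, b, mul 4 a, mul 4 b, mul a b, mul 4 (mul a b)]) →
      Nat.card ↥(M.sub p) = 8 →
      ∃ k : Fin 3, (M.sub p).map (MulAut.conj g).toMonoidHom = M.U3 k ∨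
        (M.sub p).map (MulAut.conj g).toMonoidHom = M.V3 k := by
    intro g p hp hprop hab ⟨a, ha, b, hb, hpa, hpb, hgen⟩ h8
    obtain ⟨i, hi, hiQ, hie⟩ := M.mem_Q.1
      ((inferInstance : M.Q.Normal).conj_mem _ (M.el_mem_sub ha (hprop a ha hpa).1 : M.el a ∈ M.Q) g)
    obtain ⟨j, hj, hjQ, hje⟩ := M.mem_Q.1
      ((inferInstance : M.Q.Normal).conj_mem _ (M.el_mem_sub hb (hprop b hb hpb).1 : M.el b ∈ M.Q) g)
    have hi2 : mul i i = 0 := by
      rw [← M.el_sq hi, hie, show g * M.el a * g⁻¹ * (g * M.el a * g⁻¹) = g * (M.el a * M.el a) * g⁻¹ by group,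
        (M.el_sq ha).2 (hprop a ha hpa).2]
      simp
    have hj2 : mul j j = 0 := by
      rw [← M.el_sq hj, hje, show g * M.el b * g⁻¹ * (g * M.el b * g⁻¹) = g * (M.el b * M.el b) * g⁻¹ by group,
        (M.el_sq hb).2 (hprop b hb hpb).2]
      simp
    have hij : mul i j = mul j i := by
      rw [← M.el_comm hi hj, hie, hje, show g * M.el a * g⁻¹ * (g * M.el b * g⁻¹) = g * (M.el a * M.el b) * g⁻¹ by group,
        (M.el_comm ha hb).2 (hab a ha b hb hpa hpb)]
      group
    have h := all64_iff.1 (all64_iff.1 six_cover i hi) j hj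
    simp only [hiQ, hjQ, hi2, hj2, hij, beq_self_eq_true, Bool.and_self, Bool.not_true, Bool.false_or,
      List.any_eq_true, List.mem_range, Bool.or_eq_true, Bool.and_eq_true] at h
    obtain ⟨k, hk, hk'⟩ := h
    have hle : ∀ W : Subgroup H, M.el i ∈ W → M.el j ∈ W → M.z ∈ W → Nat.card W = 8 →
        (M.sub p).map (MulAut.conj g).toMonoidHom = W := by
      intro W hiW hjW hzW hW
      refine eq_of_le_of_card_ge ?_ (by rw [LEBasic.card_map_conj, h8, hW])
      rw [map_le_iff_le_comap]
      intro x hx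
      obtain ⟨l, hl, hpl, rfl⟩ := (M.mem_sub hp).1 hx
      have e0 : M.el 0 ∈ W.comap (MulAut.conj g).toMonoidHom := M.el_zero.symm ▸ one_mem _
      have e4 : M.el 4 ∈ W.comap (MulAut.conj g).toMonoidHom :=
        mem_comap.2 (show g * M.z * g⁻¹ ∈ W by rw [hz]; exact hzW)
      have ea : M.el a ∈ W.comap (MulAut.conj g).toMonoidHom :=
        mem_comap.2 (show g * M.el a * g⁻¹ ∈ W from hie ▸ hiW)
      have eb : M.el b ∈ W.comap (MulAut.conj g).toMonoidHom :=
        mem_comap.2 (show g * M.el b * g⁻¹ ∈ W from hje ▸ hjW)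
      have eab : M.el (mul a b) ∈ W.comap (MulAut.conj g).toMonoidHom := M.hmul a ha b hb ▸ mul_mem ea eb
      have hg := hgen l hl hpl
      simp only [List.mem_cons, List.not_mem_nil, or_false] at hg
      rcases hg with h | h | h | h | h | h | h | h <;> rw [h]
      · exact e0
      · exact e4
      · exact ea
      · exact eb
      · exact M.hmul 4 (by norm_num) a ha ▸ mul_mem e4 ea
      · exact M.hmul 4 (by norm_num) b hb ▸ mul_mem e4 eb
      · exact eab
      · exact M.hmul 4 (by norm_num) _ (mul_lt a b) ▸ mul_mem e4 eab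
    have hz4 := all64_iff.1 (List.all_eq_true.1 six_props k (List.mem_range.2 hk)) 4 (by norm_num)
    simp only [Bool.and_eq_true] at hz4
    refine ⟨⟨k, hk⟩, ?_⟩
    rcases hk' with hk' | hk'
    · exact Or.inr (hle _ ((M.mem_V3 (k := ⟨k, hk⟩) hi).2 hk'.1) ((M.mem_V3 (k := ⟨k, hk⟩) hj).2 hk'.2)
        ((M.mem_V3 (k := ⟨k, hk⟩) (by norm_num)).2 hz4.1.2)
        (by simpa using (M.card_six ⟨k, hk⟩ ⟨k, hk⟩).1))
    · exact Or.inl (hle _ ((M.mem_U3 (k := ⟨k, hk⟩) hi).2 hk'.1) ((M.mem_U3 (k := ⟨k, hk⟩) hj).2 hk'.2)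
        ((M.mem_U3 (k := ⟨k, hk⟩) (by norm_num)).2 hz4.2)
        (by simpa using (M.card_six ⟨k, hk⟩ ⟨k, hk⟩).2.1))
  have hd : ((List.range 3).all fun k => all64 fun i => all64 fun j =>
      (!(inV k i && inV k j) || mul i j == mul j i) &&
      (!(inU (uk k) i && inU (uk k) j) || mul i j == mul j i)) = true := by decide +kernel
  have hV : ∀ (g : H) (l : Fin 3), ∃ k : Fin 3, (M.V3 l).map (MulAut.conj g).toMonoidHom = M.U3 k ∨
      (M.V3 l).map (MulAut.conj g).toMonoidHom = M.V3 k := fun g l => by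
    refine himage g _ (closed_inV l) (fun i hi h => ?_) (fun i hi j hj h1 h2 => ?_) ?_
      (by have h := (M.card_six l l).1; rwa [inf_idem, if_pos rfl] at h)
    · have := all64_iff.1 (List.all_eq_true.1 six_props l (List.mem_range.2 l.2)) i hi
      simp only [h, Bool.not_true, Bool.false_or, Bool.and_eq_true, beq_iff_eq] at this
      exact ⟨this.1.1.1.1, this.1.1.1.2⟩
    · have hh := all64_iff.1 (all64_iff.1 (List.all_eq_true.1 hd l (List.mem_range.2 l.2)) i hi) j hj
      simp only [h1, h2, Bool.and_self, Bool.not_true, Bool.false_or, Bool.and_eq_true, beq_iff_eq] at hh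
      exact hh.1
    · have h := List.all_eq_true.1 six_gen l (List.mem_range.2 l.2)
      simp only [Bool.and_eq_true, any64_iff, all64_iff, List.contains_iff_mem, Bool.or_eq_true,
        Bool.not_eq_true'] at h
      obtain ⟨a, ha, b, hb, ⟨⟨⟨h1, h2⟩, -⟩, -⟩, h3⟩ := h.1
      exact ⟨a, ha, b, hb, h1, h2, fun i hi hpi => (h3 i hi).resolve_left (by simp [hpi])⟩
  have hU : ∀ (g : H) (l : Fin 3), ∃ k : Fin 3, (M.U3 l).map (MulAut.conj g).toMonoidHom = M.U3 k ∨
      (M.U3 l).map (MulAut.conj g).toMonoidHom = M.V3 k := fun g l => by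
    refine himage g _ (closed_inU3 l) (fun i hi h => ?_) (fun i hi j hj h1 h2 => ?_) ?_
      (by have h := (M.card_six l l).2.1; rwa [inf_idem, if_pos rfl] at h)
    · have := all64_iff.1 (List.all_eq_true.1 six_props l (List.mem_range.2 l.2)) i hi
      simp only [h, Bool.not_true, Bool.false_or, Bool.and_eq_true, beq_iff_eq] at this
      exact ⟨this.1.1.2.1, this.1.1.2.2⟩
    · have hh := all64_iff.1 (all64_iff.1 (List.all_eq_true.1 hd l (List.mem_range.2 l.2)) i hi) j hj
      simp only [h1, h2, Bool.and_self, Bool.not_true, Bool.false_or, Bool.and_eq_true, beq_iff_eq] at hh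
      exact hh.2
    · have h := List.all_eq_true.1 six_gen l (List.mem_range.2 l.2)
      simp only [Bool.and_eq_true, any64_iff, all64_iff, List.contains_iff_mem, Bool.or_eq_true,
        Bool.not_eq_true'] at h
      obtain ⟨a, ha, b, hb, ⟨⟨⟨h1, h2⟩, -⟩, -⟩, h3⟩ := h.2
      exact ⟨a, ha, b, hb, h1, h2, fun i hi hpi => (h3 i hi).resolve_left (by simp [hpi])⟩
  have hinf : ∀ (g : H) (P R : Subgroup H), Nat.card ↥(P.map (MulAut.conj g).toMonoidHom ⊓
      R.map (MulAut.conj g).toMonoidHom) = Nat.card ↥(P ⊓ R) := fun g P R => by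
    rw [← map_inf _ _ _ (MulAut.conj g).injective, LEBasic.card_map_conj]
  have hUV : ∀ a b : Fin 3, M.U3 a ≠ M.V3 b := fun a b e => by
    have h1 := (M.card_six a b).2.2
    have h2 := (M.card_six a a).2.1
    rw [← e, h2, if_pos rfl] at h1
    omega
  let Keep : H → Prop := fun g => ∃ k : Fin 3, (M.U3 0).map (MulAut.conj g).toMonoidHom = M.U3 k
  have hU' : ∀ g, Keep g → ∀ j, ∃ k, (M.U3 j).map (MulAut.conj g).toMonoidHom = M.U3 k := by
    rintro g ⟨k0, hk0⟩ j
    by_cases hj : j = 0
    · exact hj ▸ ⟨k0, hk0⟩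
    obtain ⟨k, hk | hk⟩ := hU g j
    · exact ⟨k, hk⟩
    · exfalso
      have h := hinf g (M.U3 0) (M.U3 j)
      rw [hk0, hk, (M.card_six k0 k).2.2, (M.card_six 0 j).2.1, if_neg (Ne.symm hj)] at h
      omega
  have hV' : ∀ g, Keep g → ∀ j, ∃ k, (M.V3 j).map (MulAut.conj g).toMonoidHom = M.V3 k := by
    rintro g ⟨k0, hk0⟩ j
    obtain ⟨k, hk | hk⟩ := hV g j
    · exfalso
      have h := hinf g (M.U3 0) (M.V3 j)
      rw [hk0, hk, (M.card_six k0 k).2.1, (M.card_six 0 j).2.2] at h
      split_ifs at h <;> omega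
    · exact ⟨k, hk⟩
  have hnot : ∀ g, ¬ Keep g → ∀ j, ∃ k, (M.V3 j).map (MulAut.conj g).toMonoidHom = M.U3 k := by
    intro g hg j
    obtain ⟨k0, hk0 | hk0⟩ := hU g 0
    · exact absurd ⟨k0, hk0⟩ hg
    obtain ⟨k, hk | hk⟩ := hV g j
    · exact ⟨k, hk⟩
    · exfalso
      have h := hinf g (M.U3 0) (M.V3 j)
      rw [hk0, hk, (M.card_six k0 k).1, (M.card_six 0 j).2.2] at h
      split_ifs at h <;> omega
  -- parity of the exchange
  have hpar : ∀ a b, Keep (a * b) ↔ (Keep a ↔ Keep b) := by
    intro a b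
    obtain ⟨k1, hk1⟩ : ∃ k, (M.U3 0).map (MulAut.conj b).toMonoidHom = M.U3 k ∨
        (M.U3 0).map (MulAut.conj b).toMonoidHom = M.V3 k := hU b 0
    have hc : (M.U3 0).map (MulAut.conj (a * b)).toMonoidHom =
        ((M.U3 0).map (MulAut.conj b).toMonoidHom).map (MulAut.conj a).toMonoidHom :=
      (LEBasic.map_conj_map_conj _ a b).symm
    rcases hk1 with hk1 | hk1
    · have hb : Keep b := ⟨k1, hk1⟩
      simp only [hb, iff_true]
      constructor
      · rintro ⟨k, hk⟩
        rw [hc, hk1] at hk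
        by_contra ha
        obtain ⟨l, hl | hl⟩ := hU a k1
        · obtain ⟨k0, hk0 | hk0⟩ := hU a 0
          · exact ha ⟨k0, hk0⟩
          · by_cases h0 : k1 = 0
            · rw [h0, hk0] at hk
              exact hUV k k0 hk.symm
            · have h := hinf a (M.U3 0) (M.U3 k1)
              rw [hk0, hk, inf_comm, (M.card_six k k0).2.2, (M.card_six 0 k1).2.1, if_neg (Ne.symm h0)] at h
              omega
        · rw [hl] at hk
          exact hUV k l hk.symm
      · intro ha
        obtain ⟨k, hk⟩ := hU' a ha k1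
        exact ⟨k, by rw [hc, hk1, hk]⟩
    · have hb : ¬ Keep b := fun ⟨k, hk⟩ => hUV k k1 (hk.symm.trans hk1)
      simp only [hb, iff_false]
      constructor
      · rintro ⟨k, hk⟩ ha
        obtain ⟨l, hl⟩ := hV' a ha k1
        rw [hc, hk1, hl] at hk
        exact hUV k l hk.symm
      · intro ha
        obtain ⟨k, hk⟩ := hnot a ha k1
        exact ⟨k, by rw [hc, hk1, hk]⟩
  have hS : ∀ s ∈ (M.S : Subgroup H), Keep s := by
    intro s hs
    obtain ⟨i, hi, rfl⟩ := M.surj s hs
    refine ⟨0, eq_of_le_of_card_ge ?_ (LEBasic.card_map_conj _ _).ge⟩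
    rintro _ ⟨x, hx, rfl⟩
    obtain ⟨l, hl, hpl, rfl⟩ := (M.mem_sub (closed_inU3 0)).1 hx
    show M.el i * M.el l * (M.el i)⁻¹ ∈ _
    rw [M.el_conj hi hl]
    refine M.el_mem_sub (cj_lt i l) ?_
    have h := List.all_eq_true.1 (all64_iff.1 (all64_iff.1 six_norm i hi) l hl) 0 (by decide)
    simp only [Bool.and_eq_true, Bool.or_eq_true, Bool.not_eq_true'] at h
    exact (h.1.1.1.1).resolve_left (by simpa using hpl)
  have h1 : Keep 1 := hS 1 (one_mem _)
  have hinv : ∀ g, Keep g⁻¹ ↔ Keep g := fun g => by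
    have := hpar g g⁻¹
    rw [mul_inv_cancel] at this
    exact ⟨fun h => (this.1 h1).2 h, fun h => (this.1 h1).1 h⟩
  have hall : ∀ g, Keep g := by
    intro g
    obtain ⟨u, v, huv, -, -, hu, hv⟩ := exists_parts g
    rw [← huv, hpar]
    refine iff_of_true ?_ ?_
    · obtain ⟨c, hc⟩ := hu.isPGroup.exists_le_sylow
      obtain ⟨x, hx⟩ := MulAction.exists_smul_eq H c M.S
      have hmem : x * u * x⁻¹ ∈ (M.S : Subgroup H) := by
        rw [← hx, Sylow.coe_subgroup_smul]
        exact ⟨u, hc (mem_zpowers u), rfl⟩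
      have h2 := (hpar (x * u) x⁻¹).1 (hS _ hmem)
      rw [hpar x u, hinv x] at h2
      by_cases hxk : Keep x
      · exact (h2.2 hxk).1 hxk
      · by_contra hu'
        exact hxk (h2.1 (iff_of_false hxk hu'))
    · by_contra hv'
      have hpow : ∀ n : ℕ, Keep (v ^ (2 * n + 1)) → False := by
        intro n
        induction n with
        | zero => simpa using hv'
        | succ n ih =>
          intro h
          rw [show 2 * (n + 1) + 1 = (2 * n + 1) + 1 + 1 by ring, pow_succ, hpar, pow_succ _ (2 * n + 1), hpar] at h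
          refine ih ?_
          by_contra hc
          exact hv' (h.1 (iff_of_false hc hv'))
      obtain ⟨n, hn⟩ := hv
      exact hpow n (by rw [← hn, pow_orderOf_eq_one]; exact h1)
  obtain ⟨φU, hφU⟩ := exists_permHom M.U3 M.U3_inj fun g j => hU' g (hall g) j
  obtain ⟨φV, hφV⟩ := exists_permHom M.V3 M.V3_inj fun g j => hV' g (hall g) j
  exact ⟨φU, φV, hφU, hφV⟩

end Top

end Model

end Cfsg.Agent.A8Rec
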